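import Cfsg.Agent.S0483
import Cfsg.Agent.Lib.GW.MaxBetaTop
import Cfsg.Agent.Lib.GW.TwoClassTop
import Cfsg.Agent.Lib.GW.ProperStruct

/-!
# Dihedral Sylow 2-subgroups and one class of involutions: centralizer orders

The orders of a group with dihedral Sylow 2-subgroups, trivial odd core and one class of involutions,
and of the centralizers of an involution and of a four-group, from the Gorenstein-Walter theorem.
-/

set_option autoImplicit false
set_option linter.style.haveILetI false
open Cfsg CfsgLib.GW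
open scoped commutatorElement

namespace CfsgLib.TwoPointAltFour

universe u

/-- A simple group with dihedral Sylow 2-subgroups is `PSL₂(q)` or `A₇`. -/
theorem isGWGroup_of_simple {N : Type u} [Group N] [Finite N] [IsSimpleGroup N]
    (hd : HasDihedralSylow N) : IsGWGroup N := by
  have hns := not_isSolvable_of_hasDihedralSylow hd
  haveI : Group.IsPerfect N := ⟨by
    rcases (inferInstance : (commutator N).Normal).eq_bot_or_eq_top with h | h
    · exfalso
      refine hns (IsSimpleGroup.comm_iff_isSolvable.1 fun a b => ?_)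
      have hab : ⁅a, b⁆ ∈ commutator N :=
        Subgroup.commutator_mem_commutator (Subgroup.mem_top a) (Subgroup.mem_top b)
      rw [h, Subgroup.mem_bot, commutatorElement_eq_one_iff_mul_comm] at hab
      exact hab
    · exact h⟩
  have hbot : Cfsg.oddCore N = ⊥ := by
    haveI : (Cfsg.oddCore N).Normal := by
      haveI := CfsgLib.Cores.pPrimeCore_characteristic 2 N
      rw [Cfsg.oddCore]; infer_instance
    rcases (inferInstance : (Cfsg.oddCore N).Normal).eq_bot_or_eq_top with h | h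
    · exact h
    · exfalso
      refine hns (Cfsg.Agent.S0205.result ?_)
      have := CfsgLib.Cores.odd_card_oddCore (G := N)
      rwa [h, Subgroup.card_top] at this
  obtain ⟨S, n, hn, hS⟩ := hd
  exact IsGWGroup.of_equiv ((QuotientGroup.quotientMulEquivOfEq hbot).trans QuotientGroup.quotientBot).symm
    (Cfsg.Agent.S0483.result S n hn hS)

/-- In a 2-group with one class of involutions there is only one involution. -/
theorem eq_of_isPGroup_two {Q : Type u} [Group Q] [Finite Q] (hp : IsPGroup 2 Q)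
    (hone : ∀ i j : Q, orderOf i = 2 → orderOf j = 2 → IsConj i j) {t u : Q} (ht : orderOf t = 2)
    (hu : orderOf u = 2) : t = u := by
  haveI : Fact (Nat.Prime 2) := ⟨Nat.prime_two⟩
  haveI : Nontrivial Q := ⟨⟨t, 1, fun h => by rw [h, orderOf_one] at ht; omega⟩⟩
  haveI := hp.center_nontrivial
  obtain ⟨k, hk0, hk⟩ := ((hp.to_subgroup (Subgroup.center Q)).nontrivial_iff_card).1 inferInstance
  obtain ⟨z, hz⟩ := exists_prime_orderOf_dvd_card' (G := Subgroup.center Q) 2
    (hk ▸ dvd_pow_self 2 hk0.ne')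
  have key : ∀ a : Q, orderOf a = 2 → a = z := fun a ha => by
    obtain ⟨g, hg⟩ := isConj_iff.1 (hone (z : Q) a (by rw [Subgroup.orderOf_coe, hz]) ha)
    rw [← hg, Subgroup.mem_center_iff.1 z.2 g, mul_inv_cancel_right]
  rw [key t ht, key u hu]

/-- The order of `A₇`. -/
theorem card_seven : Nat.card (alternatingGroup (Fin 7)) = 2520 := by
  rw [nat_card_alternatingGroup, Nat.card_eq_fintype_card, Fintype.card_fin]
  rfl

/-- The orders, in a group with dihedral Sylow 2-subgroups, trivial odd core and one class of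
involutions. -/
theorem core_free_counts {Q : Type u} [Group Q] [Finite Q] (hd : HasDihedralSylow Q)
    (hO : Cfsg.oddCore Q = ⊥) (t u : Q) (ht : orderOf t = 2) (hu : orderOf u = 2)
    (htu : Commute t u) (hne : t ≠ u)
    (hone : ∀ i j : Q, orderOf i = 2 → orderOf j = 2 → IsConj i j) :
    Nonempty (Q ≃* alternatingGroup (Fin 7)) ∨ ∃ (q φ : ℕ) (ε : ℤ), 3 ≤ q ∧ Odd q ∧
      (ε = 1 ∨ ε = -1) ∧ (4 : ℤ) ∣ (q : ℤ) - ε ∧ Odd φ ∧
      2 * (Nat.card Q : ℤ) = q * ((q : ℤ) ^ 2 - 1) * φ ∧
      (Nat.card (Subgroup.centralizer ({t} : Set Q)) : ℤ) = ((q : ℤ) - ε) * φ ∧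
      Nat.card (Subgroup.centralizer ({t, u} : Set Q)) = 4 * φ := by
  rcases top_cases hO hd (fun N hN hdN => by haveI := hN; exact isGWGroup_of_simple hdN) with
    hp | ⟨N, hNn, hCN, hNt⟩
  · exact absurd (eq_of_isPGroup_two hp hone ht hu) hne
  haveI := hNn
  by_cases h7 : Nonempty (N ≃* alternatingGroup (Fin 7))
  · left
    rcases AutL.models N hCN hNt hd with ⟨F, iF, iT, hodd, ⟨e⟩, -⟩ | ⟨htop, ⟨e⟩, -⟩
    · exfalso
      have h2 : 2 * Nat.card N = Fintype.card F * (Fintype.card F ^ 2 - 1) := by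
        rw [Nat.card_congr e.toEquiv, CfsgLib.ClassicalLinear.card_PSL_two_of_odd rfl hodd]
      obtain ⟨e7⟩ := h7
      rw [Nat.card_congr e7.toEquiv, card_seven] at h2
      generalize Fintype.card F = r at h2
      have h18 : r ≤ 18 := by
        by_contra h19
        push Not at h19
        have : 19 * (19 ^ 2 - 1) ≤ r * (r ^ 2 - 1) :=
          Nat.mul_le_mul h19 (Nat.sub_le_sub_right (Nat.pow_le_pow_left h19 2) 1)
        omega
      interval_cases r <;> omega
    · exact ⟨((Subgroup.topEquiv (G := Q)).symm.trans (MulEquiv.subgroupCongr htop.symm)).trans e⟩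
  right
  obtain ⟨s, hsN, hs, -, -⟩ := MaxBeta.exists_mem_commute N hCN hNt hd ht
  have hall : ∀ w : Q, orderOf w = 2 → w ∈ N := fun w hw => by
    obtain ⟨g, hg⟩ := isConj_iff.1 (hone s w hs hw)
    exact hg ▸ hNn.conj_mem s hsN g
  obtain ⟨q, φ, ε, -, hodd, hq, hε, h4, hφ, -, ⟨hcard, hct, -, hpair⟩ | ⟨-, ⟨w, hw, hwN, -⟩, -⟩⟩ :=
    MaxBeta.counts N hCN hNt hd (hNt.resolve_right h7) h7 ht (hall t ht)
  · exact ⟨q, φ, ε, hq, hodd, hε, h4, hφ, hcard, hct, hpair u hu htu.symm.eq hne.symm⟩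
  · exact absurd (hall w hw) hwN

/-- The orders, in a group with dihedral Sylow 2-subgroups of order at least 8. -/
theorem dihedral_counts {X : Type u} [Group X] [Finite X] (hd : HasDihedralSylow X)
    (_h8 : 8 ∣ Nat.card X) (hO : Cfsg.oddCore X = ⊥) (t u : X) (ht : orderOf t = 2)
    (hu : orderOf u = 2) (htu : Commute t u) (hne : t ≠ u)
    (hone : ∀ i j : X, orderOf i = 2 → orderOf j = 2 → IsConj i j) :
    Nonempty (X ≃* ↥(alternatingGroup (Fin 7))) ∨ ∃ (q φ : ℕ) (ε : ℤ), 3 ≤ q ∧ Odd q ∧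
      (ε = 1 ∨ ε = -1) ∧ Odd φ ∧
      2 * (Nat.card X : ℤ) = q * ((q : ℤ) ^ 2 - 1) * φ ∧
      (Nat.card (Subgroup.centralizer ({t} : Set X)) : ℤ) = ((q : ℤ) - ε) * φ ∧
      Nat.card (Subgroup.centralizer ({t, u} : Set X)) = 4 * φ := by
  rcases core_free_counts hd hO t u ht hu htu hne hone with
    h | ⟨q, φ, ε, hq, hodd, hε, -, hφ, h1, h2, h3⟩
  · exact Or.inl h
  · exact Or.inr ⟨q, φ, ε, hq, hodd, hε, hφ, h1, h2, h3⟩

end CfsgLib.TwoPointAltFour
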