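import Cfsg.Agent.Lib.TwoPointAltFour.DirBEven

/-!
Doubly transitive groups with two-point stabiliser `A₄`, direct case, `Fix t = Fix V` and
`n = k²` with `k` even: `k = 4`.
-/

set_option autoImplicit false
set_option linter.style.haveILetI false
open MulAction

namespace CfsgLib.TwoPointAltFour.Ctx

variable {G Ω : Type*} [Group G] [MulAction G Ω] (C : Ctx G Ω)

theorem dirA_k_four [Finite G] [Finite Ω] [FaithfulSMul G Ω] (_hD : C.IsDir) (hA : C.CaseA)
    (hk : Even (Nat.card C.Δ)) (hn : Nat.card Ω = Nat.card C.Δ * Nat.card C.Δ) :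
    Nat.card C.Δ = 4 := by
  classical
  haveI : Fact (Nat.Prime 2) := ⟨Nat.prime_two⟩
  have hk2 := C.two_le_k
  obtain ⟨r, hr⟩ := hk
  have hn4 : Nat.card Ω = 4 * (r * r) := by rw [hn, hr]; ring
  have hXc : Nat.card (stabilizer G C.a) = 12 * (Nat.card Ω - 1) := C.card_stabilizer_a
  have hnpos : 0 < Nat.card Ω := by haveI : Nonempty Ω := ⟨C.a⟩; exact Nat.card_pos
  have h8 : ¬ 8 ∣ Nat.card (stabilizer G C.a) := by
    rw [hXc]
    omega
  set X := stabilizer G C.a with hX
  have hHX : C.H ≤ X := fun g hg => (C.mem_H_iff.1 hg).1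
  let t' : X := ⟨C.t, hHX C.t_mem⟩
  let v' : X := ⟨C.v, hHX C.v_mem⟩
  have ho : ∀ {g : G} (hg : g ∈ X), orderOf g = 2 → orderOf (⟨g, hg⟩ : X) = 2 := fun hg h => by
    rw [Subgroup.orderOf_mk]; exact h
  have hVX : C.V ≤ X := C.V_le.trans hHX
  have hidx : ¬ 2 ∣ (C.V.subgroupOf X).index := fun h => h8 (by
    rw [← (C.V.subgroupOf X).card_mul_index,
      Nat.card_congr (Subgroup.subgroupOfEquivOfLe hVX).toEquiv, C.card_V]
    exact (Nat.mul_dvd_mul_left 4 h : 4 * 2 ∣ _))
  have hVp : IsPGroup 2 (C.V.subgroupOf X) := IsPGroup.of_card (n := 2) (by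
    rw [Nat.card_congr (Subgroup.subgroupOfEquivOfLe hVX).toEquiv, C.card_V]; rfl)
  let S : Sylow 2 X := hVp.toSylow hidx
  have htoT : ∀ i : X, orderOf i = 2 → IsConj t' i := by
    intro i hi
    obtain ⟨P, hP⟩ := (IsPGroup.of_card (p := 2) (n := 1)
      (G := Subgroup.zpowers i) (by rw [Nat.card_zpowers, hi, pow_one])).exists_le_sylow
    obtain ⟨g, hg⟩ := MulAction.exists_smul_eq X S P
    have hiP : i ∈ (P : Subgroup X) := hP (Subgroup.mem_zpowers i)
    rw [← hg, Sylow.coe_subgroup_smul] at hiP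
    obtain ⟨w, hw, hwi'⟩ := hiP
    have hwi : g * w * g⁻¹ = i := hwi'
    have hwV : (w : G) ∈ C.V := hw
    have hw1 : (w : G) ≠ 1 := by
      intro h
      have hw' : w = 1 := Subtype.ext h
      subst hw'
      rw [mul_one, mul_inv_cancel] at hwi
      rw [← hwi, orderOf_one] at hi
      omega
    obtain ⟨y, hy, hyw⟩ := C.isConj_t_of_mem hwV.1 hwV.2 hw1
    refine IsConj.trans (isConj_iff.2 ⟨⟨y, hHX hy⟩, Subtype.ext hyw⟩) (isConj_iff.2 ⟨g, ?_⟩)
    exact hwi
  have hone : ∀ i j : X, orderOf i = 2 → orderOf j = 2 → IsConj i j := fun i j hi hj =>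
    (htoT i hi).symm.trans (htoT j hj)
  have hcard : ∀ s : Set X, Nat.card (Subgroup.centralizer s) =
      Nat.card (Subgroup.centralizer (Subtype.val '' s) ⊓ X : Subgroup G) := fun s => by
    rw [GW.MaxBeta.card_centralizer_map X.subtype X.subtype_injective s, Subgroup.range_subtype,
      inf_comm]
    rfl
  have hct : Nat.card (Subgroup.centralizer ({t'} : Set X)) = 4 * (Nat.card C.Δ - 1) := by
    rw [hcard, Set.image_singleton]
    exact C.card_centralizer_a
  have hcv : Nat.card (Subgroup.centralizer ({t', v'} : Set X)) = 4 * (Nat.card C.Δ - 1) := by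
    rw [hcard, Set.image_pair, C.card_Δ_of_caseA hA]
    exact C.card_CVa h8
  rcases klein_ratio_eq h8 t' v' (ho _ C.orderOf_t) (ho _ C.orderOf_v)
      (Subtype.ext C.commute_t_v.eq) (fun h => C.t_ne_v (congrArg (Subtype.val : X → G) h)) hone
      (by rw [hct, hcv]) with h | h <;>
    rw [hct, hXc, hn] at h <;>
    obtain ⟨j, hj⟩ : ∃ j, Nat.card C.Δ = j + 2 := ⟨_, (Nat.sub_add_cancel hk2).symm⟩ <;>
    rw [hj] at h ⊢ <;>
    rw [show (j + 2) * (j + 2) - 1 = (j + 3) * (j + 1) by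
      rw [show (j + 2) * (j + 2) = (j + 3) * (j + 1) + 1 by ring, Nat.add_sub_cancel],
      show j + 2 - 1 = j + 1 from rfl] at h
  · have : (j + 3) * (j + 1) = 1 * (j + 1) := by linarith
    have := Nat.eq_of_mul_eq_mul_right (Nat.succ_pos j) this
    omega
  · have : (j + 3) * (j + 1) = 5 * (j + 1) := by linarith
    have := Nat.eq_of_mul_eq_mul_right (Nat.succ_pos j) this
    omega

end CfsgLib.TwoPointAltFour.Ctx
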