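import Cfsg.Agent.Lib.TwoPointAltFour.DihedralCounts
import Cfsg.Agent.Lib.GW.FourFormula

/-!
# A four-group as Sylow 2-subgroup and one class of involutions: the ratio `|X| |C(t,u)|² / |C(t)|³`
-/

set_option autoImplicit false
set_option linter.style.haveILetI false
open Cfsg CfsgLib.GW

namespace CfsgLib.TwoPointAltFour

/-- The arithmetic on the core-free quotient. -/
theorem ratio_arith {q : ℕ} {N C D φ : ℤ} {ε : ℤ} (hq : 3 ≤ q) (hodd : Odd q)
    (hε : ε = 1 ∨ ε = -1) (h4 : (4 : ℤ) ∣ (q : ℤ) - ε) (hN : 2 * N = q * ((q : ℤ) ^ 2 - 1) * φ)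
    (hC : C = ((q : ℤ) - ε) * φ) (hD : D = 4 * φ) (hφ : 0 ≤ φ) :
    N * D ^ 2 = 3 * C ^ 3 ∨ 5 * C ^ 3 ≤ N * D ^ 2 := by
  have hND : N * D ^ 2 = 8 * q * ((q : ℤ) ^ 2 - 1) * φ ^ 3 := by
    subst hD
    linear_combination (8 * φ ^ 2) * hN
  rw [hND, hC]
  obtain ⟨k, hk⟩ := hodd
  have h3 : 0 ≤ φ ^ 3 := pow_nonneg hφ 3
  rcases hε with rfl | rfl
  · right
    have : (5 : ℤ) * ((q : ℤ) - 1) ^ 3 ≤ 8 * q * ((q : ℤ) ^ 2 - 1) := by
      have hq' : (3 : ℤ) ≤ q := by exact_mod_cast hq
      nlinarith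
    rw [mul_pow, ← mul_assoc]
    exact mul_le_mul_of_nonneg_right this h3
  · by_cases h7 : 7 ≤ q
    · right
      have : (5 : ℤ) * ((q : ℤ) + 1) ^ 3 ≤ 8 * q * ((q : ℤ) ^ 2 - 1) := by
        have hq' : (7 : ℤ) ≤ q := by exact_mod_cast h7
        nlinarith
      rw [mul_pow, ← mul_assoc, sub_neg_eq_add]
      exact mul_le_mul_of_nonneg_right this h3
    · left
      have : q = 3 := by omega
      subst this
      push_cast
      ring

/-- The reduction modulo the core: `o`, `a`, `b` are the orders in the core, `N`, `C`, `D` those in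
the quotient. -/
theorem klein_reduction {X : Type*} [Group X] [Finite X] (h8 : ¬ 8 ∣ Nat.card X) (t u : X)
    (ht : orderOf t = 2) (hu : orderOf u = 2) (htu : Commute t u) (hne : t ≠ u)
    (hone : ∀ i j : X, orderOf i = 2 → orderOf j = 2 → IsConj i j) :
    ∃ (o a b N C D q φ : ℕ) (ε : ℤ), Nat.card X = o * N ∧
      Nat.card (Subgroup.centralizer ({t} : Set X)) = a * C ∧
      Nat.card (Subgroup.centralizer ({t, u} : Set X)) = b * D ∧
      o * b ^ 2 = a * a * a ∧ 0 < a ∧ b ∣ a ∧ D ∣ C ∧
      3 ≤ q ∧ Odd q ∧ (ε = 1 ∨ ε = -1) ∧ (4 : ℤ) ∣ (q : ℤ) - ε ∧ Odd φ ∧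
      2 * (N : ℤ) = q * ((q : ℤ) ^ 2 - 1) * φ ∧ (C : ℤ) = ((q : ℤ) - ε) * φ ∧ D = 4 * φ := by
  classical
  haveI : Fact (Nat.Prime 2) := ⟨Nat.prime_two⟩
  have htt : t * t = 1 := PGLTwo.mul_self_of_orderOf ht
  have huu : u * u = 1 := PGLTwo.mul_self_of_orderOf hu
  have hv2 : t * u * (t * u) = 1 := by
    rw [mul_assoc, ← mul_assoc u, ← htu.eq, mul_assoc, huu, mul_one, htt]
  have hv : orderOf (t * u) = 2 := by
    refine orderOf_eq_prime (by rw [pow_two, hv2]) fun h => hne ?_
    rw [mul_eq_one_iff_eq_inv, inv_eq_of_mul_eq_one_right huu] at h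
    exact h
  -- the four-group
  have ht1 : t ≠ 1 := fun h => by rw [h, orderOf_one] at ht; omega
  have hu1 : u ≠ 1 := fun h => by rw [h, orderOf_one] at hu; omega
  have hv1 : t * u ≠ 1 := fun h => by rw [h, orderOf_one] at hv; omega
  let V : Subgroup X :=
    { carrier := {x | x = 1 ∨ x = t ∨ x = u ∨ x = t * u}
      one_mem' := Or.inl rfl
      mul_mem' := by
        have e : u * t = t * u := htu.symm.eq
        have e1 : t * (t * u) = u := by rw [← mul_assoc, htt, one_mul]
        have e2 : u * (t * u) = t := by rw [← e, ← mul_assoc, huu, one_mul]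
        have e3 : t * u * t = u := by rw [← e, mul_assoc, htt, mul_one]
        have e4 : t * u * u = t := by rw [mul_assoc, huu, mul_one]
        rintro a b (rfl | rfl | rfl | rfl) (rfl | rfl | rfl | rfl) <;>
          simp [htt, huu, hv2, e, e1, e2, e3, e4]
      inv_mem' := by
        rintro a (rfl | rfl | rfl | rfl)
        · exact Or.inl inv_one
        · exact Or.inr (Or.inl (inv_eq_of_mul_eq_one_right htt))
        · exact Or.inr (Or.inr (Or.inl (inv_eq_of_mul_eq_one_right huu)))
        · exact Or.inr (Or.inr (Or.inr (inv_eq_of_mul_eq_one_right hv2))) }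
  have hVcard : Nat.card V = 4 := by
    have hset : (V : Set X) = (({1, t, u, t * u} : Finset X) : Set X) := by
      ext x; simp [V]
    rw [← SetLike.coe_sort_coe, hset, Nat.card_coe_set_eq, Set.ncard_coe_finset,
      Finset.card_insert_of_notMem, Finset.card_insert_of_notMem, Finset.card_insert_of_notMem,
      Finset.card_singleton] <;>
      simp [hne, ht1.symm, hu1.symm, hv1.symm, ht1, hu1]
  have hVp : IsPGroup 2 V := IsPGroup.of_card (n := 2) (by rw [hVcard]; rfl)
  -- a four-group is a Sylow 2-subgroup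
  have hd : HasDihedralSylow X := by
    have hidx : ¬ 2 ∣ V.index := fun h => h8 (by
      rw [← V.card_mul_index, hVcard]
      exact (Nat.mul_dvd_mul_left 4 h : 4 * 2 ∣ 4 * V.index))
    haveI : Nontrivial V := Finite.one_lt_card_iff_nontrivial.1 (by rw [hVcard]; decide)
    haveI : IsKleinFour V := ⟨hVcard, (Monoid.exponent_eq_prime_iff Nat.prime_two).2 fun a ha => by
      rw [← Subgroup.orderOf_coe]
      rcases a.2 with h | h | h | h
      · exact absurd (Subtype.ext h) ha
      all_goals rw [h]; assumption⟩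
    exact ⟨hVp.toSylow hidx, 2, le_rfl,
      (IsKleinFour.nonempty_mulEquiv : Nonempty (V ≃* DihedralGroup 2))⟩
  set O := Cfsg.oddCore X with hOdef
  haveI : O.Normal := by
    haveI := CfsgLib.Cores.pPrimeCore_characteristic 2 X
    rw [hOdef, Cfsg.oddCore]; infer_instance
  have hOodd : Odd (Nat.card O) := CfsgLib.Cores.odd_card_oddCore
  set π := QuotientGroup.mk' O with hπ
  have hker : π.ker = O := QuotientGroup.ker_mk' _
  have htV : t ∈ V := Or.inr (Or.inl rfl)
  have huV : u ∈ V := Or.inr (Or.inr (Or.inl rfl))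
  -- centralizers modulo the core
  have h1 := card_centralizer_hom π (QuotientGroup.mk'_surjective _) (by rw [hker]; exact hOodd) {t}
    (hVp.to_le ((Subgroup.closure_le _).2 (by simpa using htV)))
  have h2 := card_centralizer_hom π (QuotientGroup.mk'_surjective _) (by rw [hker]; exact hOodd)
    {t, u} (hVp.to_le ((Subgroup.closure_le _).2 (by
      intro x hx
      rcases hx with rfl | rfl
      · exact htV
      · exact huV)))
  rw [Set.image_singleton, hker] at h1
  rw [Set.image_pair, hker] at h2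
  -- the order formula in the core
  have hconj : ∀ w : X, orderOf w = 2 →
      Nat.card (O ⊓ Subgroup.centralizer ({w} : Set X) : Subgroup X) =
        Nat.card (O ⊓ Subgroup.centralizer ({t} : Set X) : Subgroup X) := by
    intro w hw
    obtain ⟨g, hg⟩ := isConj_iff.1 (hone t w ht hw)
    rw [← Subgroup.card_map_of_injective (f := (MulAut.conj g).toMonoidHom) (MulAut.conj g).injective
      (K := O ⊓ Subgroup.centralizer ({t} : Set X))]
    congr 2
    ext x
    rw [Subgroup.mem_map_equiv, MulAut.conj_symm_apply]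
    simp only [Subgroup.mem_inf, Subgroup.mem_centralizer_singleton_iff]
    subst hg
    constructor
    · rintro ⟨hx, hc⟩
      refine ⟨?_, ?_⟩
      · have := (inferInstance : O.Normal).conj_mem x hx g⁻¹
        rwa [inv_inv] at this
      · calc g⁻¹ * x * g * t = g⁻¹ * (x * (g * t * g⁻¹)) * g := by group
          _ = g⁻¹ * (g * t * g⁻¹ * x) * g := by rw [hc]
          _ = t * (g⁻¹ * x * g) := by group
    · rintro ⟨hx, hc⟩
      refine ⟨?_, ?_⟩
      · have := (inferInstance : O.Normal).conj_mem _ hx g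
        rwa [show g * (g⁻¹ * x * g) * g⁻¹ = x by group] at this
      · calc x * (g * t * g⁻¹) = g * (g⁻¹ * x * g * t) * g⁻¹ := by group
          _ = g * (t * (g⁻¹ * x * g)) * g⁻¹ := by rw [hc]
          _ = g * t * g⁻¹ * x := by group
  have hR := card_mul_sq_eq hOodd htt huu htu
    (Subgroup.normalizer_eq_top (O) ▸ Subgroup.mem_top t)
    (Subgroup.normalizer_eq_top (O) ▸ Subgroup.mem_top u)
  rw [hconj u hu, hconj (t * u) hv] at hR
  -- the quotient
  have hcardX : Nat.card X = Nat.card O * Nat.card (X ⧸ O) := by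
    rw [Subgroup.card_eq_card_quotient_mul_card_subgroup O, mul_comm]
  have hinj := CfsgLib.GW.mk_injective_on_pgroup hVp O hOodd
  have hord : ∀ w ∈ V, orderOf (π w) = orderOf w := fun w hw => by
    exact (orderOf_injective (π.comp V.subtype) hinj ⟨w, hw⟩).trans (Subgroup.orderOf_coe _).symm
  have hneb : π t ≠ π u := fun h =>
    hne (congrArg Subtype.val (@hinj ⟨t, htV⟩ ⟨u, huV⟩ h))
  have honeb : ∀ i j : X ⧸ O, orderOf i = 2 → orderOf j = 2 → IsConj i j := by
    have lift : ∀ i : X ⧸ O, orderOf i = 2 → ∃ w : X, orderOf w = 2 ∧ π w = i := by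
      intro i hi
      obtain ⟨x, rfl⟩ := QuotientGroup.mk'_surjective O i
      have hx2 : x ^ 2 ∈ O := by
        rw [← hker, MonoidHom.mem_ker, map_pow, ← hi, pow_orderOf_eq_one]
      set n := Nat.card O with hn
      refine ⟨x ^ n, ?_, ?_⟩
      · refine orderOf_eq_prime ?_ fun h => ?_
        · rw [← pow_mul, mul_comm, pow_mul]
          exact congrArg Subtype.val (pow_card_eq_one' (G := O) (x := ⟨x ^ 2, hx2⟩))
        · have := congrArg π h
          rw [map_pow, map_one, ← orderOf_dvd_iff_pow_eq_one, hi] at this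
          exact Nat.not_even_iff_odd.2 hOodd (even_iff_two_dvd.2 this)
      · obtain ⟨k, hk⟩ := hOodd
        rw [map_pow, hk, pow_succ, pow_mul, ← hi, pow_orderOf_eq_one, one_pow, one_mul]
    intro i j hi hj
    obtain ⟨a, ha, rfl⟩ := lift i hi
    obtain ⟨b, hb, rfl⟩ := lift j hj
    exact π.map_isConj (hone a b ha hb)
  rcases core_free_counts (hasDihedralSylow_quotient hd)
      (CfsgLib.Cores.pPrimeCore_quotient_pPrimeCore 2) (π t) (π u) (by rw [hord t htV, ht])
      (by rw [hord u huV, hu]) (htu.map π) hneb honeb with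
    ⟨⟨e⟩⟩ | ⟨q, φ, ε, hq, hodd, hε, h4, hφ, hN, hC, hD⟩
  · exfalso
    refine h8 ?_
    rw [hcardX, Nat.card_congr e.toEquiv, card_seven]
    exact Dvd.dvd.mul_left (by decide) _
  exact ⟨_, _, _, _, _, _, q, φ, ε, hcardX, h1, h2, hR, Nat.card_pos,
    Subgroup.card_dvd_of_le (inf_le_inf_left _ (Subgroup.centralizer_le (by simp))),
    Subgroup.card_dvd_of_le (Subgroup.centralizer_le (by simp)), hq, hodd, hε, h4, hφ, hN, hC, hD⟩

/-- Four-group Sylow 2-subgroups and one class of involutions: the ratio is 3 or at least 5. -/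
theorem klein_ratio {X : Type*} [Group X] [Finite X] (h8 : ¬ 8 ∣ Nat.card X) (t u : X)
    (ht : orderOf t = 2) (hu : orderOf u = 2) (htu : Commute t u) (hne : t ≠ u)
    (hone : ∀ i j : X, orderOf i = 2 → orderOf j = 2 → IsConj i j) :
    Nat.card X * Nat.card (Subgroup.centralizer ({t, u} : Set X)) ^ 2 =
        3 * Nat.card (Subgroup.centralizer ({t} : Set X)) ^ 3 ∨
      5 * Nat.card (Subgroup.centralizer ({t} : Set X)) ^ 3 ≤
        Nat.card X * Nat.card (Subgroup.centralizer ({t, u} : Set X)) ^ 2 := by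
  obtain ⟨o, a, b, N', C', D', q, φ, ε, hX, h1, h2, hR, -, -, -, hq, hodd, hε, h4, -, hN, hC, hD⟩ :=
    klein_reduction h8 t u ht hu htu hne hone
  have key := ratio_arith hq hodd hε h4 hN hC (D := (D' : ℤ)) (by rw [hD]; push_cast; rfl)
    (Int.natCast_nonneg φ)
  rw [h1, h2, hX]
  have e : o * N' * (b * D') ^ 2 = a * a * a * (N' * D' ^ 2) := by
    rw [← hR]; ring
  rw [e]
  rcases key with h | h
  · left
    have h' : N' * D' ^ 2 = 3 * C' ^ 3 := by exact_mod_cast h
    rw [h']; ring
  · right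
    have h' : 5 * C' ^ 3 ≤ N' * D' ^ 2 := by exact_mod_cast h
    calc 5 * (a * C') ^ 3 = a * a * a * (5 * C' ^ 3) := by ring
      _ ≤ _ := Nat.mul_le_mul_left _ h'

/-- If the centralizers of an involution and of the four-group have the same order, then the ratio
is `3` or `15`. -/
theorem klein_ratio_eq {X : Type*} [Group X] [Finite X] (h8 : ¬ 8 ∣ Nat.card X) (t u : X)
    (ht : orderOf t = 2) (hu : orderOf u = 2) (htu : Commute t u) (hne : t ≠ u)
    (hone : ∀ i j : X, orderOf i = 2 → orderOf j = 2 → IsConj i j)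
    (heq : Nat.card (Subgroup.centralizer ({t, u} : Set X)) =
      Nat.card (Subgroup.centralizer ({t} : Set X))) :
    Nat.card X = 3 * Nat.card (Subgroup.centralizer ({t} : Set X)) ∨
      Nat.card X = 15 * Nat.card (Subgroup.centralizer ({t} : Set X)) := by
  obtain ⟨o, a, b, N, C, D, q, φ, ε, hX, h1, h2, hR, ha, hba, hDC, hq, hodd, hε, h4, hφ, hN, hC, hD⟩ :=
    klein_reduction h8 t u ht hu htu hne hone
  rw [h1, h2] at heq
  have hφ0 : 0 < φ := hφ.pos
  have hC0 : 0 < C := by
    rcases Nat.eq_zero_or_pos C with h | h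
    · subst h
      rcases hε with rfl | rfl <;>
      · push_cast at hC
        have : (0 : ℤ) < (φ : ℤ) := by exact_mod_cast hφ0
        have hq' : (3 : ℤ) ≤ q := by exact_mod_cast hq
        nlinarith
    · exact h
  have hba' : b ≤ a := Nat.le_of_dvd ha hba
  have hDC' : D ≤ C := Nat.le_of_dvd hC0 hDC
  have hb : b = a := by
    refine le_antisymm hba' (Nat.le_of_mul_le_mul_right ?_ hC0)
    calc a * C = b * D := heq.symm
      _ ≤ b * C := Nat.mul_le_mul_left b hDC'
  subst hb
  have hCD : D = C := Nat.eq_of_mul_eq_mul_left ha heq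
  subst hCD
  have ho : o = b := Nat.eq_of_mul_eq_mul_right (show 0 < b * b by positivity)
    (by rw [← pow_two, hR]; ring)
  subst ho
  rw [h1, hX]
  have hqe : (q : ℤ) - ε = 4 := by
    rw [hD] at hC
    push_cast at hC
    exact mul_right_cancel₀ (show (φ : ℤ) ≠ 0 by exact_mod_cast hφ0.ne') hC.symm
  rcases hε with rfl | rfl
  · right
    have : q = 5 := by omega
    subst this
    have : N = 15 * D := by omega
    rw [this]; ring
  · left
    have : q = 3 := by omega
    subst this
    have : N = 3 * D := by omega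
    rw [this]; ring

end CfsgLib.TwoPointAltFour
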