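import Cfsg.Agent.Lib.TwoPointAltFour.Common
import Cfsg.Agent.Lib.TwoPointAltFour.KleinRatio

/-!
Doubly transitive groups with two-point stabiliser `A₄`, direct case, `t` fixing more points than
its four-group, even number of fixed points: impossible.
-/

set_option autoImplicit false

set_option linter.style.haveILetI false
open MulAction

namespace CfsgLib.TwoPointAltFour.Ctx

variable {G Ω : Type*} [Group G] [MulAction G Ω] (C : Ctx G Ω)

/-- Orbit and stabiliser, for a subgroup and a described orbit. -/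
theorem card_eq_orbit_mul [Finite G] [Finite Ω] (K : Subgroup G) (c : Ω) (D : Set Ω)
    (hD : ∀ d, d ∈ D ↔ ∃ g ∈ K, g • c = d) :
    Nat.card K = Nat.card D * Nat.card (K ⊓ stabilizer G c : Subgroup G) := by
  have h1 := Subgroup.index_mul_card (stabilizer ↥K c)
  rw [index_stabilizer] at h1
  have hst : Nat.card (stabilizer ↥K c) = Nat.card (K ⊓ stabilizer G c : Subgroup G) :=
    Nat.card_congr
      { toFun := fun g => ⟨g.1.1, g.1.2, g.2⟩
        invFun := fun g => ⟨⟨g.1, g.2.1⟩, g.2.2⟩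
        left_inv := fun g => rfl
        right_inv := fun g => rfl }
  have horb : orbit ↥K c = D := Set.ext fun d => by
    rw [hD, mem_orbit_iff]
    exact ⟨fun ⟨g, hg⟩ => ⟨g.1, g.2, hg⟩, fun ⟨g, hg, h⟩ => ⟨⟨g, hg⟩, h⟩⟩
  rw [← h1, hst, horb, Nat.card_coe_set_eq]

/-- There is always a point different from a given one among `a`, `b`. -/
theorem exists_ne (c : Ω) : ∃ d, d ≠ c ∧ (d = C.a ∨ d = C.b) := by
  by_cases h : c = C.a
  · exact ⟨C.b, h ▸ C.hab.symm, Or.inr rfl⟩
  · exact ⟨C.a, Ne.symm h, Or.inl rfl⟩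

/-- The point stabiliser has order `12 (n - 1)`. -/
theorem card_stabilizer_a [Finite G] [Finite Ω] :
    Nat.card (stabilizer G C.a) = 12 * (Nat.card Ω - 1) := by
  have h := card_eq_orbit_mul (⊤ : Subgroup G) C.a Set.univ fun d => by
    refine ⟨fun _ => ?_, fun _ => trivial⟩
    obtain ⟨d', hd', -⟩ := C.exists_ne d
    obtain ⟨g, h1, -⟩ := C.trans d d' hd'.symm
    exact ⟨g, trivial, h1⟩
  rw [Subgroup.card_top, top_inf_eq, C.card_G, Nat.card_congr (Equiv.Set.univ Ω)] at h
  haveI : Nonempty Ω := ⟨C.a⟩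
  refine Nat.eq_of_mul_eq_mul_left (Nat.card_pos (α := Ω)) ?_
  rw [← h]; ring

/-- The centraliser of `t` in the point stabiliser has order `4 (k - 1)`. -/
theorem card_centralizer_a [Finite G] [Finite Ω] :
    Nat.card (Subgroup.centralizer ({C.t} : Set G) ⊓ stabilizer G C.a : Subgroup G) =
      4 * (Nat.card C.Δ - 1) := by
  have h := card_eq_orbit_mul (Subgroup.centralizer ({C.t} : Set G)) C.a C.Δ fun d => by
    constructor
    · intro hd
      obtain ⟨d', hd', hcase⟩ := C.exists_ne d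
      have hd'Δ : d' ∈ C.Δ := by
        rcases hcase with rfl | rfl
        exacts [C.ι_smul_a _, C.ι_smul_b _]
      obtain ⟨g, hg, h1, -⟩ := C.witt hd hd'Δ hd'.symm
      exact ⟨g, Subgroup.mem_centralizer_singleton_iff.2 hg, h1⟩
    · rintro ⟨g, hg, rfl⟩
      exact C.smul_mem_Δ (Subgroup.mem_centralizer_singleton_iff.1 hg) (C.ι_smul_a _)
  rw [C.card_centralizer] at h
  refine Nat.eq_of_mul_eq_mul_left (show 0 < Nat.card C.Δ by have := C.two_le_k; omega) ?_
  rw [← h]; ring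

/-- The normaliser of the four-group in the point stabiliser has order `12 (f - 1)`. -/
theorem card_normalizer_a [Finite G] [Finite Ω] :
    Nat.card (Subgroup.normalizer (C.V : Set G) ⊓ stabilizer G C.a : Subgroup G) =
      12 * (Nat.card C.F - 1) := by
  have h := card_eq_orbit_mul (Subgroup.normalizer (C.V : Set G)) C.a C.F fun d => by
    constructor
    · intro hd
      obtain ⟨d', hd', hcase⟩ := C.exists_ne d
      have hd'F : d' ∈ C.F := by
        rcases hcase with rfl | rfl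
        exacts [C.a_mem_F, C.b_mem_F]
      obtain ⟨g, h1, h2⟩ := C.trans d d' hd'.symm
      exact ⟨g, C.mem_normalizer_of_F (h1 ▸ hd) (h2 ▸ hd'F), h1⟩
    · rintro ⟨g, hg, rfl⟩
      exact C.smul_mem_F hg C.a_mem_F
  rw [C.card_normalizer] at h
  refine Nat.eq_of_mul_eq_mul_left (show 0 < Nat.card C.F by have := C.two_le_f; omega) ?_
  rw [← h]; ring

/-- The centraliser of the four-group in the point stabiliser. -/
def CVa : Subgroup G := Subgroup.centralizer ({C.t, C.v} : Set G) ⊓ stabilizer G C.a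

theorem mem_CVa {g : G} :
    g ∈ C.CVa ↔ (C.t * g = g * C.t ∧ C.v * g = g * C.v) ∧ g • C.a = C.a := by
  simp [CVa, Subgroup.mem_inf, Subgroup.mem_centralizer_iff, mem_stabilizer_iff]

theorem V_le_CVa : C.V ≤ C.CVa := fun g hg => C.mem_CVa.2
  ⟨⟨(C.commute_of_mem_V C.t_mem_V hg).eq, (C.commute_of_mem_V C.v_mem_V hg).eq⟩,
    (C.mem_H_iff.1 hg.1).1⟩

/-- If the point stabiliser has a Sylow 2-subgroup of order four, then the centraliser of the
four-group in it has order `4 (f - 1)`. -/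
theorem card_CVa [Finite G] [Finite Ω] (h8 : ¬ 8 ∣ Nat.card (stabilizer G C.a)) :
    Nat.card C.CVa = 4 * (Nat.card C.F - 1) := by
  classical
  let M : Subgroup G := Subgroup.normalizer (C.V : Set G) ⊓ stabilizer G C.a
  let φ : ↥M →* Equiv.Perm ↥C.V :=
    (MulAut.toPerm ↥C.V).comp (C.V.normalizerMonoidHom.comp
      (Subgroup.inclusion (inf_le_left : M ≤ _)))
  have hφ : ∀ (g : ↥M) (h : ↥C.V), ((φ g h : C.V) : G) = g * h * (g : G)⁻¹ := fun g h => rfl
  have hCM : C.CVa ≤ M := fun g hg => by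
    have hg' := C.mem_CVa.1 hg
    refine ⟨?_, hg'.2⟩
    refine Subgroup.mem_normalizer_fintype fun h hh => ?_
    show g * h * g⁻¹ ∈ C.V
    rw [(C.commute_V hg'.1.1.symm hg'.1.2.symm hh).eq, mul_inv_cancel_right]
    exact hh
  have hker : φ.ker = C.CVa.subgroupOf M := by
    ext g
    rw [MonoidHom.mem_ker, Subgroup.mem_subgroupOf, C.mem_CVa, Equiv.ext_iff]
    constructor
    · intro h
      refine ⟨⟨?_, ?_⟩, g.2.2⟩
      · exact (mul_inv_eq_iff_eq_mul.1
          ((hφ g ⟨C.t, C.t_mem_V⟩).symm.trans (congrArg Subtype.val (h _)))).symm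
      · exact (mul_inv_eq_iff_eq_mul.1
          ((hφ g ⟨C.v, C.v_mem_V⟩).symm.trans (congrArg Subtype.val (h _)))).symm
    · rintro ⟨⟨h1, h2⟩, -⟩ h
      refine Subtype.ext ((hφ g h).trans ?_)
      rw [(C.commute_V h1.symm h2.symm h.2).eq, mul_inv_cancel_right]
      rfl
  have hkc : Nat.card φ.ker = Nat.card C.CVa := by
    rw [hker, Nat.card_congr (Subgroup.subgroupOfEquivOfLe hCM).toEquiv]
  have hmul : Nat.card φ.range * Nat.card φ.ker = Nat.card M := by
    rw [← Subgroup.index_ker, Subgroup.index_mul_card]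
  rw [hkc, show Nat.card M = 12 * (Nat.card C.F - 1) from C.card_normalizer_a] at hmul
  have h4 : 4 ∣ Nat.card C.CVa := C.card_V ▸ Subgroup.card_dvd_of_le C.V_le_CVa
  have hM8 : ¬ 8 ∣ 12 * (Nat.card C.F - 1) := fun h =>
    h8 (h.trans (C.card_normalizer_a ▸
      Subgroup.card_dvd_of_le (inf_le_right : M ≤ stabilizer G C.a)))
  have h24 : Nat.card φ.range ∣ 24 := by
    have h := Subgroup.card_subgroup_dvd_card φ.range
    rwa [Nat.card_perm, C.card_V] at h
  have hne : Nat.card φ.range ≠ 1 := by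
    intro h1
    have hx : C.x ∈ C.CVa := by
      have hxM : C.x ∈ M := ⟨C.H_le_normalizer C.x_mem, (C.mem_H_iff.1 C.x_mem).1⟩
      have : (⟨C.x, hxM⟩ : ↥M) ∈ φ.ker := by
        rw [MonoidHom.mem_ker]
        haveI := (Nat.card_eq_one_iff_unique.1 h1).1
        exact congrArg Subtype.val
          (Subsingleton.elim (⟨φ ⟨C.x, hxM⟩, ⟨C.x, hxM⟩, rfl⟩ : φ.range) 1)
      rwa [hker, Subgroup.mem_subgroupOf] at this
    have h2 := C.mem_V_of_commute C.x_mem (C.mem_CVa.1 hx).1.1.symm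
    have h3 := C.x_cube
    rw [h2.2, one_mul] at h3
    exact facts.2.2.2.2.2.2.2.2.2.1 (C.ι_injective (h3.trans (map_one C.ι).symm))
  obtain ⟨m, hm⟩ := h4
  have hR : Nat.card φ.range ∈ Nat.divisors 24 := Nat.mem_divisors.2 ⟨h24, by norm_num⟩
  have h3 : Nat.card φ.range = 3 := by
    rw [hm] at hmul
    have hodd : ¬ 2 ∣ Nat.card φ.range := fun ⟨r, hr⟩ =>
      hM8 ⟨r * m, by rw [← hmul, hr]; ring⟩
    have key : ∀ d ∈ Nat.divisors 24, d ≠ 1 → ¬ 2 ∣ d → d = 3 := by decide +kernel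
    exact key _ hR hne hodd
  rw [h3] at hmul
  omega

/-- The arithmetic: only six fixed points of the four-group survive. -/
theorem dirB_arith {n k f N : ℕ} (h2f : 2 ≤ f) (hkn : k ≤ n)
    (heq : 3 * (n - k) = N * (k * (k - 1))) (hN : N = 3 ∨ N = 4)
    (hk : k = f ^ 2 ∨ k = f * (2 * f - 1))
    (hr : 12 * (n - 1) * (4 * (f - 1)) ^ 2 = 3 * (4 * (k - 1)) ^ 3 ∨
      5 * (4 * (k - 1)) ^ 3 ≤ 12 * (n - 1) * (4 * (f - 1)) ^ 2) : f = 6 := by
  obtain ⟨F, rfl⟩ : ∃ F, f = F + 1 := ⟨f - 1, by omega⟩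
  obtain ⟨S, hKS, hS⟩ : ∃ S, k = F * S + 1 ∧ (S = F + 2 ∨ S = 2 * F + 3) := by
    rcases hk with h | h
    · exact ⟨F + 2, by rw [h]; ring, Or.inl rfl⟩
    · refine ⟨2 * F + 3, ?_, Or.inr rfl⟩
      rw [h, show 2 * (F + 1) - 1 = 2 * F + 1 by omega]
      ring
  have hpos : 0 < F * S := Nat.mul_pos (by omega) (by omega)
  obtain ⟨K, hK⟩ : ∃ K, K = F * S := ⟨_, rfl⟩
  rw [← hK] at hKS hpos
  subst hKS
  obtain ⟨m, rfl⟩ : ∃ m, n = K + 1 + m := ⟨n - (K + 1), by omega⟩
  rw [Nat.add_sub_cancel_left, Nat.add_sub_cancel] at heq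
  rw [show K + 1 + m - 1 = K + m by omega, Nat.add_sub_cancel, Nat.add_sub_cancel] at hr
  have h3 : 3 * (K + m) = K * (N * (K + 1) + 3) := by rw [mul_add 3, heq]; ring
  have e1 : 12 * (K + m) * (4 * F) ^ 2 = K * ((N * (K + 1) + 3) * F ^ 2 * 64) := by
    calc 12 * (K + m) * (4 * F) ^ 2 = 3 * (K + m) * (F ^ 2 * 64) := by ring
      _ = _ := by rw [h3]; ring
  rw [e1] at hr
  have hF2 : 0 < F ^ 2 := pow_pos (by omega) 2
  rcases hr with h | h
  · rw [show 3 * (4 * K) ^ 3 = K * (3 * K ^ 2 * 64) by ring] at h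
    have h' := Nat.eq_of_mul_eq_mul_right (by norm_num : 0 < 64) (Nat.eq_of_mul_eq_mul_left hpos h)
    rw [hK, show 3 * (F * S) ^ 2 = 3 * S ^ 2 * F ^ 2 by ring] at h'
    have hMS := Nat.eq_of_mul_eq_mul_right hF2 h'
    rcases hN with rfl | rfl <;> rcases hS with rfl | rfl <;> nlinarith
  · rw [show 5 * (4 * K) ^ 3 = K * (5 * K ^ 2 * 64) by ring] at h
    have h' := Nat.le_of_mul_le_mul_right (Nat.le_of_mul_le_mul_left h hpos) (by norm_num : 0 < 64)
    rw [hK, show 5 * (F * S) ^ 2 = 5 * S ^ 2 * F ^ 2 by ring] at h'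
    have hMS := Nat.le_of_mul_le_mul_right h' hF2
    rcases hN with rfl | rfl <;> rcases hS with rfl | rfl <;> nlinarith

section

variable [Finite G] [Finite Ω] [FaithfulSMul G Ω] {u : G} (hua : u • C.a = C.b) (hu2 : u * u = 1)
  (huH : ∀ h ∈ C.H, u * h = h * u)
include hua hu2 huH

omit [Finite G] [Finite Ω] [FaithfulSMul G Ω] in
/-- If `t` fixes a point moved by `v`, then `u t` is conjugate to `t`. -/
theorem isConj_ut_of_moved {c : Ω} (hc : c ∈ C.Δ) (hcF : c ∉ C.F) : IsConj C.t (u * C.t) := by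
  have hvc : C.v • c ≠ c := fun h => hcF ⟨hc, h⟩
  have hd : C.v • c ∈ C.Δ := C.smul_mem_Δ C.commute_t_v.eq.symm hc
  obtain ⟨g, hg, ga, gb⟩ := C.witt hc hd hvc.symm
  have mk : ∀ w ∈ C.V, w • c = C.v • c → w ≠ 1 →
      g⁻¹ * w * g ∈ C.Swap ∧ IsConj C.t (g⁻¹ * w * g) := fun w hw hwc hw1 => by
    refine ⟨⟨?_, ?_⟩, ?_⟩
    · rw [show g⁻¹ * w * g * (g⁻¹ * w * g) = g⁻¹ * (w * w) * g by group, hw.2, mul_one,
        inv_mul_cancel]
    · rw [mul_smul, mul_smul, ga, hwc, inv_smul_eq_iff, gb]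
    · obtain ⟨y, -, hy⟩ := C.isConj_t_of_mem hw.1 hw.2 hw1
      exact (isConj_iff.2 ⟨y, hy⟩).trans (isConj_iff.2 ⟨g⁻¹, by group⟩)
  obtain ⟨hs, hst⟩ := mk C.v C.v_mem_V rfl C.v_ne
  obtain ⟨-, hst'⟩ := mk (C.t * C.v) (C.V.mul_mem C.t_mem_V C.v_mem_V)
    (by rw [mul_smul, show C.t • C.v • c = C.v • c from hd]) (fun h => C.t_ne_v (by
      rw [mul_eq_one_iff_eq_inv, inv_eq_of_mul_eq_one_right C.v_sq] at h
      exact h))
  obtain ⟨w, hw, he⟩ := (@swap_iff_dir G Ω _ _ C u hua hu2 huH _).1 hs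
  by_cases hw1 : w = 1
  · rw [hw1, mul_one] at he
    have e : g⁻¹ * (C.t * C.v) * g = u * C.t := by
      rw [huH C.t C.t_mem, ← he]
      calc g⁻¹ * (C.t * C.v) * g = g⁻¹ * (C.t * g) * (g⁻¹ * C.v * g) := by group
        _ = C.t * (g⁻¹ * C.v * g) := by rw [← hg]; group
    rwa [e] at hst'
  · rw [he] at hst
    exact hst.trans (@isConj_dir G Ω _ _ C u hua hu2 huH w hw hw1).symm

/-- There cannot be exactly six fixed points of the four-group, if the centraliser of the
four-group in the point stabiliser has order `20`. -/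
theorem false_of_six (hF : Nat.card C.F = 6) (hcv : Nat.card C.CVa = 20) : False := by
  classical
  haveI := Fintype.ofFinite Ω
  haveI : Fintype C.F := Fintype.ofFinite _
  have hub : u • C.b = C.a := C.swap_smul_b ⟨hu2, hua⟩
  let M : Subgroup G := Subgroup.centralizer ({C.t, C.v} : Set G)
  have hM : ∀ g, g ∈ M ↔ C.t * g = g * C.t ∧ C.v * g = g * C.v := fun g => by
    simp [M, Subgroup.mem_centralizer_iff]
  have hMN : M ≤ Subgroup.normalizer (C.V : Set G) := fun g hg => by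
    refine Subgroup.mem_normalizer_fintype fun h hh => ?_
    show g * h * g⁻¹ ∈ C.V
    rw [(C.commute_V ((hM g).1 hg).1.symm ((hM g).1 hg).2.symm hh).eq, mul_inv_cancel_right]
    exact hh
  let φ : ↥M →* Equiv.Perm C.F :=
    { toFun := fun g => (MulAction.toPerm (g : G)).subtypePerm fun c =>
        ⟨fun h => by
          have := C.smul_mem_F (hMN (M.inv_mem g.2)) h
          rwa [MulAction.toPerm_apply, inv_smul_smul] at this,
        fun h => C.smul_mem_F (hMN g.2) h⟩
      map_one' := Equiv.ext fun c => Subtype.ext (one_smul G (c : Ω))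
      map_mul' := fun g h => Equiv.ext fun c => Subtype.ext (mul_smul (g : G) (h : G) (c : Ω)) }
  have hφ : ∀ (g : ↥M) (c : C.F), ((φ g c : C.F) : Ω) = (g : G) • (c : Ω) := fun g c => rfl
  let σ : ↥M →* ℤˣ := Equiv.Perm.sign.comp φ
  have huM : u ∈ M := (hM u).2 ⟨(huH _ C.t_mem).symm, (huH _ C.v_mem).symm⟩
  -- `u` has no fixed point in `F`, so it is odd
  have hnofix : ∀ c ∈ C.F, u • c ≠ c := by
    intro c hc huc
    obtain ⟨d, hd, hdc, hud⟩ : ∃ d ∈ C.F, d ≠ c ∧ u • d = d := by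
      by_contra hcon
      push Not at hcon
      have hev : Even (φ ⟨u, huM⟩).support.card := by
        have h1 : φ ⟨u, huM⟩ ^ 2 = 1 := by
          rw [← map_pow, show (⟨u, huM⟩ : M) ^ 2 = 1 from Subtype.ext (by simpa [pow_two] using hu2),
            map_one]
        exact even_iff_two_dvd.2 (Equiv.Perm.two_dvd_card_support h1)
      have hs : (φ ⟨u, huM⟩).support = Finset.univ.erase ⟨c, hc⟩ := by
        ext p
        simp only [Equiv.Perm.mem_support, Finset.mem_erase, Finset.mem_univ, and_true,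
          ne_eq, Subtype.ext_iff, hφ]
        exact ⟨fun h e => h (by rw [e, huc]), fun h => hcon _ p.2 h⟩
      rw [hs, Finset.card_erase_of_mem (Finset.mem_univ _), Finset.card_univ,
        ← Nat.card_eq_fintype_card, hF] at hev
      exact absurd hev (by decide)
    obtain ⟨g, ga, gb⟩ := C.trans c d hdc.symm
    have hgN : g ∈ Subgroup.normalizer (C.V : Set G) :=
      C.mem_normalizer_of_F (ga ▸ hc) (gb ▸ hd)
    have hH : g⁻¹ * u * g ∈ C.H := C.mem_H_iff.2
      ⟨by rw [mul_smul, mul_smul, ga, huc, inv_smul_eq_iff, ga],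
        by rw [mul_smul, mul_smul, gb, hud, inv_smul_eq_iff, gb]⟩
    have htV : g * C.t * g⁻¹ ∈ C.V := (Subgroup.mem_normalizer_iff.1 hgN C.t).1 C.t_mem_V
    have hcom : g⁻¹ * u * g * C.t = C.t * (g⁻¹ * u * g) := by
      calc g⁻¹ * u * g * C.t = g⁻¹ * (u * (g * C.t * g⁻¹)) * g := by group
        _ = g⁻¹ * (g * C.t * g⁻¹ * u) * g := by rw [huH _ htV.1]
        _ = C.t * (g⁻¹ * u * g) := by group
    have hV := (Subgroup.mem_normalizer_iff.1 hgN _).1 (C.mem_V_of_commute hH hcom)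
    rw [show g * (g⁻¹ * u * g) * g⁻¹ = u by group] at hV
    exact C.hab ((C.mem_H_iff.1 hV.1).1.symm.trans hua)
  have hσu : σ ⟨u, huM⟩ = -1 := by
    set p := φ ⟨u, huM⟩ with hp
    have hsupp : p.support = Finset.univ := Finset.eq_univ_iff_forall.2 fun c => by
      rw [Equiv.Perm.mem_support]
      exact fun h => hnofix c c.2 ((hφ _ c).symm.trans (congrArg Subtype.val h))
    have hp2 : p ^ 2 = 1 := by
      rw [hp, ← map_pow, show (⟨u, huM⟩ : M) ^ 2 = 1 from Subtype.ext (by simpa [pow_two] using hu2),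
        map_one]
    have hp1 : p ≠ 1 := fun h => by
      rw [h, Equiv.Perm.support_one] at hsupp
      have : (Finset.univ : Finset C.F).card = 0 := by rw [← hsupp]; rfl
      rw [Finset.card_univ, ← Nat.card_eq_fintype_card, hF] at this
      omega
    obtain ⟨m, hm⟩ := Equiv.Perm.cycleType_prime_order
      (σ := p) (by rw [orderOf_eq_prime hp2 hp1]; exact Nat.prime_two)
    rw [orderOf_eq_prime hp2 hp1] at hm
    have hsum := p.sum_cycleType
    rw [hsupp, Finset.card_univ, ← Nat.card_eq_fintype_card, hF, hm, Multiset.sum_replicate,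
      smul_eq_mul] at hsum
    have hm' : m = 2 := by omega
    show Equiv.Perm.sign p = -1
    rw [Equiv.Perm.sign_of_cycleType, hm, hm']
    rfl
  -- the stabiliser of `a` acts by even permutations
  have hCM : C.CVa ≤ M := inf_le_left
  have hσa : ∀ g (hg : g ∈ C.CVa), σ ⟨g, hCM hg⟩ = 1 := by
    let ψ : ↥C.CVa →* ℤˣ := σ.comp (Subgroup.inclusion hCM)
    have hVk : C.V.subgroupOf C.CVa ≤ ψ.ker := fun h hh => by
      rw [MonoidHom.mem_ker]
      show Equiv.Perm.sign (φ _) = 1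
      rw [show φ (Subgroup.inclusion hCM h) = 1 from
        Equiv.ext fun c => Subtype.ext (C.smul_of_mem_F hh c.2), map_one]
    have h4 := Subgroup.card_dvd_of_le hVk
    rw [Nat.card_congr (Subgroup.subgroupOfEquivOfLe C.V_le_CVa).toEquiv, C.card_V] at h4
    have hmul : Nat.card ψ.range * Nat.card ψ.ker = 20 := by
      rw [← Subgroup.index_ker, Subgroup.index_mul_card, hcv]
    have hle : Nat.card ψ.range ∣ 2 := by
      have h := Subgroup.card_subgroup_dvd_card ψ.range
      rwa [Nat.card_eq_fintype_card (α := ℤˣ), Fintype.card_units_int] at h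
    obtain ⟨m, hm⟩ := h4
    rw [hm] at hmul
    have h1 : Nat.card ψ.range = 1 := by
      rcases (Nat.dvd_prime Nat.prime_two).1 hle with h | h
      · exact h
      · rw [h] at hmul; omega
    intro g hg
    haveI := (Nat.card_eq_one_iff_unique.1 h1).1
    exact congrArg Subtype.val (Subsingleton.elim (⟨ψ ⟨g, hg⟩, ⟨g, hg⟩, rfl⟩ : ψ.range) 1)
  -- it is transitive on the other five points
  have htr : ∀ d ∈ C.F, d ≠ C.a → ∃ g ∈ C.CVa, g • C.b = d := by
    let D : Set Ω := {d | ∃ g ∈ C.CVa, g • C.b = d}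
    have h := card_eq_orbit_mul C.CVa C.b D fun d => Iff.rfl
    have hst : (C.CVa ⊓ stabilizer G C.b : Subgroup G) = C.V := by
      ext g
      refine ⟨fun hg => C.mem_V_of_commute (C.mem_H_iff.2 ⟨(C.mem_CVa.1 hg.1).2, hg.2⟩)
        (C.mem_CVa.1 hg.1).1.1.symm, fun hg => ⟨C.V_le_CVa hg, (C.mem_H_iff.1 hg.1).2⟩⟩
    rw [hcv, hst, C.card_V] at h
    have hsub : D ⊆ C.F \ {C.a} := by
      rintro d ⟨g, hg, rfl⟩
      refine ⟨C.smul_mem_F (hMN (hCM hg)) C.b_mem_F, fun e => C.hab ?_⟩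
      exact MulAction.injective g ((C.mem_CVa.1 hg).2.trans (Set.mem_singleton_iff.1 e).symm)
    have heq : D = C.F \ {C.a} := Set.eq_of_subset_of_ncard_le hsub (by
      rw [Set.ncard_sdiff_singleton_of_mem C.a_mem_F, ← Nat.card_coe_set_eq, hF,
        ← Nat.card_coe_set_eq]
      omega) (Set.toFinite _)
    exact fun d hd hda => (heq ▸ ⟨hd, hda⟩ : d ∈ D)
  obtain ⟨c, hc, hca, hcb⟩ : ∃ c ∈ C.F, c ≠ C.a ∧ c ≠ C.b := by
    by_contra hcon
    push Not at hcon
    have hsub : C.F ⊆ {C.a, C.b} := fun c hc => by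
      by_cases h : c = C.a
      · exact Or.inl h
      · exact Or.inr (hcon c hc h)
    have := Set.ncard_le_ncard hsub
    rw [← Nat.card_coe_set_eq, hF, Set.ncard_pair C.hab] at this
    omega
  obtain ⟨y, hy, hyb⟩ := htr c hc hca
  have hucb : u • c ≠ C.a := fun h => hcb (by rw [← hua, ← h, ← mul_smul, hu2, one_smul])
  obtain ⟨z, hz, hzb⟩ := htr (u • c) (C.smul_mem_F (hMN huM) hc) hucb
  -- `w = z⁻¹ u y` fixes `b`
  have hwb : (z⁻¹ * u * y) • C.b = C.b := by
    rw [mul_smul, mul_smul, hyb, inv_smul_eq_iff, hzb]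
  have hwM : z⁻¹ * u * y ∈ M := M.mul_mem (M.mul_mem (M.inv_mem (hCM hz)) huM) (hCM hy)
  have hw' : u * (z⁻¹ * u * y) * u ∈ C.CVa :=
    ⟨M.mul_mem (M.mul_mem huM hwM) huM, by
      show (u * (z⁻¹ * u * y) * u) • C.a = C.a
      rw [mul_smul (u * (z⁻¹ * u * y)) u, hua, mul_smul, hwb, hub]⟩
  have key := hσa _ hw'
  rw [show (⟨u * (z⁻¹ * u * y) * u, hCM hw'⟩ : M) =
      ⟨u, huM⟩ * ((⟨z, hCM hz⟩)⁻¹ * ⟨u, huM⟩ * ⟨y, hCM hy⟩) * ⟨u, huM⟩ from rfl] at key
  simp only [map_mul, map_inv, hσa y hy, hσa z hz, hσu] at key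
  simp at key

end

/-- The direct case, `f` even, with a point fixed by `t` and moved by `v`. -/
theorem dir_even_false [Finite G] [Finite Ω] [FaithfulSMul G Ω] (hD : C.IsDir)
    (hB : ∃ c ∈ C.Δ, c ∉ C.F) (hf : Even (Nat.card C.F))
    (hk : Nat.card C.Δ = Nat.card C.F ^ 2 ∨
      Nat.card C.Δ = Nat.card C.F * (2 * Nat.card C.F - 1)) : False := by
  classical
  obtain ⟨u, hua, hu2, huH⟩ := hD
  obtain ⟨c, hc, hcF⟩ := hB
  have hut := @isConj_ut_of_moved G Ω _ _ C u hua hu2 huH c hc hcF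
  have hN : C.N = 3 ∨ C.N = 4 := by
    rcases @N_dir G Ω _ _ C u hua hu2 huH _ _ with ⟨-, h, -⟩ | ⟨-, -, h⟩ | ⟨-, -, h⟩
    · exact absurd hut h
    · exact Or.inl h
    · exact Or.inr h
  have hfix : ∀ i : G, IsConj C.t i → Nat.card (fixedBy Ω i) = Nat.card C.Δ :=
    fun i hi => C.card_fixed hi
  have heq := C.three_mul_sub
  have h2f := C.two_le_f
  have h2k := C.two_le_k
  have hkev : Even (Nat.card C.Δ) := by
    rcases hk with h | h <;> rw [h]
    · exact hf.pow_of_ne_zero two_ne_zero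
    · exact hf.mul_right _
  have hkn : Nat.card C.Δ ≤ Nat.card Ω := by
    rw [Nat.card_coe_set_eq]; exact Set.ncard_le_card _
  have hnev : Even (Nat.card Ω) := by
    obtain ⟨j, hj⟩ := hkev
    have he : Even (3 * (Nat.card Ω - Nat.card C.Δ)) := by
      rw [heq]; exact (Even.mul_right ⟨j, hj⟩ _).mul_left _
    rcases Nat.even_mul.1 he with h | h
    · exact absurd h (by decide)
    · obtain ⟨i, hi⟩ := h
      exact ⟨i + j, by omega⟩
  have hX : Nat.card (stabilizer G C.a) = 12 * (Nat.card Ω - 1) := C.card_stabilizer_a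
  have h8 : ¬ 8 ∣ Nat.card (stabilizer G C.a) := by
    rw [hX]
    obtain ⟨i, hi⟩ := hnev
    omega
  have hcv := C.card_CVa h8
  have hratio := klein_ratio h8 (⟨C.t, (C.mem_H_iff.1 C.t_mem).1⟩ : stabilizer G C.a)
    ⟨C.v, (C.mem_H_iff.1 C.v_mem).1⟩ (by rw [← Subgroup.orderOf_coe]; exact C.orderOf_t)
    (by rw [← Subgroup.orderOf_coe]; exact C.orderOf_v)
    (Subtype.ext C.commute_t_v.eq) (fun h => C.t_ne_v (Subtype.ext_iff.1 h :)) (by
      -- involutions of the point stabiliser are conjugate to `t` there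
      have key : ∀ i : stabilizer G C.a, orderOf i = 2 →
          IsConj (⟨C.t, (C.mem_H_iff.1 C.t_mem).1⟩ : stabilizer G C.a) i := by
        intro i hi
        rw [← Subgroup.orderOf_coe] at hi
        have hi2 : (i : G) * i = 1 := by rw [← pow_two, ← hi, pow_orderOf_eq_one]
        have hi1 : (i : G) ≠ 1 := fun h => by rw [h, orderOf_one] at hi; omega
        obtain ⟨d, hd, hda⟩ : ∃ d, (i : G) • d = d ∧ d ≠ C.a := by
          by_contra hcon
          push Not at hcon
          haveI := Fintype.ofFinite Ω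
          have hp : MulAction.toPerm (i : G) ^ 2 = (1 : Equiv.Perm Ω) := by
            rw [← MulAction.toPermHom_apply, ← map_pow, pow_two, hi2, map_one]
          have hev := even_iff_two_dvd.2 (Equiv.Perm.two_dvd_card_support hp)
          have hs : (MulAction.toPerm (i : G) : Equiv.Perm Ω).support =
              Finset.univ.erase C.a := by
            ext p
            simp only [Equiv.Perm.mem_support, Finset.mem_erase, Finset.mem_univ, and_true,
              MulAction.toPerm_apply]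
            exact ⟨fun h e => h (e ▸ i.2), fun h e => h (hcon p e)⟩
          rw [hs, Finset.card_erase_of_mem (Finset.mem_univ _), Finset.card_univ,
            ← Nat.card_eq_fintype_card] at hev
          obtain ⟨j, hj⟩ := hev
          obtain ⟨l, hl⟩ := hnev
          have : 0 < Nat.card Ω := by omega
          omega
        obtain ⟨g, ga, gb⟩ := C.trans C.a d hda.symm
        have hH : g⁻¹ * i * g ∈ C.H := C.mem_H_iff.2
          ⟨by rw [mul_smul, mul_smul, ga, show (i : G) • C.a = C.a from i.2, inv_smul_eq_iff, ga],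
            by rw [mul_smul, mul_smul, gb, hd, inv_smul_eq_iff, gb]⟩
        obtain ⟨y, hy, hyt⟩ := C.isConj_t_of_mem hH
          (by rw [show g⁻¹ * i * g * (g⁻¹ * i * g) = g⁻¹ * (i * i : G) * g by group, hi2, mul_one,
            inv_mul_cancel])
          (fun h => hi1 (by rw [show (i : G) = g * (g⁻¹ * i * g) * g⁻¹ by group, h]; group))
        have hgy : g * y ∈ stabilizer G C.a := by
          rw [mem_stabilizer_iff, mul_smul, (C.mem_H_iff.1 hy).1, ga]
        refine isConj_iff.2 ⟨⟨g * y, hgy⟩, Subtype.ext ?_⟩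
        show g * y * C.t * (g * y)⁻¹ = i
        calc g * y * C.t * (g * y)⁻¹ = g * (y * C.t * y⁻¹) * g⁻¹ := by group
          _ = i := by rw [hyt]; group
      exact fun i j hi hj => (key i hi).symm.trans (key j hj))
  -- the orders of the centralisers inside the point stabiliser
  have hct : Nat.card (Subgroup.centralizer
      ({⟨C.t, (C.mem_H_iff.1 C.t_mem).1⟩} : Set (stabilizer G C.a))) =
        4 * (Nat.card C.Δ - 1) := by
    rw [← C.card_centralizer_a]
    exact Nat.card_congr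
      { toFun := fun g => ⟨g.1.1, Subgroup.mem_centralizer_singleton_iff.2
          (congrArg Subtype.val (Subgroup.mem_centralizer_singleton_iff.1 g.2)), g.1.2⟩
        invFun := fun g => ⟨⟨g.1, g.2.2⟩, Subgroup.mem_centralizer_singleton_iff.2
          (Subtype.ext (Subgroup.mem_centralizer_singleton_iff.1 g.2.1))⟩
        left_inv := fun g => rfl
        right_inv := fun g => rfl }
  have hcp : Nat.card (Subgroup.centralizer
      ({⟨C.t, (C.mem_H_iff.1 C.t_mem).1⟩, ⟨C.v, (C.mem_H_iff.1 C.v_mem).1⟩} :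
        Set (stabilizer G C.a))) = 4 * (Nat.card C.F - 1) := by
    rw [← hcv]
    have hiff : ∀ g : stabilizer G C.a, g ∈ Subgroup.centralizer
        ({⟨C.t, (C.mem_H_iff.1 C.t_mem).1⟩, ⟨C.v, (C.mem_H_iff.1 C.v_mem).1⟩} :
          Set (stabilizer G C.a)) ↔ (g : G) ∈ C.CVa := fun g => by
      rw [C.mem_CVa]
      simp only [Subgroup.mem_centralizer_iff, Set.mem_insert_iff, Set.mem_singleton_iff,
        forall_eq_or_imp, forall_eq]
      simp only [Subtype.ext_iff, Subgroup.coe_mul]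
      exact ⟨fun h => ⟨h, g.2⟩, fun h => h.1⟩
    exact Nat.card_congr
      { toFun := fun g => ⟨g.1.1, (hiff g.1).1 g.2⟩
        invFun := fun g => ⟨⟨g.1, (C.mem_CVa.1 g.2).2⟩, (hiff _).2 g.2⟩
        left_inv := fun g => rfl
        right_inv := fun g => rfl }
  rw [hX, hct, hcp] at hratio
  have h6 := dirB_arith h2f hkn heq hN hk hratio
  exact @false_of_six G Ω _ _ C _ _ _ u hua hu2 huH h6 (by rw [hcv, h6])

/-- The direct case with `t` fixing more points than the four-group: `f` is odd. -/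
theorem dir_caseB_even [Finite G] [Finite Ω] [FaithfulSMul G Ω] (hD : C.IsDir) (hB : ¬ C.CaseA)
    (hf : Even (Nat.card C.F)) : False :=
  C.dir_even_false hD (Set.not_subset.1 hB) hf
    ((C.k_cases hB).1.imp_left fun h => by rw [h, pow_two])

end CfsgLib.TwoPointAltFour.Ctx
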