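import Cfsg.Agent.Lib.TwoPointAltFour.KleinRatio
import Cfsg.Agent.Lib.SmallGroups.Counting

/-!
Doubly transitive groups with a two-point stabiliser `⟨j⟩` of order two, an involution interchanging
two points centralising `j`, and `j` fixing an odd number of points: exactly one of the two
interchanging involutions fixes a single point, and an involution fixing a single point is
determined by that point.
-/

set_option autoImplicit false

open MulAction

namespace CfsgLib.TwoPointAltFour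

/-- An involution and the parity of the number of its fixed points. -/
theorem card_fixed_modEq {Y : Type*} [Finite Y] (σ : Equiv.Perm Y) (h : σ * σ = 1) :
    Nat.card {y : Y // σ y = y} % 2 = Nat.card Y % 2 := by
  classical
  haveI := Fintype.ofFinite Y
  haveI : Fact (Nat.Prime 2) := ⟨Nat.prime_two⟩
  have hp : IsPGroup 2 (Subgroup.zpowers σ) := by
    rintro ⟨g, hg⟩
    obtain ⟨m, rfl⟩ := Subgroup.mem_zpowers_iff.1 hg
    refine ⟨1, Subtype.ext ?_⟩
    show (σ ^ m) ^ (2 ^ 1) = 1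
    rw [pow_one, ← zpow_natCast, ← zpow_mul, mul_comm, zpow_mul, zpow_natCast, pow_two, h, one_zpow]
  have h1 := hp.card_modEq_card_fixedPoints Y
  rw [h1]
  refine congrArg (· % 2) (Nat.card_congr (Equiv.subtypeEquivRight fun y => ?_))
  refine ⟨fun hy g => ?_, fun hy => hy ⟨σ, Subgroup.mem_zpowers σ⟩⟩
  have hle : Subgroup.zpowers σ ≤ stabilizer (Equiv.Perm Y) y := Subgroup.zpowers_le.2 hy
  exact hle g.2

/-- A doubly transitive action whose two-point stabiliser has order two, with a special swap. -/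
structure PairTwo (X Y : Type*) [Group X] [MulAction X Y] where
  /-- the first point -/
  a : Y
  /-- the second point -/
  b : Y
  /-- the involution fixing both -/
  j : X
  /-- the involution interchanging them -/
  u : X
  hab : a ≠ b
  trans : ∀ c d : Y, c ≠ d → ∃ g : X, g • a = c ∧ g • b = d
  j_sq : j * j = 1
  j_ne : j ≠ 1
  ja : j • a = a
  jb : j • b = b
  stab : ∀ g : X, g • a = a → g • b = b → g = 1 ∨ g = j
  u_sq : u * u = 1
  ua : u • a = b
  uj : Commute u j

namespace PairTwo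

variable {X Y : Type*} [Group X] [MulAction X Y] (P : PairTwo X Y)

theorem ub : P.u • P.b = P.a := by rw [← P.ua, ← mul_smul, P.u_sq, one_smul]

/-- Conjugating into the stabiliser of `a` and `b`. -/
theorem conj_fix {r g : X} {c d : Y} (ga : g • P.a = c) (gb : g • P.b = d) (hc : r • c = c)
    (hd : r • d = d) : r = 1 ∨ r = g * P.j * g⁻¹ := by
  rcases P.stab (g⁻¹ * r * g) (by rw [mul_smul, mul_smul, ga, hc, inv_smul_eq_iff, ga])
      (by rw [mul_smul, mul_smul, gb, hd, inv_smul_eq_iff, gb]) with h | h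
  · exact Or.inl (by rw [show r = g * (g⁻¹ * r * g) * g⁻¹ by group, h]; group)
  · exact Or.inr (by rw [← h]; group)

theorem isConj_of_fix {r : X} (hr : r ≠ 1) {c d : Y} (hcd : c ≠ d) (hc : r • c = c)
    (hd : r • d = d) : IsConj P.j r := by
  obtain ⟨g, ga, gb⟩ := P.trans c d hcd
  exact isConj_iff.2 ⟨g, ((P.conj_fix ga gb hc hd).resolve_left hr).symm⟩

theorem swap_cases {g : X} (hga : g • P.a = P.b) (hgb : g • P.b = P.a) :
    g = P.u ∨ g = P.u * P.j := by
  rcases P.stab (P.u * g) (by rw [mul_smul, hga, P.ub]) (by rw [mul_smul, hgb, P.ua]) with h | h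
  · left
    calc g = P.u * (P.u * g) := by rw [← mul_assoc, P.u_sq, one_mul]
      _ = P.u := by rw [h, mul_one]
  · right
    rw [← h, ← mul_assoc, P.u_sq, one_mul]

theorem uj_swap : (P.u * P.j) * (P.u * P.j) = 1 ∧ (P.u * P.j) • P.a = P.b ∧
    (P.u * P.j) • P.b = P.a := by
  refine ⟨?_, by rw [mul_smul, P.ja, P.ua], by rw [mul_smul, P.jb, P.ub]⟩
  conv_lhs => arg 2; rw [P.uj.eq]
  rw [mul_assoc, ← mul_assoc P.j, P.j_sq, one_mul, P.u_sq]

theorem u_ne_uj : P.u ≠ P.u * P.j := fun h => P.j_ne (mul_eq_left.1 h.symm)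

/-- The order of a subgroup containing `j` and transitive on the ordered pairs of a set. -/
theorem card_pairs [Finite X] [Finite Y] (K : Subgroup X) (hj : P.j ∈ K) (D : Set Y) (ha : P.a ∈ D)
    (hb : P.b ∈ D) (hmap : ∀ g ∈ K, ∀ c ∈ D, g • c ∈ D)
    (htr : ∀ c ∈ D, ∀ d ∈ D, c ≠ d → ∃ g ∈ K, g • P.a = c ∧ g • P.b = d) :
    Nat.card K = 2 * (Nat.card D * (Nat.card D - 1)) := by
  classical
  haveI := Fintype.ofFinite Y
  have h1 := Subgroup.index_mul_card (stabilizer ↥K (P.a, P.b))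
  rw [index_stabilizer] at h1
  have hst : Nat.card (stabilizer ↥K (P.a, P.b)) = 2 := by
    let ψ : Bool → stabilizer ↥K (P.a, P.b) := fun s =>
      ⟨⟨if s then P.j else 1, by cases s <;> simp [hj]⟩, by
        rw [mem_stabilizer_iff, Prod.smul_mk, Subgroup.mk_smul, Subgroup.mk_smul]
        cases s <;> simp [P.ja, P.jb]⟩
    rw [← Nat.card_eq_of_bijective ψ ⟨?_, ?_⟩]
    · simp
    · intro s s' e
      have e' := congrArg (fun g : stabilizer ↥K (P.a, P.b) => ((g : K) : X)) e
      cases s <;> cases s' <;> simp [ψ, P.j_ne, P.j_ne.symm] at e' ⊢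
    · intro g
      have h := g.2
      rw [mem_stabilizer_iff, Prod.smul_mk, Prod.mk.injEq] at h
      rcases P.stab ((g : K) : X) h.1 h.2 with e | e
      · exact ⟨false, Subtype.ext (Subtype.ext (by simp [ψ, e]))⟩
      · exact ⟨true, Subtype.ext (Subtype.ext (by simp [ψ, e]))⟩
  have horb : orbit ↥K (P.a, P.b) = (D.toFinset.offDiag : Set (Y × Y)) := by
    ext ⟨c, d⟩
    simp only [mem_orbit_iff, Finset.mem_coe, Finset.mem_offDiag, Set.mem_toFinset, Prod.smul_mk,
      Prod.mk.injEq, Subtype.exists, Subgroup.mk_smul]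
    constructor
    · rintro ⟨g, hg, rfl, rfl⟩
      exact ⟨hmap g hg _ ha, hmap g hg _ hb, fun h => P.hab ((MulAction.injective g) h)⟩
    · rintro ⟨hc, hd, hcd⟩
      obtain ⟨g, hg, h1, h2⟩ := htr c hc d hd hcd
      exact ⟨g, hg, h1, h2⟩
  have hD : D.toFinset.card = Nat.card D := by
    rw [Set.toFinset_card, Nat.card_eq_fintype_card]
  rw [← h1, hst, horb, Set.ncard_coe_finset, Finset.offDiag_card, hD, Nat.mul_sub, mul_one, mul_comm]

theorem card_X [Finite X] [Finite Y] (P : PairTwo X Y) :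
    Nat.card X = 2 * (Nat.card Y * (Nat.card Y - 1)) := by
  have h := P.card_pairs ⊤ (Subgroup.mem_top _) Set.univ trivial trivial (fun _ _ _ _ => trivial)
    fun c _ d _ hcd => by
      obtain ⟨g, h1, h2⟩ := P.trans c d hcd
      exact ⟨g, trivial, h1, h2⟩
  rwa [Subgroup.card_top, Nat.card_congr (Equiv.Set.univ Y)] at h

/-- The fixed points of `j`. -/
def F : Set Y := fixedBy Y P.j

theorem smul_mem_F {g : X} (hg : Commute g P.j) {c : Y} (hc : c ∈ P.F) : g • c ∈ P.F := by
  show P.j • g • c = g • c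
  rw [← mul_smul, ← hg.eq, mul_smul, show P.j • c = c from hc]

/-- An element carrying `a`, `b` into `F` centralises `j`. -/
theorem commute_of_mem_F {g : X} (ha : g • P.a ∈ P.F) (hb : g • P.b ∈ P.F) : Commute g P.j := by
  have h := (P.conj_fix rfl rfl ha hb).resolve_left P.j_ne
  show g * P.j = P.j * g
  conv_rhs => rw [h]
  group

theorem card_centralizer [Finite X] [Finite Y] :
    Nat.card (Subgroup.centralizer ({P.j} : Set X)) =
      2 * (Nat.card P.F * (Nat.card P.F - 1)) :=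
  P.card_pairs _ (Subgroup.mem_centralizer_singleton_iff.2 rfl) P.F P.ja P.jb
    (fun _ hg _ hc => P.smul_mem_F (Subgroup.mem_centralizer_singleton_iff.1 hg) hc)
    fun c hc d hd hcd => by
      obtain ⟨g, h1, h2⟩ := P.trans c d hcd
      exact ⟨g, Subgroup.mem_centralizer_singleton_iff.2 (P.commute_of_mem_F (h1 ▸ hc) (h2 ▸ hd)).eq,
        h1, h2⟩

/-- Counting involutions through the pairs they interchange. -/
theorem pair_count (Q : X → Prop) (hQ : ∀ (g r : X), Q r → Q (g * r * g⁻¹)) :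
    Nat.card {z : X × Y // Q z.1 ∧ z.1 • z.2 ≠ z.2} =
      Nat.card {p : Y × Y // p.1 ≠ p.2} * Nat.card {w : X // Q w ∧ w • P.a = P.b} := by
  choose g hga hgb using fun p : {p : Y × Y // p.1 ≠ p.2} => P.trans p.1.1 p.1.2 p.2
  rw [← Nat.card_prod]
  refine Nat.card_congr
    { toFun := fun z => (⟨(z.1.2, z.1.1 • z.1.2), Ne.symm z.2.2⟩,
        ⟨(g ⟨(z.1.2, z.1.1 • z.1.2), Ne.symm z.2.2⟩)⁻¹ * z.1.1 *
          g ⟨(z.1.2, z.1.1 • z.1.2), Ne.symm z.2.2⟩, ?_, ?_⟩)
      invFun := fun z => ⟨(g z.1 * z.2.1 * (g z.1)⁻¹, z.1.1.1), hQ _ _ z.2.2.1, ?_⟩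
      left_inv := ?_
      right_inv := ?_ }
  · simpa using hQ (g ⟨(z.1.2, z.1.1 • z.1.2), Ne.symm z.2.2⟩)⁻¹ _ z.2.1
  · rw [mul_smul, mul_smul, hga, inv_smul_eq_iff, hgb]
  · show (g z.1 * z.2.1 * (g z.1)⁻¹) • z.1.1.1 ≠ z.1.1.1
    have e1 : (g z.1)⁻¹ • z.1.1.1 = P.a := by rw [inv_smul_eq_iff, hga]
    rw [mul_smul, mul_smul, e1, z.2.2.2, hgb]
    exact z.1.2.symm
  · rintro ⟨⟨r, c⟩, hr, hc⟩
    refine Subtype.ext (Prod.ext ?_ rfl)
    show g _ * ((g _)⁻¹ * r * g _) * (g _)⁻¹ = r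
    group
  · rintro ⟨⟨⟨c, d⟩, hcd⟩, w, hw, hwa⟩
    have key : (g ⟨(c, d), hcd⟩ * w * (g ⟨(c, d), hcd⟩)⁻¹) • c = d := by
      have e1 : (g ⟨(c, d), hcd⟩)⁻¹ • c = P.a := by rw [inv_smul_eq_iff, hga]
      rw [mul_smul, mul_smul, e1, hwa, hgb]
    have hp : (⟨(c, (g ⟨(c, d), hcd⟩ * w * (g ⟨(c, d), hcd⟩)⁻¹) • c),
        by rw [key]; exact hcd⟩ : {p : Y × Y // p.1 ≠ p.2}) = ⟨(c, d), hcd⟩ :=
      Subtype.ext (Prod.ext rfl key)
    refine Prod.ext hp (Subtype.ext ?_)
    show (g _)⁻¹ * _ * g _ = w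
    rw [hp]
    group

end PairTwo

/-- The number of ordered pairs of different points. -/
theorem card_ordered_pairs (Y : Type*) [Finite Y] :
    Nat.card {p : Y × Y // p.1 ≠ p.2} = Nat.card Y * (Nat.card Y - 1) := by
  classical
  haveI := Fintype.ofFinite Y
  have e : {p : Y × Y // p.1 ≠ p.2} ≃ ↥((Finset.univ : Finset Y).offDiag) :=
    Equiv.subtypeEquivRight fun p => by simp
  rw [Nat.card_congr e, Nat.card_eq_fintype_card, Fintype.card_coe, Finset.offDiag_card,
    Finset.card_univ, ← Nat.card_eq_fintype_card, Nat.mul_sub, mul_one]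

/-- Incidences of elements each moving the same number of points. -/
theorem card_incidences {X Y : Type*} [Group X] [MulAction X Y] [Finite X] [Finite Y] (Q : X → Prop)
    (m : ℕ) (h : ∀ r, Q r → Nat.card {c : Y // r • c ≠ c} = m) :
    Nat.card {z : X × Y // Q z.1 ∧ z.1 • z.2 ≠ z.2} = Nat.card {r : X // Q r} * m := by
  classical
  haveI := Fintype.ofFinite X
  rw [Nat.card_congr (β := Σ r : {r : X // Q r}, {c : Y // r.1 • c ≠ c})
    { toFun := fun z => ⟨⟨z.1.1, z.2.1⟩, ⟨z.1.2, z.2.2⟩⟩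
      invFun := fun z => ⟨(z.1.1, z.2.1), z.1.2, z.2.2⟩
      left_inv := fun z => rfl
      right_inv := fun z => rfl }]
  rw [Nat.card_sigma, Finset.sum_congr rfl (fun r _ => h r.1 r.2), Finset.sum_const,
    Finset.card_univ, smul_eq_mul, ← Nat.card_eq_fintype_card]

theorem card_moved {Y : Type*} [Finite Y] (p : Y → Prop) :
    Nat.card {c : Y // ¬ p c} = Nat.card Y - Nat.card {c : Y // p c} := by
  classical
  haveI := Fintype.ofFinite Y
  rw [Nat.card_eq_fintype_card, Fintype.card_subtype_compl, ← Nat.card_eq_fintype_card,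
    ← Nat.card_eq_fintype_card]

namespace PairTwo

variable {X Y : Type*} [Group X] [MulAction X Y] [Finite X] [Finite Y] [FaithfulSMul X Y]
  (P : PairTwo X Y) (hf : Odd (Nat.card P.F))

theorem two_le_f : 2 ≤ Nat.card P.F := by
  haveI : Nontrivial P.F := ⟨⟨P.a, P.ja⟩, ⟨P.b, P.jb⟩, fun h => P.hab (congrArg Subtype.val h)⟩
  exact Finite.one_lt_card

theorem f_lt_k : Nat.card P.F < Nat.card Y := by
  obtain ⟨c, hc⟩ : ∃ c : Y, P.j • c ≠ c := by
    by_contra h
    push Not at h
    exact P.j_ne (eq_of_smul_eq_smul (α := Y) fun c => by rw [h c, one_smul])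
  rw [Nat.card_coe_set_eq, ← Set.ncard_univ Y]
  exact Set.ncard_lt_ncard ((Set.ssubset_univ_iff).2 fun h => hc (h.ge (Set.mem_univ c) :))
    (Set.toFinite _)

include hf

theorem odd_k : Odd (Nat.card Y) := by
  have h := card_fixed_modEq (MulAction.toPermHom X Y P.j) (by rw [← map_mul, P.j_sq, map_one])
  rw [Nat.odd_iff] at hf ⊢
  exact h.symm.trans hf

theorem exists_fixed {r : X} (hr : r * r = 1) : ∃ c : Y, r • c = c := by
  have h := card_fixed_modEq (MulAction.toPermHom X Y r) (by rw [← map_mul, hr, map_one])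
  have hk := P.odd_k hf
  rw [Nat.odd_iff] at hk
  rw [hk] at h
  have hne : Nat.card {y : Y // MulAction.toPermHom X Y r y = y} ≠ 0 := fun e => by
    rw [e] at h; omega
  exact (Nat.card_pos_iff.1 (Nat.pos_of_ne_zero hne)).1.elim fun c => ⟨c.1, c.2⟩

/-- An element centralising `j` with square fixing `F` fixes a point of `F`. -/
theorem exists_fixed_F {r : X} (hr : Commute r P.j) (hr2 : ∀ c ∈ P.F, r • r • c = c) :
    ∃ c ∈ P.F, r • c = c := by
  let σ : Equiv.Perm P.F :=
    { toFun := fun c => ⟨r • c.1, P.smul_mem_F hr c.2⟩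
      invFun := fun c => ⟨r • c.1, P.smul_mem_F hr c.2⟩
      left_inv := fun c => Subtype.ext (hr2 c.1 c.2)
      right_inv := fun c => Subtype.ext (hr2 c.1 c.2) }
  have h := card_fixed_modEq σ (Equiv.ext fun c => Subtype.ext (hr2 c.1 c.2))
  rw [Nat.odd_iff] at hf
  rw [hf] at h
  have hne : Nat.card {y : P.F // σ y = y} ≠ 0 := fun e => by
    rw [e] at h; omega
  exact (Nat.card_pos_iff.1 (Nat.pos_of_ne_zero hne)).1.elim fun c =>
    ⟨c.1.1, c.1.2, congrArg Subtype.val c.2⟩

theorem exists_center : ∃ c ∈ P.F, P.u • c = c ∧ ∀ d ∈ P.F, P.u • d = d → d = c := by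
  obtain ⟨c, hc, huc⟩ := P.exists_fixed_F hf P.uj fun c _ => by rw [← mul_smul, P.u_sq, one_smul]
  refine ⟨c, hc, huc, fun d hd hud => ?_⟩
  by_contra hne
  obtain ⟨g, ga, gb⟩ := P.trans c d (Ne.symm hne)
  have hu1 : P.u ≠ 1 := fun e => P.hab (by rw [← P.ua, e, one_smul])
  have h1 := (P.conj_fix ga gb huc hud).resolve_left hu1
  have h2 := (P.conj_fix ga gb hc hd).resolve_left P.j_ne
  exact P.hab (by rw [← P.ua, h1, ← h2, P.ja])

/-- An element of `C(j)` outside `⟨j⟩` with square in `⟨j⟩` and fixing `c` interchanges as `u`. -/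
theorem roots {c : Y} (hc : c ∈ P.F) (huc : P.u • c = c) {r : X} (hr : Commute r P.j)
    (hr2 : r * r = 1 ∨ r * r = P.j) {e : Y} (he : e ∈ P.F) (hre : r • e = e) :
    r = 1 ∨ r = P.j ∨ r * r = 1 ∧ (e = c → r = P.u ∨ r = P.u * P.j) := by
  classical
  by_cases h1 : r = 1
  · exact Or.inl h1
  by_cases hj : r = P.j
  · exact Or.inr (Or.inl hj)
  -- the elements considered
  let R : X → Prop := fun r => Commute r P.j ∧ (r * r = 1 ∨ r * r = P.j) ∧ r ≠ 1 ∧ r ≠ P.j
  have hsq : ∀ r, R r → ∀ d ∈ P.F, r • r • d = d := fun r h d hd => by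
    rw [← mul_smul]
    rcases h.2.1 with e | e <;> rw [e]
    · exact one_smul _ d
    · exact hd
  have hone : ∀ r, R r → ∀ d ∈ P.F, ∀ d' ∈ P.F, r • d = d → r • d' = d' → d = d' := by
    intro r h d hd d' hd' e e'
    by_contra hne
    obtain ⟨g, ga, gb⟩ := P.trans d d' hne
    have h1 := (P.conj_fix ga gb e e').resolve_left h.2.2.1
    have h2 := (P.conj_fix ga gb hd hd').resolve_left P.j_ne
    exact h.2.2.2 (h1.trans h2.symm)
  -- a transitive family in the centralizer
  have htr : ∀ d : P.F, ∃ m : X, Commute m P.j ∧ m • c = d.1 := by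
    intro d
    obtain ⟨c', hc', hne⟩ : ∃ c' ∈ P.F, c' ≠ c := by
      by_cases h : P.a = c
      · exact ⟨P.b, P.jb, fun e => P.hab (h.trans e.symm)⟩
      · exact ⟨P.a, P.ja, h⟩
    obtain ⟨d', hd', hne'⟩ : ∃ d' ∈ P.F, d' ≠ d.1 := by
      by_cases h : P.a = d.1
      · exact ⟨P.b, P.jb, fun e => P.hab (h.trans e.symm)⟩
      · exact ⟨P.a, P.ja, h⟩
    obtain ⟨g, ga, gb⟩ := P.trans c c' hne.symm
    obtain ⟨g', ga', gb'⟩ := P.trans d.1 d' hne'.symm
    refine ⟨g' * g⁻¹, (P.commute_of_mem_F (ga' ▸ d.2) (gb' ▸ hd')).mul_left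
      (P.commute_of_mem_F (ga ▸ hc) (gb ▸ hc')).inv_left, ?_⟩
    rw [mul_smul, show g⁻¹ • c = P.a by rw [inv_smul_eq_iff, ga], ga']
  choose m hm hmc using htr
  let w : Bool → X := fun s => if s then P.u * P.j else P.u
  have hw : ∀ s, R (w s) := by
    intro s
    cases s
    · refine ⟨P.uj, Or.inl P.u_sq, fun e => P.hab ?_, fun e => P.hab ?_⟩
      · rw [← P.ua, show P.u = 1 from e, one_smul]
      · rw [← P.ua, show P.u = P.j from e, P.ja]
    · refine ⟨P.uj.mul_left (Commute.refl _), Or.inl P.uj_swap.1, fun e => P.hab ?_, fun e => P.hab ?_⟩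
      · rw [← P.uj_swap.2.1, show P.u * P.j = 1 from e, one_smul]
      · rw [← P.uj_swap.2.1, show P.u * P.j = P.j from e, P.ja]
  have hwc : ∀ s, w s • c = c := by
    intro s
    cases s
    · exact huc
    · show (P.u * P.j) • c = c
      rw [mul_smul, show P.j • c = c from hc, huc]
  have hconj : ∀ g, Commute g P.j → ∀ r, R r → R (g * r * g⁻¹) := by
    intro g hg r h
    have hgj : g * P.j * g⁻¹ = P.j := by rw [hg.eq, mul_inv_cancel_right]
    refine ⟨(hg.mul_left h.1).mul_left hg.inv_left, ?_, fun e => h.2.2.1 ?_, fun e => h.2.2.2 ?_⟩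
    · rw [show g * r * g⁻¹ * (g * r * g⁻¹) = g * (r * r) * g⁻¹ by group]
      rcases h.2.1 with e | e <;> rw [e]
      · left; group
      · right; exact hgj
    · rw [show r = g⁻¹ * (g * r * g⁻¹) * g by group, e]; group
    · rw [show r = g⁻¹ * (g * r * g⁻¹) * g by group, e, hg.inv_left.eq, mul_assoc, inv_mul_cancel, mul_one]
  let φ : Bool × P.F → {r : X // R r} := fun z => ⟨m z.2 * w z.1 * (m z.2)⁻¹, hconj _ (hm z.2) _ (hw z.1)⟩
  have hφfix : ∀ z, (φ z).1 • z.2.1 = z.2.1 := fun z => by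
    show (m z.2 * w z.1 * (m z.2)⁻¹) • z.2.1 = z.2.1
    rw [mul_smul, mul_smul, show (m z.2)⁻¹ • z.2.1 = c by rw [inv_smul_eq_iff, hmc], hwc, hmc]
  have hφ : Function.Injective φ := by
    rintro ⟨s, d⟩ ⟨s', d'⟩ e
    have hd : d = d' := by
      have h1 := hφfix (s', d')
      rw [← e] at h1
      exact Subtype.ext (hone _ (φ (s, d)).2 _ d.2 _ d'.2 (hφfix (s, d)) h1)
    subst hd
    have e' : w s = w s' := mul_left_cancel (mul_right_cancel (congrArg Subtype.val e))
    cases s <;> cases s' <;> first | rfl | skip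
    · exact absurd e' P.u_ne_uj
    · exact absurd e'.symm P.u_ne_uj
  -- counting through the ordered pairs of `F`
  have hcard : Nat.card {r : X // R r} = 2 * Nat.card P.F := by
    haveI := Fintype.ofFinite X
    let T := Σ r : {r : X // R r}, {d : P.F // r.1 • d.1 ≠ d.1}
    have hT1 : Nat.card T = Nat.card {r : X // R r} * (Nat.card P.F - 1) := by
      rw [Nat.card_sigma, Finset.sum_congr rfl (fun r _ => ?_), Finset.sum_const, Finset.card_univ,
        smul_eq_mul, ← Nat.card_eq_fintype_card]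
      rw [card_moved (fun d : P.F => r.1 • d.1 = d.1)]
      congr 1
      obtain ⟨d, hd, hrd⟩ := P.exists_fixed_F hf r.2.1 (hsq _ r.2)
      haveI : Unique {d : P.F // r.1 • d.1 = d.1} :=
        { default := ⟨⟨d, hd⟩, hrd⟩
          uniq := fun z => Subtype.ext (Subtype.ext (hone _ r.2 _ z.1.2 _ hd z.2 hrd)) }
      exact Nat.card_unique
    choose g hga hgb using fun p : {p : P.F × P.F // p.1 ≠ p.2} =>
      P.trans p.1.1.1 p.1.2.1 fun e => p.2 (Subtype.ext e)
    have hg : ∀ p, Commute (g p) P.j := fun p =>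
      P.commute_of_mem_F (hga p ▸ p.1.1.2) (hgb p ▸ p.1.2.2)
    have hswap : ∀ r, R r → r • P.a = P.b → r = P.u ∨ r = P.u * P.j := fun r h e =>
      P.swap_cases e (by rw [← e]; exact hsq r h _ P.ja)
    let ψ : {p : P.F × P.F // p.1 ≠ p.2} × Bool → T := fun z =>
      ⟨⟨g z.1 * w z.2 * (g z.1)⁻¹, hconj _ (hg z.1) _ (hw z.2)⟩, ⟨z.1.1.1, by
        show (g z.1 * w z.2 * (g z.1)⁻¹) • z.1.1.1.1 ≠ _
        rw [mul_smul, mul_smul, show (g z.1)⁻¹ • z.1.1.1.1 = P.a by rw [inv_smul_eq_iff, hga]]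
        rw [show w z.2 • P.a = P.b by cases z.2 <;> [exact P.ua; exact P.uj_swap.2.1], hgb]
        exact fun e => z.1.2 (Subtype.ext e.symm)⟩⟩
    have hwa : ∀ s, w s • P.a = P.b := fun s => by
      cases s
      exacts [P.ua, P.uj_swap.2.1]
    have himg : ∀ z, (ψ z).1.1 • z.1.1.1.1 = z.1.1.2.1 := fun z => by
      show (g z.1 * w z.2 * (g z.1)⁻¹) • z.1.1.1.1 = _
      rw [mul_smul, mul_smul, show (g z.1)⁻¹ • z.1.1.1.1 = P.a by rw [inv_smul_eq_iff, hga], hwa, hgb]
    have hψ : Function.Bijective ψ := by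
      constructor
      · rintro ⟨p, s⟩ ⟨p', s'⟩ e
        have e1 : (ψ (p, s)).1.1 = (ψ (p', s')).1.1 := by rw [e]
        have e2 : p.1.1 = p'.1.1 := by
          have := congrArg (fun z : T => z.2.1) e
          exact this
        have hp : p = p' := by
          refine Subtype.ext (Prod.ext e2 (Subtype.ext ?_))
          rw [← himg (p, s), ← himg (p', s'), e1, e2]
        subst hp
        have e' : w s = w s' := mul_left_cancel (mul_right_cancel e1)
        cases s <;> cases s' <;> first | rfl | skip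
        · exact absurd e' P.u_ne_uj
        · exact absurd e'.symm P.u_ne_uj
      · rintro ⟨⟨r, hr⟩, ⟨d, hd⟩⟩
        let p : {p : P.F × P.F // p.1 ≠ p.2} :=
          ⟨(d, ⟨r • d.1, P.smul_mem_F hr.1 d.2⟩), fun e => hd (congrArg Subtype.val e).symm⟩
        have h1 : ((g p)⁻¹ * r * g p) • P.a = P.b := by
          rw [mul_smul, mul_smul, hga, inv_smul_eq_iff, hgb]
        have h2 : R ((g p)⁻¹ * r * g p) := by
          simpa using hconj _ (hg p).inv_left r hr
        obtain ⟨s, hs⟩ : ∃ s, w s = (g p)⁻¹ * r * g p := by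
          rcases hswap _ h2 h1 with e | e
          exacts [⟨false, e.symm⟩, ⟨true, e.symm⟩]
        refine ⟨(p, s), ?_⟩
        refine Sigma.ext (Subtype.ext ?_) ?_
        · show g p * w s * (g p)⁻¹ = r
          rw [hs]; group
        · refine (Subtype.heq_iff_coe_eq ?_).2 rfl
          intro d'
          show _ ↔ r • d'.1 ≠ d'.1
          rw [show (ψ (p, s)).1.1 = r by show g p * w s * (g p)⁻¹ = r; rw [hs]; group]
    have hT2 := Nat.card_eq_of_bijective ψ hψ
    rw [Nat.card_prod, card_ordered_pairs, hT1, Nat.card_eq_fintype_card (α := Bool), Fintype.card_bool]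
      at hT2
    refine Nat.eq_of_mul_eq_mul_right (show 0 < Nat.card P.F - 1 by have := P.two_le_f; omega) ?_
    rw [← hT2]
    ring
  haveI := Fintype.ofFinite X
  haveI := Fintype.ofFinite Y
  have hbij : Function.Bijective φ := (Nat.bijective_iff_injective_and_card φ).2 ⟨hφ, by
    rw [hcard, Nat.card_prod, Nat.card_eq_fintype_card (α := Bool), Fintype.card_bool]⟩
  have key : ∀ r' (h' : R r'), ∀ e' ∈ P.F, r' • e' = e' → ∀ d : P.F, d.1 = e' →
      ∃ s, r' = m d * w s * (m d)⁻¹ := by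
    intro r' h' e' he' hre' d hde
    obtain ⟨⟨s, d'⟩, hd'⟩ := hbij.2 ⟨r', h'⟩
    have h2' : m d' * w s * (m d')⁻¹ = r' := congrArg Subtype.val hd'
    have : d' = d := Subtype.ext ((hone r' h' _ d'.2 _ he'
      (by have := hφfix (s, d'); rwa [show (φ (s, d')).1 = r' from h2'] at this) hre').trans hde.symm)
    exact ⟨s, this ▸ h2'.symm⟩
  refine Or.inr (Or.inr ⟨?_, fun hec => ?_⟩)
  · obtain ⟨s, hs⟩ := key r ⟨hr, hr2, h1, hj⟩ e he hre ⟨e, he⟩ rfl
    have hww : w s * w s = 1 := by cases s <;> [exact P.u_sq; exact P.uj_swap.1]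
    rw [hs, show m ⟨e, he⟩ * w s * (m ⟨e, he⟩)⁻¹ * (m ⟨e, he⟩ * w s * (m ⟨e, he⟩)⁻¹) =
      m ⟨e, he⟩ * (w s * w s) * (m ⟨e, he⟩)⁻¹ by group, hww, mul_one, mul_inv_cancel]
  · subst hec
    obtain ⟨s, hs⟩ := key r ⟨hr, hr2, h1, hj⟩ e he hre ⟨e, he⟩ rfl
    obtain ⟨s1, hs1⟩ := key (w false) (hw false) e he (hwc false) ⟨e, he⟩ rfl
    obtain ⟨s2, hs2⟩ := key (w true) (hw true) e he (hwc true) ⟨e, he⟩ rfl
    have hne : s1 ≠ s2 := fun q => P.u_ne_uj (by
      subst q
      exact hs1.trans hs2.symm)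
    rcases (show s = s1 ∨ s = s2 by
      cases s <;> cases s1 <;> cases s2 <;> first | (left; rfl) | (right; rfl) | exact absurd rfl hne) with q | q
    · exact Or.inl (by rw [hs, q, ← hs1]; rfl)
    · exact Or.inr (by rw [hs, q, ← hs2]; rfl)

/-- Both interchanging involutions are not conjugate to `j` at the same time, nor neither. -/
theorem conj_dichotomy :
    (IsConj P.j P.u ∨ IsConj P.j (P.u * P.j)) ∧ ¬ (IsConj P.j P.u ∧ IsConj P.j (P.u * P.j)) := by
  classical
  obtain ⟨f, hfdef⟩ : ∃ f, f = Nat.card P.F := ⟨_, rfl⟩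
  obtain ⟨k, hkdef⟩ : ∃ k, k = Nat.card Y := ⟨_, rfl⟩
  have h2f : 2 ≤ f := hfdef ▸ P.two_le_f
  have hfk : f < k := hfdef ▸ hkdef ▸ P.f_lt_k
  have hsq : ∀ r, IsConj P.j r → r * r = 1 := fun r h => by
    obtain ⟨g, rfl⟩ := isConj_iff.1 h
    rw [show g * P.j * g⁻¹ * (g * P.j * g⁻¹) = g * (P.j * P.j) * g⁻¹ by group, P.j_sq]; group
  have hmove : ∀ r, IsConj P.j r → Nat.card {c : Y // r • c ≠ c} = k - f := fun r h => by
    obtain ⟨g, rfl⟩ := isConj_iff.1 h
    rw [card_moved (fun c : Y => (g * P.j * g⁻¹) • c = c), hkdef, hfdef]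
    congr 1
    refine (Nat.card_congr ((MulAction.toPerm g).subtypeEquiv fun c => ?_)).symm
    show P.j • c = c ↔ (g * P.j * g⁻¹) • g • c = g • c
    rw [mul_smul, mul_smul, inv_smul_smul, smul_left_cancel_iff]
  obtain ⟨M, hM⟩ : ∃ M, M = Nat.card {w : X // IsConj P.j w ∧ w • P.a = P.b} := ⟨_, rfl⟩
  have hcount := P.pair_count (IsConj P.j) fun g r h => h.trans (isConj_iff.2 ⟨g, rfl⟩)
  rw [card_incidences _ _ hmove, card_ordered_pairs, ← hkdef, ← hM] at hcount
  have hcl := CfsgLib.SmallGroups.card_isConj_mul_card_centralizer P.j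
  rw [P.card_centralizer, P.card_X, ← hfdef, ← hkdef] at hcl
  set I := Nat.card {r : X // IsConj P.j r}
  have hkk : 0 < k * (k - 1) := Nat.mul_pos (by omega) (by omega)
  have key : k - f = M * (f * (f - 1)) := by
    refine Nat.eq_of_mul_eq_mul_left hkk ?_
    have hI : I * (f * (f - 1)) = k * (k - 1) :=
      Nat.eq_of_mul_eq_mul_left (show 0 < 2 by norm_num) (by rw [← hcl]; ring)
    calc k * (k - 1) * (k - f) = I * (f * (f - 1)) * (k - f) := by rw [hI]
      _ = I * (k - f) * (f * (f - 1)) := by ring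
      _ = k * (k - 1) * (M * (f * (f - 1))) := by rw [hcount]; ring
  have hset : ∀ w : X, IsConj P.j w → w • P.a = P.b → w = P.u ∨ w = P.u * P.j := fun w h e =>
    P.swap_cases e (by rw [← e, ← mul_smul, hsq w h, one_smul])
  refine ⟨?_, ?_⟩
  · by_contra hno
    push Not at hno
    haveI : IsEmpty {w : X // IsConj P.j w ∧ w • P.a = P.b} := ⟨fun w => by
      rcases hset w.1 w.2.1 w.2.2 with e | e
      exacts [hno.1 (e ▸ w.2.1), hno.2 (e ▸ w.2.1)]⟩
    rw [hM, Nat.card_of_isEmpty, zero_mul] at key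
    omega
  · rintro ⟨h1, h2⟩
    have hM2 : M = 2 := by
      rw [hM, Nat.card_congr (β := ↥({P.u, P.u * P.j} : Set X)) (Equiv.subtypeEquivRight fun w =>
        ⟨fun h => hset w h.1 h.2, fun h => by
          rcases h with rfl | rfl
          exacts [⟨h1, P.ua⟩, ⟨h2, P.uj_swap.2.1⟩]⟩), Nat.card_coe_set_eq, Set.ncard_pair P.u_ne_uj]
    rw [hM2] at key
    obtain ⟨c, hc, huc, huniq⟩ := P.exists_center hf
    -- the stabiliser of `c` in the centralizer of `j`
    obtain ⟨Sc, hSc⟩ : ∃ Sc, Sc = Subgroup.centralizer ({P.j} : Set X) ⊓ stabilizer X c := ⟨_, rfl⟩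
    have hScmem : ∀ {g : X}, g ∈ Sc ↔ Commute g P.j ∧ g • c = c := fun {g} => by
      rw [hSc, Subgroup.mem_inf, Subgroup.mem_centralizer_singleton_iff, mem_stabilizer_iff]; rfl
    have hSccard : Nat.card Sc = 2 * (f - 1) := by
      obtain ⟨K, hK⟩ : ∃ K, K = Subgroup.centralizer ({P.j} : Set X) := ⟨_, rfl⟩
      have h3 := (stabilizer ↥K c).index_mul_card
      rw [index_stabilizer] at h3
      have horb : orbit ↥K c = P.F := by
        ext d
        constructor
        · rintro ⟨g, rfl⟩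
          exact P.smul_mem_F (Subgroup.mem_centralizer_singleton_iff.1 (hK ▸ g.2)) hc
        · intro hd
          by_cases hdc : d = c
          · rw [hdc]; exact mem_orbit_self c
          obtain ⟨g, ga, gb⟩ := P.trans c d (Ne.symm hdc)
          have hg := P.commute_of_mem_F (ga ▸ hc) (gb ▸ hd)
          refine ⟨⟨g * P.u * g⁻¹, hK ▸ Subgroup.mem_centralizer_singleton_iff.2
            ((hg.mul_left P.uj).mul_left hg.inv_left).eq⟩, ?_⟩
          show (g * P.u * g⁻¹) • c = d
          rw [mul_smul, mul_smul, show g⁻¹ • c = P.a by rw [inv_smul_eq_iff, ga], P.ua, gb]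
      have hst : Nat.card (stabilizer ↥K c) = Nat.card Sc := by
        rw [hSc, ← hK]
        exact Nat.card_congr
          { toFun := fun g => ⟨g.1.1, g.1.2, g.2⟩
            invFun := fun g => ⟨⟨g.1, g.2.1⟩, g.2.2⟩
            left_inv := fun g => rfl
            right_inv := fun g => rfl }
      rw [horb, hst, hK, P.card_centralizer, ← Nat.card_coe_set_eq, ← hfdef] at h3
      refine Nat.eq_of_mul_eq_mul_left (show 0 < f by omega) ?_
      rw [h3]; ring
    -- 2-elements of the stabiliser lie in the four-group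
    have hW : ∀ i : ℕ, ∀ y ∈ Sc, y ^ 2 ^ i = 1 → y = 1 ∨ y = P.j ∨ y = P.u ∨ y = P.u * P.j := by
      intro i
      induction i with
      | zero => intro y _ h; left; simpa using h
      | succ i ih =>
        intro y hy h
        obtain ⟨hyj, hyc⟩ := hScmem.1 hy
        have hroot : y * y = 1 ∨ y * y = P.j → y = 1 ∨ y = P.j ∨ y = P.u ∨ y = P.u * P.j := by
          intro h2'
          rcases P.roots hf hc huc hyj h2' hc hyc with e | e | ⟨-, e⟩
          · exact Or.inl e
          · exact Or.inr (Or.inl e)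
          · exact Or.inr (Or.inr (e rfl))
        rcases ih (y * y) (mul_mem hy hy) (by rw [← pow_two, ← pow_mul, ← pow_succ']; exact h)
          with e | e | e | e
        · exact hroot (Or.inl e)
        · exact hroot (Or.inr e)
        all_goals exfalso
        all_goals
          have hq : IsConj P.j (y * y) := by rw [e]; assumption
          have hyyc : (y * y) • c = c := by rw [mul_smul, hyc, hyc]
          obtain ⟨d, hdc, hyyd⟩ : ∃ d, d ≠ c ∧ (y * y) • d = d := by
            obtain ⟨g, hg⟩ := isConj_iff.1 hq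
            by_cases h' : g • P.a = c
            · exact ⟨g • P.b, fun e' => P.hab ((MulAction.injective g) (h'.trans e'.symm)),
                by rw [← hg, mul_smul, mul_smul, inv_smul_smul, P.jb]⟩
            · exact ⟨g • P.a, h', by rw [← hg, mul_smul, mul_smul, inv_smul_smul, P.ja]⟩
          obtain ⟨g, ga, gb⟩ := P.trans c d (Ne.symm hdc)
          have hne : y * y ≠ 1 := fun e1 => by
            obtain ⟨g', hg'⟩ := isConj_iff.1 hq
            rw [e1, conj_eq_one_iff] at hg'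
            exact P.j_ne hg'
          have hgj := (P.conj_fix ga gb hyyc hyyd).resolve_left hne
          have hrj : g⁻¹ * y * g * (g⁻¹ * y * g) = P.j := by
            rw [show g⁻¹ * y * g * (g⁻¹ * y * g) = g⁻¹ * (y * y) * g by group, hgj]; group
          have hcom : Commute (g⁻¹ * y * g) P.j := by
            rw [← hrj]; exact (Commute.refl _).mul_right (Commute.refl _)
          have hra : (g⁻¹ * y * g) • P.a = P.a := by
            rw [mul_smul, mul_smul, ga, hyc, inv_smul_eq_iff, ga]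
          rcases P.roots hf hc huc hcom (Or.inr hrj) P.ja hra with r1 | r1 | ⟨r1, -⟩
          · rw [r1, mul_one] at hrj; exact P.j_ne hrj.symm
          · rw [r1] at hrj; exact P.j_ne (hrj.symm.trans P.j_sq)
          · exact P.j_ne (hrj.symm.trans r1)
    have hf2 : f % 4 = 3 := by
      rw [← hfdef, Nat.odd_iff] at hf
      by_contra hne
      have h8 : 2 ^ 3 ∣ Nat.card Sc := by rw [hSccard]; omega
      haveI : Fact (Nat.Prime 2) := ⟨Nat.prime_two⟩
      obtain ⟨Q, hQ⟩ := Sylow.exists_subgroup_card_pow_prime (G := Sc) 2 h8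
      have hsub : ((Q.map Sc.subtype : Subgroup X) : Set X) ⊆
          (({1, P.j, P.u, P.u * P.j} : Finset X) : Set X) := by
        rintro _ ⟨y, hy, rfl⟩
        obtain ⟨i, hi⟩ := (IsPGroup.of_card (n := 3) hQ) ⟨y, hy⟩
        have hi' : ((y : Sc) : X) ^ 2 ^ i = 1 := by
          simpa using congrArg (fun z : Q => ((z : Sc) : X)) hi
        have := hW i _ y.2 hi'
        simpa using this
      have := Set.ncard_le_ncard hsub (Finset.finite_toSet _)
      rw [Set.ncard_coe_finset, ← Nat.card_coe_set_eq] at this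
      have h4 : ({1, P.j, P.u, P.u * P.j} : Finset X).card ≤ 4 := Finset.card_le_four
      rw [show Nat.card ↥((Q.map Sc.subtype : Subgroup X) : Set X) = 2 ^ 3 from
        (Nat.card_congr (Subgroup.equivMapOfInjective Q _ Sc.subtype_injective).toEquiv).symm.trans hQ]
        at this
      omega
    -- the centralizer of the four-group
    have hcent : Nat.card (Subgroup.centralizer ({P.j, P.u} : Set X)) = 2 * (f - 1) := by
      rw [← hSccard, show Subgroup.centralizer ({P.j, P.u} : Set X) = Sc from ?_]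
      ext g
      rw [hScmem, Subgroup.mem_centralizer_iff]
      simp only [Set.mem_insert_iff, Set.mem_singleton_iff, forall_eq_or_imp, forall_eq]
      constructor
      · rintro ⟨hj', hu'⟩
        have hgj : Commute g P.j := hj'.symm
        refine ⟨hgj, huniq _ (P.smul_mem_F hgj hc) ?_⟩
        rw [← mul_smul, hu', mul_smul, huc]
      · intro hg
        obtain ⟨hgj, hgc⟩ := hg
        refine ⟨hgj.symm.eq, ?_⟩
        -- an odd power and the square both centralise `u`
        have hgu : g * P.u * g⁻¹ = P.u ∨ g * P.u * g⁻¹ = P.u * P.j := by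
          have hmem : g * P.u * g⁻¹ ∈ Sc := hScmem.2 ⟨(hgj.mul_left P.uj).mul_left hgj.inv_left, by
            rw [mul_smul, mul_smul, show g⁻¹ • c = c by rw [inv_smul_eq_iff, hgc], huc, hgc]⟩
          have hsq2 : g * P.u * g⁻¹ * (g * P.u * g⁻¹) = 1 := by
            rw [show g * P.u * g⁻¹ * (g * P.u * g⁻¹) = g * (P.u * P.u) * g⁻¹ by group, P.u_sq]; group
          have hgj' : g * P.j * g⁻¹ = P.j := by rw [hgj.eq, mul_inv_cancel_right]
          rcases hW 1 _ hmem (by rw [pow_one, pow_two]; exact hsq2) with e | e | e | e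
          · exact absurd (conj_eq_one_iff.1 e) fun e' => P.hab (by rw [← P.ua, e', one_smul])
          · exact absurd (mul_left_cancel (mul_right_cancel (e.trans hgj'.symm))) fun e' =>
              P.hab (by rw [← P.ua, e', P.ja])
          · exact Or.inl e
          · exact Or.inr e
        have hg2 : Commute (g * g) P.u := by
          rcases hgu with e | e
          · have : Commute g P.u := mul_inv_eq_iff_eq_mul.1 e
            exact this.mul_left this
          · refine mul_inv_eq_iff_eq_mul.1 ?_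
            calc g * g * P.u * (g * g)⁻¹ = g * (g * P.u * g⁻¹) * g⁻¹ := by group
              _ = g * (P.u * P.j) * g⁻¹ := by rw [e]
              _ = (g * P.u * g⁻¹) * (g * P.j * g⁻¹) := by group
              _ = P.u := by rw [e, hgj.eq, mul_inv_cancel_right, mul_assoc, P.j_sq, mul_one]
        obtain ⟨i, m, hm, hord⟩ := Nat.exists_eq_two_pow_mul_odd (orderOf_pos g).ne'
        obtain ⟨l, rfl⟩ := hm
        have hodd : Commute (g ^ (2 * l + 1)) P.u := by
          have h5 : (g ^ (2 * l + 1)) ^ 2 ^ i = 1 := by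
            rw [← pow_mul, mul_comm, ← hord, pow_orderOf_eq_one]
          rcases hW i _ (pow_mem (hScmem.2 ⟨hgj, hgc⟩) _) h5 with e | e | e | e <;> rw [e]
          · exact Commute.one_left _
          · exact P.uj.symm
          · exact (Commute.refl P.u).mul_left (show Commute P.j P.u from P.uj.symm)
        have hsplit : g = ((g * g) ^ l)⁻¹ * g ^ (2 * l + 1) := by
          rw [← pow_two, ← pow_mul, pow_succ, inv_mul_cancel_left]
        have hgu' : Commute g P.u := by
          rw [hsplit]; exact ((hg2.pow_left l).inv_left).mul_left hodd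
        exact hgu'.symm.eq
    -- contradiction from the ratio
    have hall : ∀ i : X, orderOf i = 2 → IsConj P.j i := by
      intro i hi
      have hii : i * i = 1 := by rw [← pow_two, ← hi, pow_orderOf_eq_one]
      have hi1 : i ≠ 1 := fun e => by rw [e, orderOf_one] at hi; omega
      obtain ⟨d, hd⟩ : ∃ d : Y, i • d ≠ d := by
        by_contra h
        push Not at h
        exact hi1 (eq_of_smul_eq_smul (α := Y) fun d => by rw [h d, one_smul])
      obtain ⟨g, ga, gb⟩ := P.trans d (i • d) (Ne.symm hd)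
      rcases P.swap_cases (g := g⁻¹ * i * g) (by rw [mul_smul, mul_smul, ga, inv_smul_eq_iff, gb])
          (by rw [mul_smul, mul_smul, gb, ← mul_smul i i, hii, one_smul, inv_smul_eq_iff, ga])
        with e | e
      · exact (e ▸ h1).trans (isConj_iff.2 ⟨g, by group⟩)
      · exact (e ▸ h2).trans (isConj_iff.2 ⟨g, by group⟩)
    have hju : P.j ≠ P.u := fun e => P.hab (by rw [← P.ua, ← e, P.ja])
    have hkodd := P.odd_k hf
    rw [← hkdef] at hkodd
    obtain ⟨s, hs⟩ : ∃ s, f = 4 * s + 3 := ⟨f / 4, by omega⟩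
    have hkval : k = f + 2 * (f * (f - 1)) := by omega
    have h8 : ¬ 8 ∣ Nat.card X := by
      rw [P.card_X, ← hkdef]
      intro h
      have h4 : 4 ∣ k * (k - 1) := by omega
      have hcop : Nat.Coprime 4 k := (Nat.Coprime.pow_left 2 (Nat.coprime_two_left.2 hkodd) :)
      have h4' := hcop.dvd_of_dvd_mul_left h4
      have : k - 1 = 4 * ((4 * s + 3) * (2 * s + 1) + s) + 2 := by
        rw [hkval, hs, show 4 * s + 3 - 1 = 2 * (2 * s + 1) by omega]
        have : (4 * s + 3) * (2 * (2 * s + 1)) = 2 * ((4 * s + 3) * (2 * s + 1)) := by ring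
        omega
      omega
    have hord : ∀ {i : X}, i * i = 1 → i ≠ 1 → orderOf i = 2 := fun {i} e e' =>
      orderOf_eq_prime (by rw [pow_two, e]) e'
    have hrat := klein_ratio h8 P.j P.u (hord P.j_sq P.j_ne)
      (hord P.u_sq fun e => P.hab (by rw [← P.ua, e, one_smul])) P.uj.symm hju
      fun i i' hi hi' => (hall i hi).symm.trans (hall i' hi')
    rw [P.card_X, P.card_centralizer, hcent, ← hfdef, ← hkdef] at hrat
    have hk2 : k = f * (2 * f - 1) := by
      obtain ⟨g, rfl⟩ : ∃ g, f = g + 1 := ⟨f - 1, by omega⟩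
      rw [hkval, show 2 * (g + 1) - 1 = 2 * g + 1 by omega, Nat.add_sub_cancel]
      ring
    obtain ⟨g, rfl⟩ : ∃ g, f = g + 2 := ⟨f - 2, by omega⟩
    have hk3 : k = (g + 2) * (2 * g + 3) := by rw [hk2, show 2 * (g + 2) - 1 = 2 * g + 3 by omega]
    have hk1 : k - 1 = (g + 1) * (2 * g + 5) := by
      have : k = (g + 1) * (2 * g + 5) + 1 := by rw [hk3]; ring
      omega
    rw [hk1, hk3, show g + 2 - 1 = g + 1 by omega] at hrat
    rcases hrat with h | h <;> nlinarith [Nat.mul_pos (Nat.mul_pos (Nat.succ_pos g) (Nat.succ_pos g))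
      (Nat.succ_pos g)]

/-- An involution fixing a single point is determined by that point. -/
theorem single_unique {r r' : X} (hr : r * r = 1) (hr1 : r ≠ 1) (hr' : r' * r' = 1) (hr1' : r' ≠ 1)
    {e : Y} (he : ∀ d, r • d = d ↔ d = e) (he' : ∀ d, r' • d = d ↔ d = e) : r = r' := by
  classical
  obtain ⟨hor, hnand⟩ := P.conj_dichotomy hf
  obtain ⟨w₀, w₁, hw₀, hw₁, hset, hw₀sq, hw₀a, hw₀1⟩ : ∃ w₀ w₁ : X, ¬ IsConj P.j w₀ ∧
      IsConj P.j w₁ ∧ (∀ g : X, g • P.a = P.b → g • P.b = P.a → g = w₀ ∨ g = w₁) ∧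
      w₀ * w₀ = 1 ∧ w₀ • P.a = P.b ∧ w₀ ≠ 1 := by
    rcases hor with h | h
    · refine ⟨P.u * P.j, P.u, fun h' => hnand ⟨h, h'⟩, h, fun g e1 e2 => (P.swap_cases e1 e2).symm,
        P.uj_swap.1, P.uj_swap.2.1, fun q => P.hab ?_⟩
      rw [← P.uj_swap.2.1, q, one_smul]
    · refine ⟨P.u, P.u * P.j, fun h' => hnand ⟨h', h⟩, h, fun g e1 e2 => P.swap_cases e1 e2,
        P.u_sq, P.ua, fun q => P.hab ?_⟩
      rw [← P.ua, q, one_smul]
  let Q : X → Prop := fun r => r * r = 1 ∧ r ≠ 1 ∧ ¬ IsConj P.j r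
  have hone : ∀ r, Q r → ∀ d d' : Y, r • d = d → r • d' = d' → d = d' := fun r h d d' e1 e2 => by
    by_contra hne
    exact h.2.2 (P.isConj_of_fix h.2.1 hne e1 e2)
  choose fp hfp using fun r : {r : X // Q r} => P.exists_fixed hf r.2.1
  have hmove : ∀ r, Q r → Nat.card {c : Y // r • c ≠ c} = Nat.card Y - 1 := fun r h => by
    rw [card_moved (fun c : Y => r • c = c)]
    congr 1
    haveI : Unique {c : Y // r • c = c} :=
      { default := ⟨fp ⟨r, h⟩, hfp ⟨r, h⟩⟩
        uniq := fun z => Subtype.ext (hone r h _ _ z.2 (hfp ⟨r, h⟩)) }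
    exact Nat.card_unique
  have hQ : ∀ (g r : X), Q r → Q (g * r * g⁻¹) := fun g r h => by
    refine ⟨?_, fun q => h.2.1 (conj_eq_one_iff.1 q), fun q => h.2.2 ?_⟩
    · rw [show g * r * g⁻¹ * (g * r * g⁻¹) = g * (r * r) * g⁻¹ by group, h.1]; group
    · exact q.trans (isConj_iff.2 ⟨g⁻¹, by group⟩)
  have hcount := P.pair_count Q hQ
  rw [card_incidences _ _ hmove, card_ordered_pairs] at hcount
  haveI : Unique {w : X // Q w ∧ w • P.a = P.b} :=
    { default := ⟨w₀, ⟨hw₀sq, hw₀1, hw₀⟩, hw₀a⟩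
      uniq := fun z => by
        obtain ⟨z, hz, hza⟩ := z
        exact Subtype.ext ((hset z hza (by rw [← hza, ← mul_smul, hz.1, one_smul])).resolve_right
          fun q => hz.2.2 (q ▸ hw₁)) }
  rw [Nat.card_unique (α := {w : X // Q w ∧ w • P.a = P.b}), mul_one] at hcount
  have hk1 : 0 < Nat.card Y - 1 := by have := P.two_le_f; have := P.f_lt_k; omega
  have hcard : Nat.card {r : X // Q r} = Nat.card Y := Nat.eq_of_mul_eq_mul_right hk1 hcount
  have hsurj : Function.Surjective fp := by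
    intro d
    let r₀ : {r : X // Q r} := ⟨w₀, hw₀sq, hw₀1, hw₀⟩
    obtain ⟨g, hg⟩ : ∃ g : X, g • fp r₀ = d := by
      obtain ⟨d', hd'⟩ : ∃ d', d' ≠ d := by
        by_cases h : P.a = d
        · exact ⟨P.b, fun q => P.hab (h.trans q.symm)⟩
        · exact ⟨P.a, h⟩
      obtain ⟨d'', hd''⟩ : ∃ d'', d'' ≠ fp r₀ := by
        by_cases h : P.a = fp r₀
        · exact ⟨P.b, fun q => P.hab (h.trans q.symm)⟩
        · exact ⟨P.a, h⟩
      obtain ⟨g1, h1, -⟩ := P.trans d d' hd'.symm
      obtain ⟨g2, h2, -⟩ := P.trans (fp r₀) d'' hd''.symm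
      exact ⟨g1 * g2⁻¹, by rw [mul_smul, ← h2, inv_smul_smul, h1]⟩
    refine ⟨⟨g * w₀ * g⁻¹, hQ g w₀ r₀.2⟩, hone _ (hQ g w₀ r₀.2) _ _ (hfp ⟨g * w₀ * g⁻¹, hQ g w₀ r₀.2⟩) ?_⟩
    rw [← hg, mul_smul, mul_smul, inv_smul_smul, hfp r₀]
  have hinj : Function.Injective fp :=
    ((Nat.bijective_iff_surjective_and_card fp).2 ⟨hsurj, hcard⟩).1
  have hQr : ∀ r : X, r * r = 1 → r ≠ 1 → (∀ d, r • d = d ↔ d = e) → Q r := fun r h1 h2 h3 => by
    refine ⟨h1, h2, fun q => ?_⟩
    obtain ⟨g, hg⟩ := isConj_iff.1 q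
    have ha := (h3 (g • P.a)).1 (by rw [← hg, mul_smul, mul_smul, inv_smul_smul, P.ja])
    have hb := (h3 (g • P.b)).1 (by rw [← hg, mul_smul, mul_smul, inv_smul_smul, P.jb])
    exact P.hab ((MulAction.injective g) (ha.trans hb.symm))
  have h1 : fp ⟨r, hQr r hr hr1 he⟩ = e := (he _).1 (hfp ⟨r, hQr r hr hr1 he⟩)
  have h2 : fp ⟨r', hQr r' hr' hr1' he'⟩ = e := (he' _).1 (hfp ⟨r', hQr r' hr' hr1' he'⟩)
  exact congrArg Subtype.val (hinj (h1.trans h2.symm))

end PairTwo

end CfsgLib.TwoPointAltFour
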