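import Cfsg.Agent.Lib.TwoPointAltFour.Common
import Cfsg.Agent.Lib.TwoPointAltFour.DirBEven
import Cfsg.Agent.Lib.TwoPointAltFour.DirBPerm

/-!
Sixteen points with lines of four points: a fixed-point-free scalar of order three in the centre of a
point stabiliser.
-/

set_option autoImplicit false

open MulAction

namespace CfsgLib.TwoPointAltFour.Ctx

variable {G Ω : Type*} [Group G] [MulAction G Ω] (C : Ctx G Ω)

/-- A scalar of order three in the point stabiliser. -/
theorem exists_scalar [Finite G] [Finite Ω] [FaithfulSMul G Ω] (hA : C.CaseA)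
    (hk : Nat.card C.Δ = 4) (hn : Nat.card Ω = 16) :
    ∃ w : G, w * w * w = 1 ∧ (∀ h : G, h • C.a = C.a → h * w = w * h) ∧ w • C.a = C.a ∧
      ∀ c : Ω, w • c = c → c = C.a := by
  classical
  have hf : Nat.card C.F = 4 := by rw [← C.card_Δ_of_caseA hA, hk]
  obtain ⟨S, hS⟩ : ∃ S, S = stabilizer G C.a := ⟨_, rfl⟩
  have hScard : Nat.card S = 180 := by rw [hS, C.card_stabilizer_a, hn]
  obtain ⟨N, hN⟩ : ∃ N, N = Subgroup.normalizer (C.V : Set G) := ⟨_, rfl⟩
  obtain ⟨M, hM⟩ : ∃ M, M = N.subgroupOf S := ⟨_, rfl⟩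
  have hMcard : Nat.card M = 36 := by
    rw [hM, ← Subgroup.inf_subgroupOf_right, Nat.card_congr (Subgroup.subgroupOfEquivOfLe inf_le_right).toEquiv,
      hN, hS, C.card_normalizer_a, hf]
  have hMidx : M.index = 5 := by
    have h := M.index_mul_card
    rw [hMcard, hScard] at h
    omega
  obtain ⟨K, hK⟩ : ∃ K, K = M.normalCore := ⟨_, rfl⟩
  haveI hKn : K.Normal := hK ▸ Subgroup.normalCore_normal M
  have hKM : K ≤ M := hK ▸ Subgroup.normalCore_le M
  have hKN : ∀ k ∈ K, ((k : S) : G) ∈ N := fun k hk => by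
    have := hKM hk
    rwa [hM, Subgroup.mem_subgroupOf] at this
  -- three divides the order of the core
  have h3 : 3 ∣ Nat.card K := by
    have hidx : K.index ∣ 120 := by
      rw [hK, Subgroup.normalCore_eq_ker, Subgroup.index_ker]
      refine (Subgroup.card_subgroup_dvd_card _).trans (dvd_of_eq ?_)
      rw [Nat.card_perm, ← Subgroup.index_eq_card, hMidx]
      rfl
    have h := K.index_mul_card
    rw [hScard] at h
    by_contra h3
    have h9 : 9 ∣ K.index := by
      have hcop : Nat.Coprime 9 (Nat.card K) :=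
        (Nat.Coprime.pow_left 2 ((Nat.Prime.coprime_iff_not_dvd (by norm_num)).2 h3) : _)
      exact hcop.dvd_of_dvd_mul_right (h ▸ (by norm_num : 9 ∣ 180))
    exact absurd (h9.trans hidx) (by norm_num)
  -- two lines through `a` meet in `a` only
  have hline : ∀ g ∈ S, ∀ c ∈ C.Δ, c ≠ C.a → g • c ∈ C.Δ → g ∈ N := by
    intro g hg c hc hca hgc
    obtain ⟨h, -, hhN, ha, hb⟩ := C.exists_local C.a_mem_F (hA hc) hca.symm
    have hga : g • C.a = C.a := by rw [hS] at hg; exact hg
    have h1 : g * h ∈ N := hN ▸ C.mem_normalizer_of_F (by rw [mul_smul, ha, hga]; exact C.a_mem_F)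
      (by rw [mul_smul, hb]; exact hA hgc)
    exact (Subgroup.mul_mem_cancel_right N (hN ▸ hhN)).1 h1
  have hSa : ∀ g : S, (g : G) • C.a = C.a := fun g => by
    have h : (g : G) ∈ stabilizer G C.a := hS ▸ g.2
    exact h
  have hVS : C.V ≤ S := fun v hv => by rw [hS]; exact (C.mem_H_iff.1 hv.1).1
  -- `t` is not in the core
  have htK : (⟨C.t, hVS C.t_mem_V⟩ : S) ∉ K := by
    intro ht
    obtain ⟨g, hg⟩ : ∃ g : S, g ∉ M := by
      by_contra hc
      push Not at hc
      rw [Subgroup.index_eq_one.2 (eq_top_iff.2 fun g _ => hc g)] at hMidx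
      omega
    have h1 : (g : G)⁻¹ * C.t * g ∈ N := by
      have := hKN _ (hKn.conj_mem _ ht g⁻¹)
      simpa using this
    have hga : (g : G) • C.a = C.a := hSa g
    let T : Set Ω := C.Δ \ {C.a}
    have hmap : ∀ c ∈ T, ((g : G)⁻¹ * C.t * g) • c ∈ T := by
      rintro c ⟨hc, hca⟩
      refine ⟨C.F_subset (C.smul_mem_F (hN ▸ h1) (hA hc)), fun h => hca ?_⟩
      have h' : ((g : G)⁻¹ * C.t * g) • C.a = C.a := by
        rw [mul_smul, mul_smul, hga, show C.t • C.a = C.a from C.ι_smul_a _, inv_smul_eq_iff, hga]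
      exact MulAction.injective ((g : G)⁻¹ * C.t * g) ((show _ = C.a from h).trans h'.symm)
    let σ : Equiv.Perm T :=
      { toFun := fun c => ⟨_, hmap c c.2⟩
        invFun := fun c => ⟨_, hmap c c.2⟩
        left_inv := fun c => Subtype.ext (by
          show ((g : G)⁻¹ * C.t * g) • ((g : G)⁻¹ * C.t * g) • c.1 = c.1
          rw [← mul_smul, show (g : G)⁻¹ * C.t * g * ((g : G)⁻¹ * C.t * g) =
            (g : G)⁻¹ * (C.t * C.t) * g by group, C.t_sq, mul_one, inv_mul_cancel, one_smul])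
        right_inv := fun c => Subtype.ext (by
          show ((g : G)⁻¹ * C.t * g) • ((g : G)⁻¹ * C.t * g) • c.1 = c.1
          rw [← mul_smul, show (g : G)⁻¹ * C.t * g * ((g : G)⁻¹ * C.t * g) =
            (g : G)⁻¹ * (C.t * C.t) * g by group, C.t_sq, mul_one, inv_mul_cancel, one_smul]) }
    have hT : Nat.card T = 3 := by
      rw [Nat.card_coe_set_eq, Set.ncard_diff_singleton_of_mem (show C.a ∈ C.Δ from C.ι_smul_a _),
        ← Nat.card_coe_set_eq, hk]
    obtain ⟨c, hc⟩ : ∃ c : T, σ c = c := by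
      by_contra h
      push Not at h
      have hmod := card_fixed_modEq σ (Equiv.ext fun c => σ.left_inv c)
      haveI : IsEmpty {y : T // σ y = y} := ⟨fun c => h c.1 c.2⟩
      rw [Nat.card_of_isEmpty (α := {y : T // σ y = y}), hT] at hmod
      exact absurd hmod (by decide)
    have hc' : ((g : G)⁻¹ * C.t * g) • c.1 = c.1 := congrArg Subtype.val hc
    rw [mul_smul, mul_smul, inv_smul_eq_iff] at hc'
    exact hg (hM ▸ Subgroup.mem_subgroupOf.2 (hline g g.2 c.1 c.2.1 c.2.2 hc'))
  -- no involution in the core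
  have hodd : ∀ k ∈ K, k * k = 1 → k = 1 := by
    intro k hk hk2
    by_contra hk1
    have hk2' : ((k : S) : G) * k = 1 := congrArg Subtype.val hk2
    have hka : ((k : S) : G) • C.a = C.a := hSa k
    obtain ⟨c, hca, hkc⟩ : ∃ c, c ≠ C.a ∧ ((k : S) : G) • c = c := by
      by_contra h
      push Not at h
      have hpar := C.parity_of_invol (MulAction.toPerm ((k : S) : G)) fun c => by
        show ((k : S) : G) • ((k : S) : G) • c = c
        rw [← mul_smul, hk2', one_smul]
      haveI : Unique {c : Ω // (MulAction.toPerm ((k : S) : G)) c = c} :=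
        { default := ⟨C.a, hka⟩
          uniq := fun z => Subtype.ext (by_contra fun hz => h z.1 hz z.2) }
      rw [Nat.card_unique (α := {c : Ω // (MulAction.toPerm ((k : S) : G)) c = c}), hn] at hpar
      omega
    obtain ⟨g, ga, gb⟩ := C.trans C.a c hca.symm
    have hgS : g ∈ S := by rw [hS]; exact ga
    have hH : g⁻¹ * ((k : S) : G) * g ∈ C.H := C.mem_H_iff.2
      ⟨by rw [mul_smul, mul_smul, ga, hka, inv_smul_eq_iff, ga],
        by rw [mul_smul, mul_smul, gb, hkc, inv_smul_eq_iff, gb]⟩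
    obtain ⟨y, hy, hyt⟩ := C.isConj_t_of_mem hH
      (by rw [show g⁻¹ * ((k : S) : G) * g * (g⁻¹ * ((k : S) : G) * g) =
        g⁻¹ * (((k : S) : G) * k) * g by group, hk2']; group)
      (fun e => hk1 (Subtype.ext (by
        rw [show ((k : S) : G) = g * (g⁻¹ * ((k : S) : G) * g) * g⁻¹ by group, e]; simp)))
    have hyS : y ∈ S := by rw [hS]; exact (C.mem_H_iff.1 hy).1
    refine htK ?_
    have := hKn.conj_mem k hk (⟨g * y, mul_mem hgS hyS⟩⁻¹ : S)
    refine (Subtype.ext ?_ : _ = (⟨C.t, hVS C.t_mem_V⟩ : S)) ▸ this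
    show (g * y)⁻¹ * ((k : S) : G) * (g * y)⁻¹⁻¹ = C.t
    rw [inv_inv, show (g * y)⁻¹ * ((k : S) : G) * (g * y) = y⁻¹ * (g⁻¹ * ((k : S) : G) * g) * y by group,
      ← hyt]
    group
  -- the core meets the two-point stabiliser trivially and centralises `V`
  have hKV : ∀ k ∈ K, ∀ v ∈ C.V, ((k : S) : G) * v = v * ((k : S) : G) := by
    intro k hk v hv
    have h1 : ((k : S) : G) * v * ((k : S) : G)⁻¹ * v⁻¹ ∈ C.V :=
      mul_mem ((Subgroup.mem_normalizer_iff.1 (hN ▸ hKN k hk) v).1 hv) (inv_mem hv)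
    have h2 : k * (⟨v, hVS hv⟩ : S) * k⁻¹ * (⟨v, hVS hv⟩ : S)⁻¹ ∈ K := by
      rw [show k * (⟨v, hVS hv⟩ : S) * k⁻¹ * (⟨v, hVS hv⟩ : S)⁻¹ =
        k * ((⟨v, hVS hv⟩ : S) * k⁻¹ * (⟨v, hVS hv⟩ : S)⁻¹) by group]
      exact mul_mem hk (hKn.conj_mem _ (inv_mem hk) _)
    have h3 := congrArg Subtype.val (hodd _ h2 (Subtype.ext h1.2))
    exact mul_inv_eq_iff_eq_mul.1 (mul_inv_eq_one.1 h3)
  have hKH : ∀ k ∈ K, ((k : S) : G) • C.b = C.b → k = 1 := by
    intro k hk hkb
    have hka : ((k : S) : G) • C.a = C.a := hSa k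
    have hV := C.mem_V_of_commute (C.mem_H_iff.2 ⟨hka, hkb⟩) (hKV k hk _ C.t_mem_V)
    exact hodd k hk (Subtype.ext hV.2)
  have hK3 : Nat.card K = 3 := by
    let φ : K → (C.Δ \ {C.a} : Set Ω) := fun k => ⟨((k.1 : S) : G) • C.b,
      C.F_subset (C.smul_mem_F (hN ▸ hKN k.1 k.2) C.b_mem_F), fun h => C.hab.symm (by
        have hka : ((k.1 : S) : G) • C.a = C.a := hSa k.1
        exact MulAction.injective ((k.1 : S) : G) ((show _ = C.a from h).trans hka.symm))⟩
    have hφ : Function.Injective φ := by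
      intro k k' e
      have e' : ((k.1 : S) : G) • C.b = ((k'.1 : S) : G) • C.b := congrArg Subtype.val e
      have h := hKH _ (mul_mem (inv_mem k'.2) k.2) (by
        show (((k'.1 : S) : G)⁻¹ * ((k.1 : S) : G)) • C.b = C.b
        rw [mul_smul, e', inv_smul_smul])
      exact Subtype.ext (inv_mul_eq_one.1 h).symm
    have h := Nat.card_le_card_of_injective φ hφ
    rw [Nat.card_coe_set_eq (C.Δ \ {C.a}), Set.ncard_diff_singleton_of_mem (show C.a ∈ C.Δ from C.ι_smul_a _),
      ← Nat.card_coe_set_eq, hk] at h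
    have := Nat.le_of_dvd Nat.card_pos h3
    omega
  -- the core is central
  have hcentral : ∀ g : S, ∀ k ∈ K, g * k = k * g := by
    haveI : Fact (Nat.Prime 3) := ⟨Nat.prime_three⟩
    haveI : IsCyclic K := isCyclic_of_prime_card hK3
    let f : S →* MulAut K := MulAut.conjNormal
    have hrange : Nat.card f.range ∣ 2 := by
      have h := Subgroup.card_subgroup_dvd_card f.range
      rwa [Nat.card_congr (IsCyclic.mulAutMulEquiv K).toEquiv, hK3, Nat.card_units, Nat.card_zmod] at h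
    have hVker : C.V.subgroupOf S ≤ f.ker := fun g hg => MonoidHom.mem_ker.2 (by
      ext k
      show (g : G) * ((k.1 : S) : G) * (g : G)⁻¹ = ((k.1 : S) : G)
      rw [← (show ((k.1 : S) : G) * (g : G) = (g : G) * ((k.1 : S) : G) from hKV k.1 k.2 _ hg), mul_inv_cancel_right])
    have h4 : 4 ∣ Nat.card f.ker := by
      have := Subgroup.card_dvd_of_le hVker
      rwa [Nat.card_congr (Subgroup.subgroupOfEquivOfLe hVS).toEquiv, C.card_V] at this
    have htop := f.ker.index_mul_card
    rw [Subgroup.index_ker, hScard] at htop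
    have h1 : Nat.card f.range = 1 := by
      rcases (Nat.dvd_prime Nat.prime_two).1 hrange with h | h
      · exact h
      · rw [h] at htop; omega
    intro g k hk
    have hg : f g = 1 := by
      have hb := Subgroup.card_eq_one.1 h1
      have hmem : f g ∈ f.range := ⟨g, rfl⟩
      rwa [hb, Subgroup.mem_bot] at hmem
    have h := congrArg Subtype.val (DFunLike.congr_fun hg ⟨k, hk⟩)
    rw [MulAut.conjNormal_apply] at h
    exact mul_inv_eq_iff_eq_mul.1 h
  haveI : Nontrivial K := Finite.one_lt_card_iff_nontrivial.1 (by omega)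
  obtain ⟨w, hw⟩ := _root_.exists_ne (1 : K)
  have hwa : ((w.1 : S) : G) • C.a = C.a := hSa w.1
  refine ⟨((w.1 : S) : G), ?_, fun h hh => ?_, hwa, fun c hc => ?_⟩
  · have h1 : w ^ Nat.card K = 1 := pow_card_eq_one'
    rw [hK3, pow_succ, pow_two] at h1
    exact congrArg (fun z : K => ((z.1 : S) : G)) h1
  · exact congrArg Subtype.val (hcentral ⟨h, by rw [hS]; exact hh⟩ w.1 w.2)
  · by_contra hca
    obtain ⟨g, ga, gb⟩ := C.trans C.a c (Ne.symm hca)
    have hcomm := congrArg Subtype.val (hcentral ⟨g, by rw [hS]; exact ga⟩ w.1 w.2)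
    refine hw (Subtype.ext (hKH w.1 w.2 ?_))
    apply MulAction.injective g
    show g • ((w.1 : S) : G) • C.b = g • C.b
    rw [← mul_smul, show g * ((w.1 : S) : G) = ((w.1 : S) : G) * g from hcomm, mul_smul, gb, hc]

end CfsgLib.TwoPointAltFour.Ctx
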