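import Cfsg.Agent.Lib.TwoPointAltFour.Plane
import Cfsg.Agent.Lib.TwoPointAltFour.AffineRecog
import Cfsg.Agent.Lib.TwoPointAltFour.DirAFour
import Cfsg.Agent.Lib.TwoPointAltFour.DirAScalar

/-!
Doubly transitive groups with two-point stabiliser `A₄`, direct case, `Fix t = Fix V`: an involution
is isolated or the group is the affine group of the plane of order four.
-/

set_option autoImplicit false
set_option linter.unusedSectionVars false
set_option linter.style.haveILetI false

open MulAction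
open scoped Pointwise

namespace CfsgLib.TwoPointAltFour

/-- In a sharply two-transitive permutation group of even degree with all pairs interchanged by
involutions, the degree is prime to three. -/
theorem not_three_dvd_of_sharply {X : Type*} [Finite X] (Γ : Subgroup (Equiv.Perm X))
    (heven : Even (Nat.card X)) (h2X : 2 ≤ Nat.card X)
    (htr : ∀ a b c d : X, a ≠ b → c ≠ d → ∃ g ∈ Γ, g a = c ∧ g b = d)
    (hsharp : ∀ g ∈ Γ, ∀ a b : X, a ≠ b → g a = a → g b = b → g = 1)
    (hinv : ∀ a b : X, a ≠ b → ∃ u ∈ Γ, u a = b ∧ u b = a) : ¬ 3 ∣ Nat.card X := by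
  classical
  intro h3
  haveI := Fintype.ofFinite X
  haveI := Fintype.ofFinite (Equiv.Perm X)
  set k := Nat.card X with hk
  haveI : Fact (Nat.Prime 3) := ⟨Nat.prime_three⟩
  haveI : Fact (Nat.Prime 2) := ⟨Nat.prime_two⟩
  have hpos : 0 < k := by omega
  have hk6 : 3 ≤ k := Nat.le_of_dvd hpos h3
  obtain ⟨a, b, hab⟩ := Fintype.exists_pair_of_one_lt_card (α := X) (by
    rw [← Nat.card_eq_fintype_card, ← hk]; omega)
  -- order of `Γ`
  have hcardΓ : Nat.card Γ = k * (k - 1) := by
    have hb : Function.Bijective (fun g : Γ => (⟨((g : Equiv.Perm X) a, (g : Equiv.Perm X) b),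
        fun e => hab ((g : Equiv.Perm X).injective e)⟩ : {p : X × X // p.1 ≠ p.2})) := by
      refine ⟨fun g g' e => ?_, fun p => ?_⟩
      · have e1 : (g : Equiv.Perm X) a = (g' : Equiv.Perm X) a := congrArg (fun q => q.1.1) e
        have e2 : (g : Equiv.Perm X) b = (g' : Equiv.Perm X) b := congrArg (fun q => q.1.2) e
        refine Subtype.ext (inv_mul_eq_one.1 (hsharp _ (Γ.mul_mem (Γ.inv_mem g.2) g'.2) a b hab ?_ ?_))
        · rw [Equiv.Perm.mul_apply, ← e1, ← Equiv.Perm.mul_apply, inv_mul_cancel, Equiv.Perm.one_apply]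
        · rw [Equiv.Perm.mul_apply, ← e2, ← Equiv.Perm.mul_apply, inv_mul_cancel, Equiv.Perm.one_apply]
      · obtain ⟨g, hg, h1, h2⟩ := htr a b p.1.1 p.1.2 hab p.2
        exact ⟨⟨g, hg⟩, Subtype.ext (Prod.ext h1 h2)⟩
    have e : {p : X × X // p.1 ≠ p.2} ≃ ↥((Finset.univ : Finset X).offDiag) :=
      Equiv.subtypeEquivRight fun p => by simp
    rw [Nat.card_eq_of_bijective _ hb, Nat.card_congr e, Nat.card_eq_fintype_card, Fintype.card_coe,
      Finset.offDiag_card, Finset.card_univ, ← Nat.card_eq_fintype_card, ← hk, Nat.mul_sub, mul_one]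
  -- the elements of `Γ` fixing exactly one point
  let S : Finset (Equiv.Perm X) := Finset.univ.filter fun g => g ∈ Γ ∧ g ≠ 1 ∧ ∃ c, g c = c
  let E : Finset (Equiv.Perm X) := Finset.univ.filter fun g => g ∈ Γ ∧ ∀ c, g c ≠ c
  have hstab : ∀ c : X, (Finset.univ.filter fun g => g ∈ Γ ∧ g ≠ 1 ∧ g c = c).card = k - 2 := by
    intro c
    obtain ⟨d, hd⟩ := Fintype.exists_ne_of_one_lt_card (by rw [← Nat.card_eq_fintype_card, ← hk]; omega) c
    have hA : (Finset.univ.filter fun g : Equiv.Perm X => g ∈ Γ ∧ g c = c).card = k - 1 := by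
      rw [hk, Nat.card_eq_fintype_card, ← Finset.card_univ, ← Finset.card_erase_of_mem (Finset.mem_univ c)]
      refine Finset.card_nbij (fun g => g d) (fun g hg => ?_) (fun g hg g' hg' e => ?_) (fun e he => ?_)
      · simp only [Finset.coe_filter, Finset.mem_univ, true_and, Set.mem_setOf_eq] at hg
        simp only [Finset.coe_erase, Finset.coe_univ, Set.mem_sdiff, Set.mem_univ, Set.mem_singleton_iff, true_and]
        exact fun e => hd (g.injective (e.trans hg.2.symm))
      · simp only [Finset.coe_filter, Finset.mem_univ, true_and, Set.mem_setOf_eq] at hg hg'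
        refine inv_mul_eq_one.1 (hsharp _ (Γ.mul_mem (Γ.inv_mem hg.1) hg'.1) c d (Ne.symm hd) ?_ ?_)
        · rw [Equiv.Perm.mul_apply, hg'.2, Equiv.Perm.inv_eq_iff_eq, hg.2]
        · rw [Equiv.Perm.mul_apply, ← (show g d = g' d from e), ← Equiv.Perm.mul_apply, inv_mul_cancel, Equiv.Perm.one_apply]
      · simp only [Finset.coe_erase, Finset.coe_univ, Set.mem_sdiff, Set.mem_univ, Set.mem_singleton_iff, true_and] at he
        obtain ⟨g, hg, h1, h2⟩ := htr c d c e (Ne.symm hd) (Ne.symm he)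
        exact ⟨g, by simp [hg, h1], h2⟩
    have h1 : (Finset.univ.filter fun g : Equiv.Perm X => g ∈ Γ ∧ g ≠ 1 ∧ g c = c) =
        (Finset.univ.filter fun g : Equiv.Perm X => g ∈ Γ ∧ g c = c).erase 1 := by
      ext g; simp; tauto
    rw [h1, Finset.card_erase_of_mem (by simp), hA]
    omega
  have hS : S.card = k * (k - 2) := by
    have he : S = Finset.univ.biUnion fun c =>
        Finset.univ.filter fun g : Equiv.Perm X => g ∈ Γ ∧ g ≠ 1 ∧ g c = c := by
      ext g; simp [S]
    rw [he, Finset.card_biUnion, Finset.sum_congr rfl (fun c _ => hstab c), Finset.sum_const,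
      Finset.card_univ, ← Nat.card_eq_fintype_card, ← hk, smul_eq_mul]
    intro c _ d _ hcd
    rw [Function.onFun, Finset.disjoint_left]
    intro g hg hg'
    simp only [Finset.mem_filter, Finset.mem_univ, true_and] at hg hg'
    exact hg.2.1 (hsharp g hg.1 c d hcd hg.2.2 hg'.2.2)
  have hE : E.card = k - 1 := by
    have hsplit : (Finset.univ.filter fun g : Equiv.Perm X => g ∈ Γ) = insert 1 (S ∪ E) := by
      ext g
      simp only [S, E, Finset.mem_filter, Finset.mem_univ, true_and, Finset.mem_insert, Finset.mem_union]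
      constructor
      · intro hg
        by_cases h1 : g = 1
        · exact Or.inl h1
        by_cases hc : ∃ c, g c = c
        · exact Or.inr (Or.inl ⟨hg, h1, hc⟩)
        · exact Or.inr (Or.inr ⟨hg, fun c hc' => hc ⟨c, hc'⟩⟩)
      · rintro (rfl | ⟨hg, -⟩ | ⟨hg, -⟩)
        · exact Γ.one_mem
        · exact hg
        · exact hg
    have hd : Disjoint S E := by
      rw [Finset.disjoint_left]
      intro g hg hg'
      simp only [S, E, Finset.mem_filter, Finset.mem_univ, true_and] at hg hg'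
      obtain ⟨c, hc⟩ := hg.2.2
      exact hg'.2 c hc
    have h1 : (1 : Equiv.Perm X) ∉ S ∪ E := by
      simp only [S, E, Finset.mem_filter, Finset.mem_univ, true_and, Finset.mem_union]
      rintro (⟨-, h, -⟩ | ⟨-, h⟩)
      · exact h rfl
      · exact h a rfl
    have := congrArg Finset.card hsplit
    rw [Finset.card_insert_of_notMem h1, Finset.card_union_of_disjoint hd, hS, ← Fintype.card_subtype,
      ← Nat.card_eq_fintype_card, show Nat.card {g // g ∈ Γ} = k * (k - 1) from hcardΓ] at this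
    obtain ⟨j, hj⟩ : ∃ j, k = j + 2 := ⟨k - 2, by omega⟩
    have hexp : k * (k - 1) = k * (k - 2) + k := by
      rw [hj, show j + 2 - 1 = j + 1 by omega, Nat.add_sub_cancel]; ring
    omega
  -- the involutions fill `E`
  choose u hu hua hub using fun c : {c : X // c ≠ a} => hinv a c (Ne.symm c.2)
  have hu2 : ∀ c, u c * u c = 1 := fun c => hsharp _ (Γ.mul_mem (hu c) (hu c)) a c (Ne.symm c.2)
    (by rw [Equiv.Perm.mul_apply, hua, hub]) (by rw [Equiv.Perm.mul_apply, hub, hua])
  have hufree : ∀ c d, u c d ≠ d := by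
    intro c d hd
    have hne : (1 : Equiv.Perm X) ≠ u c := fun e => c.2 (by
      have := hua c; rw [← e] at this; exact this.symm)
    have hone : ∀ x y, u c x = x → u c y = y → x = y := fun x y hx hy => by
      by_contra hxy
      exact hne (hsharp _ (hu c) x y hxy hx hy).symm
    let f : Function.End X := ⇑(u c)
    have hf : f ^ 2 ^ 1 = 1 := by
      rw [pow_one, pow_two]; funext x
      exact DFunLike.congr_fun (hu2 c) x
    have hmod := Equiv.Perm.card_fixedPoints_modEq (p := 2) hf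
    have h1 : Fintype.card (Function.fixedPoints f) = 1 :=
      Fintype.card_eq_one_iff.2 ⟨⟨d, hd⟩, fun y => Subtype.ext (hone _ _ y.2 hd)⟩
    rw [h1, ← Nat.card_eq_fintype_card, ← hk] at hmod
    rw [Nat.ModEq, Nat.even_iff.1 heven] at hmod
    omega
  have hEeq : ∀ g ∈ E, ∃ c, u c = g := by
    have himg : Finset.univ.image u = E := by
      refine Finset.eq_of_subset_of_card_le (fun g hg => ?_) ?_
      · obtain ⟨c, -, rfl⟩ := Finset.mem_image.1 hg
        simp [E, hu c, hufree c]
      · rw [hE, Finset.card_image_of_injective _ fun c d e => Subtype.ext ((hua c).symm.trans ((DFunLike.congr_fun e a).trans (hua d))),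
          Finset.card_univ, Fintype.card_subtype_compl, Fintype.card_subtype_eq, ← Nat.card_eq_fintype_card, ← hk]
    intro g hg
    rw [← himg] at hg
    obtain ⟨c, -, hc⟩ := Finset.mem_image.1 hg
    exact ⟨c, hc⟩
  obtain ⟨σ, hσ⟩ := exists_prime_orderOf_dvd_card' (G := Γ) 3
    (hcardΓ ▸ dvd_mul_of_dvd_left h3 _)
  set s : Equiv.Perm X := (σ : Equiv.Perm X) with hs
  have hso : orderOf s = 3 := by rw [hs, Subgroup.orderOf_coe, hσ]
  have hsE : s ∈ E := by
    simp only [E, Finset.mem_filter, Finset.mem_univ, true_and]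
    refine ⟨σ.2, fun c hc => ?_⟩
    let f : Function.End X := ⇑s
    have hf : f ^ 3 ^ 1 = 1 := by
      rw [pow_one, pow_succ, pow_two]; funext x
      have := DFunLike.congr_fun (pow_orderOf_eq_one s) x
      rw [hso] at this
      show s (s (s x)) = x
      simpa [pow_succ] using this
    have hmod := Equiv.Perm.card_fixedPoints_modEq (p := 3) hf
    have hs1 : s ≠ 1 := fun e => by rw [e, orderOf_one] at hso; omega
    have h1 : Fintype.card (Function.fixedPoints f) = 1 :=
      Fintype.card_eq_one_iff.2 ⟨⟨c, hc⟩, fun y => Subtype.ext (by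
        by_contra hne
        exact hs1 (hsharp s σ.2 _ _ hne y.2 hc))⟩
    rw [h1, ← Nat.card_eq_fintype_card, ← hk, Nat.ModEq, Nat.dvd_iff_mod_eq_zero.1 h3] at hmod
    omega
  obtain ⟨c, hc⟩ := hEeq s hsE
  have := orderOf_dvd_of_pow_eq_one (show s ^ 2 = 1 by rw [pow_two, ← hc]; exact hu2 c)
  rw [hso] at this
  omega

namespace Ctx

variable {G Ω : Type*} [Group G] [MulAction G Ω] (C : Ctx G Ω) [Finite G] [Finite Ω] [FaithfulSMul G Ω]

/-- The translates of `Δ`. -/
def Lines : Set (Set Ω) := {L | ∃ g : G, g • C.Δ = L}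

theorem smul_Δ_eq (hA : C.CaseA) {h : G} (ha : h • C.a ∈ C.Δ) (hb : h • C.b ∈ C.Δ) :
    h • C.Δ = C.Δ := by
  refine Set.eq_of_subset_of_ncard_le ?_ (by rw [Set.ncard_smul_set]) (Set.toFinite _)
  rintro _ ⟨c, hc, rfl⟩
  exact C.F_subset (C.smul_mem_F (C.mem_normalizer_of_F (hA ha) (hA hb)) (hA hc))

theorem lines_unique (hA : C.CaseA) {x y : Ω} (hxy : x ≠ y) :
    ∃! L, L ∈ C.Lines ∧ x ∈ L ∧ y ∈ L := by
  obtain ⟨g, ga, gb⟩ := C.trans x y hxy
  refine ⟨g • C.Δ, ⟨⟨g, rfl⟩, ga ▸ Set.smul_mem_smul_set (C.F_subset C.a_mem_F),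
    gb ▸ Set.smul_mem_smul_set (C.F_subset C.b_mem_F)⟩, ?_⟩
  rintro L ⟨⟨g', rfl⟩, hx, hy⟩
  rw [Set.mem_smul_set_iff_inv_smul_mem] at hx hy
  have := C.smul_Δ_eq hA (h := g'⁻¹ * g) (by rw [mul_smul, ga]; exact hx) (by rw [mul_smul, gb]; exact hy)
  rw [mul_smul, inv_smul_eq_iff] at this
  exact this.symm

theorem ncard_line {L : Set Ω} (hL : L ∈ C.Lines) : L.ncard = Nat.card C.Δ := by
  obtain ⟨g, rfl⟩ := hL
  rw [Set.ncard_smul_set, Nat.card_coe_set_eq]

theorem N_values (hD : C.IsDir) : C.N = 1 ∨ C.N = 3 ∨ C.N = 4 := by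
  obtain ⟨u, hua, hu2, huH⟩ := hD
  rcases C.N_dir hua hu2 huH with h | h | h
  · exact Or.inl h.2.2
  · exact Or.inr (Or.inl h.2.2)
  · exact Or.inr (Or.inr h.2.2)

theorem N_eq_three_of_odd (hD : C.IsDir) (hA : C.CaseA) (hk : Odd (Nat.card C.Δ)) : C.N = 3 := by
  classical
  haveI := Fintype.ofFinite Ω
  haveI : Fact (Nat.Prime 2) := ⟨Nat.prime_two⟩
  set k := Nat.card C.Δ with hkdef
  have hk2 : 2 ≤ k := C.two_le_k
  set D : Finset Ω := C.Δ.toFinset
  have hD' : ∀ x, x ∈ D ↔ C.t • x = x := fun x => Set.mem_toFinset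
  have hDcard : D.card = k := by rw [← Set.ncard_eq_toFinset_card', ← Nat.card_coe_set_eq]
  let line : Ω → Set Ω := fun x => if hx : x = C.t • x then ∅ else (C.lines_unique hA hx).exists.choose
  have hline : ∀ x, x ≠ C.t • x → line x ∈ C.Lines ∧ x ∈ line x ∧ C.t • x ∈ line x := fun x hx => by
    simp only [line, dif_neg hx]
    exact (C.lines_unique hA hx).exists.choose_spec
  -- each such line has exactly one point fixed by `t`
  have hmeet : ∀ x, x ≠ C.t • x → C.t • line x = line x ∧ ∃! c, c ∈ line x ∧ c ∈ C.Δ := by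
    intro x hx
    obtain ⟨hL, hxL, htxL⟩ := hline x hx
    have hinv : C.t • line x = line x := by
      refine (C.lines_unique hA hx).unique ⟨?_, ?_, ?_⟩ ⟨hL, hxL, htxL⟩
      · obtain ⟨g, hg⟩ := hL
        exact ⟨C.t * g, by rw [mul_smul, hg]⟩
      · have := Set.smul_mem_smul_set (a := C.t) htxL
        rwa [← mul_smul, C.t_sq, one_smul] at this
      · exact Set.smul_mem_smul_set hxL
    refine ⟨hinv, ?_⟩
    have hne : line x ≠ C.Δ := fun e => by
      rw [e] at hxL
      exact hx (show C.t • x = x from hxL).symm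
    have huniq : ∀ c d, c ∈ line x → c ∈ C.Δ → d ∈ line x → d ∈ C.Δ → c = d := fun c d h1 h2 h3 h4 => by
      by_contra hcd
      exact hne ((C.lines_unique hA hcd).unique ⟨hL, h1, h3⟩ ⟨⟨1, one_smul _ _⟩, h2, h4⟩)
    obtain ⟨c, hcL, hcD⟩ : ∃ c, c ∈ line x ∧ c ∈ C.Δ := by
      let f : Function.End (line x) := fun c => ⟨C.t • (c : Ω), by
        have := Set.smul_mem_smul_set (a := C.t) c.2
        rwa [hinv] at this⟩
      have hf : f ^ 2 ^ 1 = 1 := by
        rw [pow_one, pow_two]; funext c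
        refine Subtype.ext ?_
        show C.t • C.t • (c : Ω) = c
        rw [← mul_smul, C.t_sq, one_smul]
      have hmod := Equiv.Perm.card_fixedPoints_modEq (p := 2) hf
      rw [← Nat.card_eq_fintype_card (α := line x), Nat.card_coe_set_eq, C.ncard_line hL, ← hkdef,
        Nat.ModEq, Nat.odd_iff.1 hk] at hmod
      obtain ⟨⟨c, hc⟩⟩ : Nonempty (Function.fixedPoints f) :=
        Fintype.card_pos_iff.1 (Nat.pos_of_ne_zero fun e => by rw [e] at hmod; simp at hmod)
      exact ⟨c, c.2, congrArg Subtype.val hc⟩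
    exact ⟨c, ⟨hcL, hcD⟩, fun d hd => huniq d c hd.1 hd.2 hcL hcD⟩
  let Mv : Ω → Finset Ω := fun c => Finset.univ.filter fun x => x ≠ C.t • x ∧ c ∈ line x
  have hunion : Finset.univ \ D = D.biUnion Mv := by
    ext x
    simp only [Finset.mem_sdiff, Finset.mem_univ, true_and, Finset.mem_biUnion, hD', Mv, Finset.mem_filter]
    constructor
    · intro hx
      obtain ⟨c, hc, -⟩ := (hmeet x (Ne.symm hx)).2
      exact ⟨c, hc.2, Ne.symm hx, hc.1⟩
    · rintro ⟨c, -, hx, -⟩
      exact Ne.symm hx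
  have hdisj : (D : Set Ω).PairwiseDisjoint Mv := by
    intro c hc d hd hcd
    rw [Function.onFun, Finset.disjoint_left]
    intro x hx hx'
    simp only [Mv, Finset.mem_filter, Finset.mem_univ, true_and] at hx hx'
    exact hcd ((hmeet x hx.1).2.unique ⟨hx.2, (hD' c).1 hc⟩ ⟨hx'.2, (hD' d).1 hd⟩)
  have hequiv : ∀ c ∈ D, (Mv c).card = (Mv C.a).card := by
    intro c hc
    obtain ⟨g, hg, hgc⟩ : ∃ g : G, g * C.t = C.t * g ∧ g • C.a = c := by
      by_cases hca : c = C.a
      · exact ⟨1, by simp, by rw [one_smul, hca]⟩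
      · obtain ⟨g, hg, h1, -⟩ := C.witt ((hD' c).1 hc) (C.F_subset C.a_mem_F) hca
        exact ⟨g, hg, h1⟩
    have hmove : ∀ x : Ω, x ≠ C.t • x → g • x ≠ C.t • g • x := fun x hx e => hx (by
      rw [← mul_smul, ← hg, mul_smul] at e
      exact MulAction.injective g e)
    have hgl : ∀ x : Ω, x ≠ C.t • x → line (g • x) = g • line x := fun x hx =>
      (C.lines_unique hA (hmove x hx)).unique (hline _ (hmove x hx)) ⟨by
        obtain ⟨g', hg'⟩ := (hline x hx).1
        exact ⟨g * g', by rw [mul_smul, hg']⟩, Set.smul_mem_smul_set (hline x hx).2.1, by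
        rw [← mul_smul, ← hg, mul_smul]; exact Set.smul_mem_smul_set (hline x hx).2.2⟩
    refine (Finset.card_bij' (fun x _ => g • x) (fun x _ => g⁻¹ • x) ?_ ?_ ?_ ?_).symm
    · intro x hx
      simp only [Mv, Finset.mem_filter, Finset.mem_univ, true_and] at hx ⊢
      exact ⟨hmove x hx.1, by rw [hgl x hx.1, ← hgc]; exact Set.smul_mem_smul_set hx.2⟩
    · intro x hx
      simp only [Mv, Finset.mem_filter, Finset.mem_univ, true_and] at hx ⊢
      have hx' : g⁻¹ • x ≠ C.t • g⁻¹ • x := fun e => hx.1 (by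
        have := congrArg (g • ·) e
        simp only [smul_inv_smul] at this
        rwa [← mul_smul, hg, mul_smul, smul_inv_smul] at this)
      refine ⟨hx', ?_⟩
      have := hgl _ hx'
      rw [smul_inv_smul] at this
      rw [this, ← hgc, Set.smul_mem_smul_set_iff] at hx
      exact hx.2
    · intro x _; exact inv_smul_smul g x
    · intro x _; exact smul_inv_smul g x
  have htot : Fintype.card Ω - k = k * (Mv C.a).card := by
    have := congrArg Finset.card hunion
    rw [Finset.card_sdiff, Finset.inter_univ, Finset.card_univ, hDcard, Finset.card_biUnion hdisj,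
      Finset.sum_congr rfl hequiv, Finset.sum_const, hDcard, smul_eq_mul] at this
    exact this
  -- `k - 1` divides each part
  obtain ⟨j, hj⟩ : (k - 1) ∣ (Mv C.a).card := by
    haveI := Fintype.ofFinite (Set Ω)
    rw [Finset.card_eq_sum_card_fiberwise (s := Mv C.a) (t := (Mv C.a).image line) (f := line)
      (fun x hx => Finset.mem_image_of_mem line hx)]
    refine Finset.dvd_sum fun L hL => ?_
    obtain ⟨x, hx, rfl⟩ := Finset.mem_image.1 hL
    simp only [Mv, Finset.mem_filter, Finset.mem_univ, true_and] at hx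
    obtain ⟨hL', hxL, -⟩ := hline x hx.1
    have hset : ((Mv C.a).filter fun y => line y = line x) = (line x).toFinset.erase C.a := by
      ext y
      simp only [Mv, Finset.mem_filter, Finset.mem_univ, true_and, Finset.mem_erase, Set.mem_toFinset]
      constructor
      · rintro ⟨⟨hy, -⟩, hyl⟩
        refine ⟨fun e => hy ?_, hyl ▸ (hline y hy).2.1⟩
        rw [e]
        exact (C.ι_smul_a t0).symm
      · rintro ⟨hya, hyl⟩
        have hy : y ≠ C.t • y := fun e => hya ((hmeet x hx.1).2.unique ⟨hyl, e.symm⟩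
          ⟨hx.2, C.F_subset C.a_mem_F⟩)
        have e : line y = line x := (C.lines_unique hA hy).unique (hline y hy)
          ⟨hL', hyl, (hmeet x hx.1).1 ▸ Set.smul_mem_smul_set hyl⟩
        exact ⟨⟨hy, e ▸ hx.2⟩, e⟩
    rw [hset, Finset.card_erase_of_mem (Set.mem_toFinset.2 hx.2), ← Set.ncard_eq_toFinset_card',
      C.ncard_line hL']
  have heq := C.three_mul_sub
  rw [Nat.card_eq_fintype_card, ← hkdef, htot, hj] at heq
  have h1 : (3 * j) * (k * (k - 1)) = C.N * (k * (k - 1)) := by rw [← heq]; ring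
  have h2 := Nat.eq_of_mul_eq_mul_right (Nat.mul_pos (by omega) (by omega)) h1
  rcases C.N_values hD with h | h | h <;> omega

theorem N_eq_three_of_even (hD : C.IsDir) (hA : C.CaseA) (hk : Even (Nat.card C.Δ)) : C.N = 3 := by
  classical
  haveI := Fintype.ofFinite Ω
  set k := Nat.card C.Δ with hkdef
  let K : Subgroup G := Subgroup.centralizer ({C.t} : Set G)
  have hK : ∀ {g : G}, g ∈ K → g * C.t = C.t * g := fun hg => Subgroup.mem_centralizer_singleton_iff.1 hg
  let φ : K →* Equiv.Perm C.Δ :=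
    { toFun := fun g =>
        { toFun := fun c => ⟨(g : G) • (c : Ω), C.smul_mem_Δ (hK g.2) c.2⟩
          invFun := fun c => ⟨(g : G)⁻¹ • (c : Ω), C.smul_mem_Δ (hK (K.inv_mem g.2)) c.2⟩
          left_inv := fun c => Subtype.ext (inv_smul_smul _ _)
          right_inv := fun c => Subtype.ext (smul_inv_smul _ _) }
      map_one' := Equiv.ext fun c => Subtype.ext (one_smul G _)
      map_mul' := fun g g' => Equiv.ext fun c => Subtype.ext (mul_smul (g : G) g' _) }
  have hwitt : ∀ a b c d : C.Δ, a ≠ b → c ≠ d → ∃ g : K, φ g a = c ∧ φ g b = d := by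
    intro a b c d hab hcd
    obtain ⟨g, hg, ga, gb⟩ := C.witt a.2 b.2 (fun e => hab (Subtype.ext e))
    obtain ⟨g', hg', ga', gb'⟩ := C.witt c.2 d.2 (fun e => hcd (Subtype.ext e))
    refine ⟨⟨g', Subgroup.mem_centralizer_singleton_iff.2 hg'⟩ *
      ⟨g, Subgroup.mem_centralizer_singleton_iff.2 hg⟩⁻¹, Subtype.ext ?_, Subtype.ext ?_⟩
    · show (g' * g⁻¹) • (a : Ω) = c
      rw [mul_smul, ← ga, inv_smul_smul, ga']
    · show (g' * g⁻¹) • (b : Ω) = d
      rw [mul_smul, ← gb, inv_smul_smul, gb']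
  have hnot : ¬ 3 ∣ Nat.card C.Δ := by
    refine not_three_dvd_of_sharply φ.range hk C.two_le_k (fun a b c d hab hcd => ?_) ?_ (fun a b hab => ?_)
    · obtain ⟨g, h1, h2⟩ := hwitt a b c d hab hcd
      exact ⟨φ g, ⟨g, rfl⟩, h1, h2⟩
    · rintro _ ⟨g, rfl⟩ a b hab ha hb
      obtain ⟨y, hy, ya, yb⟩ := C.witt a.2 b.2 (fun e => hab (Subtype.ext e))
      have hyK : y ∈ K := Subgroup.mem_centralizer_singleton_iff.2 hy
      have hH : y⁻¹ * g * y ∈ C.H := C.mem_H_iff.2
        ⟨by rw [mul_smul, mul_smul, ya, show (g : G) • (a : Ω) = a from congrArg Subtype.val ha, inv_smul_eq_iff, ya],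
        by rw [mul_smul, mul_smul, yb, show (g : G) • (b : Ω) = b from congrArg Subtype.val hb, inv_smul_eq_iff, yb]⟩
      have hV := C.mem_V_of_commute hH (hK (K.mul_mem (K.mul_mem (K.inv_mem hyK) g.2) hyK))
      refine Equiv.ext fun c => Subtype.ext ?_
      show (g : G) • (c : Ω) = c
      have hc' : y⁻¹ • (c : Ω) ∈ C.F := hA (C.smul_mem_Δ (hK (K.inv_mem hyK)) c.2)
      have := C.smul_of_mem_F hV hc'
      rwa [mul_smul, mul_smul, smul_inv_smul, smul_left_cancel_iff] at this
    · obtain ⟨u, hua, hu2, huH⟩ := hD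
      obtain ⟨y, hy, ya, yb⟩ := C.witt a.2 b.2 (fun e => hab (Subtype.ext e))
      have hyK : y ∈ K := Subgroup.mem_centralizer_singleton_iff.2 hy
      have huK : u ∈ K := Subgroup.mem_centralizer_singleton_iff.2 (huH _ C.t_mem)
      refine ⟨φ ⟨y * u * y⁻¹, K.mul_mem (K.mul_mem hyK huK) (K.inv_mem hyK)⟩, ⟨_, rfl⟩, Subtype.ext ?_, Subtype.ext ?_⟩
      · show (y * u * y⁻¹) • (a : Ω) = b
        rw [mul_smul, mul_smul, ← ya, inv_smul_smul, hua, yb]
      · show (y * u * y⁻¹) • (b : Ω) = a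
        rw [mul_smul, mul_smul, ← yb, inv_smul_smul, C.swap_smul_b ⟨hu2, hua⟩, ya]
  -- `k - 1` divides `n - k`: the lines through `a` partition the other points
  have hdiv : (k - 1) ∣ (Fintype.card Ω - 1) := by
    haveI := Fintype.ofFinite (Set Ω)
    let f : Ω → Set Ω := fun y => if hy : C.a = y then ∅ else (C.lines_unique hA hy).exists.choose
    have hf : ∀ y, C.a ≠ y → f y ∈ C.Lines ∧ C.a ∈ f y ∧ y ∈ f y := fun y hy => by
      simp only [f, dif_neg hy]; exact (C.lines_unique hA hy).exists.choose_spec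
    rw [← Finset.card_univ, ← Finset.card_erase_of_mem (Finset.mem_univ C.a),
      Finset.card_eq_sum_card_fiberwise (s := Finset.univ.erase C.a)
        (t := (Finset.univ.erase C.a).image f) (f := f) (fun x hx => Finset.mem_image_of_mem f hx)]
    refine Finset.dvd_sum fun L hL => ?_
    obtain ⟨x, hx, rfl⟩ := Finset.mem_image.1 hL
    obtain ⟨hL', haL, -⟩ := hf x (Ne.symm (Finset.ne_of_mem_erase hx))
    have hset : ((Finset.univ.erase C.a).filter fun y => f y = f x) = (f x).toFinset.erase C.a := by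
      ext y
      simp only [Finset.mem_filter, Finset.mem_erase, Finset.mem_univ, and_true, Set.mem_toFinset]
      refine ⟨fun h => ⟨h.1, h.2 ▸ (hf y (Ne.symm h.1)).2.2⟩, fun h => ⟨h.1, ?_⟩⟩
      exact (C.lines_unique hA (Ne.symm h.1)).unique (hf y (Ne.symm h.1)) ⟨hL', haL, h.2⟩
    rw [hset, Finset.card_erase_of_mem (Set.mem_toFinset.2 haL), ← Set.ncard_eq_toFinset_card',
      C.ncard_line hL']
  have hk2 : 2 ≤ k := C.two_le_k
  have hkn : k ≤ Fintype.card Ω := by
    rw [hkdef, ← Nat.card_eq_fintype_card]; exact Finite.card_subtype_le _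
  obtain ⟨r, hr⟩ := hdiv
  have heq := C.three_mul_sub
  rw [Nat.card_eq_fintype_card, ← hkdef] at heq
  rcases C.N_values hD with h | h | h
  · exfalso
    rw [h, one_mul] at heq
    refine hnot (hkdef ▸ ?_)
    have h1 : 3 * (r - 1) * (k - 1) = k * (k - 1) := by
      rw [← heq, mul_assoc]
      congr 1
      rw [Nat.sub_mul, one_mul, mul_comm r, ← hr]; omega
    exact ⟨r - 1, (Nat.eq_of_mul_eq_mul_right (by omega) h1).symm⟩
  · exact h
  · exfalso
    rw [h] at heq
    refine hnot (hkdef ▸ ?_)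
    have h1 : 3 * (r - 1) * (k - 1) = 4 * k * (k - 1) := by
      rw [mul_assoc 4, ← heq, mul_assoc]
      congr 1
      rw [Nat.sub_mul, one_mul, mul_comm r, ← hr]; omega
    exact (Nat.Coprime.dvd_of_dvd_mul_left (by decide : Nat.Coprime 3 4)
      ⟨r - 1, (Nat.eq_of_mul_eq_mul_right (by omega) h1).symm⟩)

/-- The direct case with `Fix t = Fix V`. -/
theorem dir_caseA (hD : C.IsDir) (hA : C.CaseA) : IsoAGL G Ω ∨ Isolated G := by
  classical
  rcases Nat.even_or_odd (Nat.card C.Δ) with hk | hk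
  swap
  · refine Or.inr (C.isolated_of_three hD (C.N_eq_three_of_odd hD hA hk) ?_)
    rw [Nat.odd_iff, C.parity_k]
    exact Nat.odd_iff.1 hk
  left
  haveI : Nonempty Ω := ⟨C.a⟩
  set k := Nat.card C.Δ with hkdef
  have hk2 : 2 ≤ k := C.two_le_k
  have hn : Nat.card Ω = k * k := by
    have h := C.three_mul_sub
    rw [C.N_eq_three_of_even hD hA hk, ← hkdef] at h
    have h1 : Nat.card Ω - k = k * (k - 1) := Nat.eq_of_mul_eq_mul_left (by norm_num) h
    have hle : k ≤ Nat.card Ω := Finite.card_subtype_le _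
    rw [Nat.mul_sub, mul_one] at h1
    have : k ≤ k * k := Nat.le_mul_self k
    omega
  have hk4 : k = 4 := C.dirA_k_four hD hA hk hn
  have hS : IsShearPlane G C.Lines k :=
    { card_line := fun L hL => C.ncard_line hL
      exists_unique := fun x y hxy => C.lines_unique hA hxy
      smul_mem := by
        rintro g _ ⟨g', rfl⟩
        exact ⟨g * g', mul_smul g g' C.Δ⟩
      shear := by
        rintro _ ⟨g, rfl⟩
        refine ⟨g * C.t * g⁻¹, ?_, fun x => ?_⟩
        · rw [show g * C.t * g⁻¹ * (g * C.t * g⁻¹) = g * (C.t * C.t) * g⁻¹ by group, C.t_sq, mul_one,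
            mul_inv_cancel]
        · rw [Set.mem_smul_set_iff_inv_smul_mem, mul_smul, mul_smul, ← eq_inv_smul_iff]
          exact Iff.rfl
      card := hn
      even := hk
      two_le := hk2 }
  have h2 : MulAction.IsMultiplyPretransitive G Ω 2 := MulAction.is_two_pretransitive_iff.2 fun {a b c d} hab hcd => by
    obtain ⟨g, ga, gb⟩ := C.trans a b hab
    obtain ⟨g', ga', gb'⟩ := C.trans c d hcd
    exact ⟨g' * g⁻¹, by rw [mul_smul, ← ga, inv_smul_smul, ga'],
      by rw [mul_smul, ← gb, inv_smul_smul, gb']⟩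
  obtain ⟨T, hTn, hexp, hcomm, hfree, htr⟩ := hS.exists_translationGroup h2
  haveI := hTn
  have hfree' : ∀ τ ∈ T, τ • C.a = C.a → τ = 1 := fun τ hτ h => by
    by_contra h1
    exact hfree τ hτ h1 C.a h
  have hn16 : Nat.card Ω = 16 := by rw [hn, hk4]
  have hT : Nat.card T = 16 := by
    rw [← hn16]
    refine Nat.card_eq_of_bijective (fun τ : T => (τ : G) • C.a) ⟨fun τ σ e => ?_, fun c => ?_⟩
    · refine Subtype.ext (inv_mul_eq_one.1 (hfree' _ (T.mul_mem (T.inv_mem τ.2) σ.2) ?_))
      rw [mul_smul, ← (show (τ : G) • C.a = (σ : G) • C.a from e), inv_smul_smul]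
    · obtain ⟨τ, hτ, hc⟩ := htr C.a c
      exact ⟨⟨τ, hτ⟩, hc⟩
  obtain ⟨w, hw3, hwc, hwa, hwfix⟩ := C.exists_scalar hA hk4 hn16
  refine isoAGL_of_regular C.a T hcomm hexp hT (htr C.a) hfree' w hw3 hwc (fun τ hτ e => hfree' τ hτ ?_) ?_
  · refine hwfix _ ?_
    rw [mul_inv_eq_iff_eq_mul] at e
    rw [← mul_smul, e, mul_smul, hwa]
  · rw [C.card_G, hn16]

end Ctx

end CfsgLib.TwoPointAltFour
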