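import Cfsg.Agent.Lib.TwoPointAltFour.DirATrans
import Cfsg.Agent.Lib.TwoPointAltFour.DirAFour
import Cfsg.Agent.Lib.TwoPointAltFour.DirAScalar
import Cfsg.Agent.Lib.TwoPointAltFour.AffineRecog

/-!
Doubly transitive groups with two-point stabiliser `A₄`: the direct case with `Δ = F`.
-/

set_option autoImplicit false

open MulAction

namespace CfsgLib.TwoPointAltFour.Ctx

variable {G Ω : Type*} [Group G] [MulAction G Ω] (C : Ctx G Ω)

/-- Direct case, `t` fixing only the points of its four-group: `AGL₂(4)` or an isolated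
involution. -/
theorem dir_caseA_result [Finite G] [Finite Ω] [FaithfulSMul G Ω] (hD : C.IsDir) (hA : C.CaseA) :
    IsoAGL G Ω ∨ Isolated G := by
  rcases Nat.even_or_odd (Nat.card C.Δ) with hk | hk
  · left
    have hn := C.dirA_card hD hA
    have h4 := C.dirA_k_four hD hA hk hn
    have h16 : Nat.card Ω = 16 := by rw [hn, h4]
    obtain ⟨T, hTn, hcomm, hexp, hT, hreg, hfree⟩ := C.dirA_translations hD hA hk
    haveI := hTn
    obtain ⟨w, hw3, hwc, hwa, hwfix⟩ := C.exists_scalar hA h4 h16
    refine isoAGL_of_regular C.a T hcomm hexp (hT.trans h16) hreg hfree w hw3 hwc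
      (fun τ hτ e => hfree τ hτ (hwfix _ ?_)) (by rw [C.card_G, h16])
    calc w • τ • C.a = (w * τ * w⁻¹) • w • C.a := by rw [← mul_smul, ← mul_smul]; group
      _ = τ • C.a := by rw [e, hwa]
  · right
    refine C.isolated_of_three hD (C.dirA_N hD hA) ?_
    rw [Nat.odd_iff] at hk ⊢
    rw [C.parity_k, hk]

end CfsgLib.TwoPointAltFour.Ctx
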