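import Cfsg.Agent.Lib.TwoPointAltFour.Common
import Cfsg.Agent.Lib.TwoPointAltFour.DirBEven

/-!
Doubly transitive groups with two-point stabiliser `A₄`, direct case, `t` fixing exactly the
points of its four-group: the value of `N` and, for an even number of fixed points, the regular
normal subgroup of the translations.
-/

set_option autoImplicit false

set_option linter.style.haveILetI false

open MulAction

namespace CfsgLib.TwoPointAltFour.Ctx

variable {G Ω : Type*} [Group G] [MulAction G Ω] (C : Ctx G Ω)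

/-- The translate of the fixed points of `t` by an element. -/
def line (g : G) : Set Ω := {z | g⁻¹ • z ∈ C.Δ}

theorem smul_mem_line {g : G} {z : Ω} : g • z ∈ C.line g ↔ z ∈ C.Δ := by
  show g⁻¹ • g • z ∈ C.Δ ↔ _
  rw [inv_smul_smul]

theorem smul_mem_line_mul (i g : G) (z : Ω) : i • z ∈ C.line (i * g) ↔ z ∈ C.line g := by
  show (i * g)⁻¹ • i • z ∈ C.Δ ↔ g⁻¹ • z ∈ C.Δ
  rw [mul_inv_rev, mul_smul, inv_smul_smul]

theorem a_mem_Δ : C.a ∈ C.Δ := C.ι_smul_a _

theorem b_mem_Δ : C.b ∈ C.Δ := C.ι_smul_b _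

theorem card_line (g : G) : Nat.card (C.line g) = Nat.card C.Δ :=
  Nat.card_congr ((MulAction.toPerm g⁻¹).subtypeEquiv fun _ => Iff.rfl)

section CaseA

variable (hA : C.CaseA)
include hA

theorem normalizer_of_commute [Finite G] {g : G} (hg : g * C.t = C.t * g) :
    g ∈ Subgroup.normalizer (C.V : Set G) :=
  C.mem_normalizer_of_F (hA (C.smul_mem_Δ hg C.a_mem_Δ)) (hA (C.smul_mem_Δ hg C.b_mem_Δ))

theorem smul_eq_of_mem_V {w : G} (hw : w ∈ C.V) {c : Ω} (hc : c ∈ C.Δ) : w • c = c :=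
  C.smul_of_mem_F hw (hA hc)

/-- An element of `C(t)` fixing two points of `Δ` lies in `V`. -/
theorem mem_V_of_two [Finite G] {g : G} (hg : g * C.t = C.t * g) {c d : Ω} (hc : c ∈ C.Δ)
    (hd : d ∈ C.Δ) (hcd : c ≠ d) (hgc : g • c = c) (hgd : g • d = d) : g ∈ C.V := by
  obtain ⟨y, y0, ya, yb⟩ := C.witt hc hd hcd
  have h1 : y⁻¹ * g * y ∈ C.V := C.mem_V_of_commute (C.mem_H_iff.2
    ⟨by rw [mul_smul, mul_smul, ya, hgc, inv_smul_eq_iff, ya],
      by rw [mul_smul, mul_smul, yb, hgd, inv_smul_eq_iff, yb]⟩)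
    (((show Commute y C.t from y0).inv_left.mul_left (show Commute g C.t from hg)).mul_left
      (show Commute y C.t from y0)).eq
  exact (Subgroup.mem_set_normalizer_iff''.1 (C.normalizer_of_commute hA y0) g).2 h1

/-- An element mapping two points of `Δ` into `Δ` preserves it. -/
theorem smul_mem_of_two [Finite G] {g : G} {c d : Ω} (hc : c ∈ C.Δ) (hd : d ∈ C.Δ) (hcd : c ≠ d)
    (hgc : g • c ∈ C.Δ) (hgd : g • d ∈ C.Δ) {z : Ω} (hz : z ∈ C.Δ) : g • z ∈ C.Δ := by
  obtain ⟨y₁, y0, ya, yb⟩ := C.witt hc hd hcd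
  obtain ⟨y₂, z0, za, zb⟩ := C.witt hgc hgd fun e => hcd (MulAction.injective g e)
  have hH : y₂⁻¹ * g * y₁ ∈ C.H := C.mem_H_iff.2
    ⟨by rw [mul_smul, mul_smul, ya, inv_smul_eq_iff, za],
      by rw [mul_smul, mul_smul, yb, inv_smul_eq_iff, zb]⟩
  have h1 : y₁⁻¹ • z ∈ C.F := hA (C.smul_mem_Δ
    (show y₁⁻¹ * C.t = C.t * y₁⁻¹ from (show Commute y₁ C.t from y0).inv_left.eq) hz)
  have h2 := C.smul_mem_Δ z0 (C.F_subset (C.smul_mem_F (C.H_le_normalizer hH) h1))
  rwa [← mul_smul, ← mul_smul, show y₂ * (y₂⁻¹ * g * y₁) * y₁⁻¹ = g by group] at h2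

/-- Two lines with two common points are equal. -/
theorem line_eq [Finite G] {g h : G} {c d : Ω} (hcd : c ≠ d) (hc : c ∈ C.line g)
    (hd : d ∈ C.line g) (hc' : c ∈ C.line h) (hd' : d ∈ C.line h) : C.line g = C.line h := by
  have key : ∀ g h : G, c ∈ C.line g → d ∈ C.line g → c ∈ C.line h → d ∈ C.line h →
      C.line g ⊆ C.line h := by
    intro g h hc hd hc' hd' z hz
    have e : ∀ w : Ω, (h⁻¹ * g) • g⁻¹ • w = h⁻¹ • w := fun w => by
      rw [mul_smul, smul_inv_smul]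
    have := C.smul_mem_of_two hA hc hd (fun e' => hcd (MulAction.injective g⁻¹ e'))
      (g := h⁻¹ * g) (by rw [e]; exact hc') (by rw [e]; exact hd') hz
    rwa [e] at this
  exact (key g h hc hd hc' hd').antisymm (key h g hc' hd' hc hd)

theorem exists_line [Finite G] {c d : Ω} (hcd : c ≠ d) :
    ∃ g : G, c ∈ C.line g ∧ d ∈ C.line g ∧ g • C.a = c ∧ g • C.b = d := by
  obtain ⟨g, h1, h2⟩ := C.trans c d hcd
  exact ⟨g, h1 ▸ C.smul_mem_line.2 C.a_mem_Δ, h2 ▸ C.smul_mem_line.2 C.b_mem_Δ, h1, h2⟩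

/-- `k - 1` divides `n - 1`. -/
theorem k_sub_dvd [Finite G] [Finite Ω] :
    (Nat.card C.Δ - 1) ∣ (Nat.card Ω - 1) := by
  have h := Subgroup.card_dvd_of_le
    (inf_le_right : Subgroup.normalizer (C.V : Set G) ⊓ stabilizer G C.a ≤ stabilizer G C.a)
  rw [C.card_normalizer_a, C.card_stabilizer_a, ← C.card_Δ_of_caseA hA] at h
  exact Nat.dvd_of_mul_dvd_mul_left (by norm_num) h

/-- For an odd number of fixed points, `k` divides `n - k`. -/
theorem k_dvd_of_odd [Finite G] [Finite Ω] (hk : Odd (Nat.card C.Δ)) :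
    Nat.card C.Δ ∣ (Nat.card Ω - Nat.card C.Δ) := by
  classical
  haveI := Fintype.ofFinite Ω
  have hbase : ∀ z : {z : Ω // z ∉ C.Δ}, ∃ p : C.Δ, ∃ g : G,
      (z : Ω) ∈ C.line g ∧ C.t • (z : Ω) ∈ C.line g ∧ (p : Ω) ∈ C.line g := by
    rintro ⟨z, hz⟩
    obtain ⟨g, hzg, htz, -, -⟩ := C.exists_line hA (fun e => hz e.symm : z ≠ C.t • z)
    have htt : ∀ w : Ω, C.t • C.t • w = w := fun w => by rw [← mul_smul, C.t_sq, one_smul]
    have hinv : ∀ w ∈ C.line g, C.t • w ∈ C.line g := by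
      intro w hw
      have e := C.line_eq hA (fun e => hz e.symm : z ≠ C.t • z) (g := C.t * g) (h := g)
        (by have := (C.smul_mem_line_mul C.t g _).2 htz; rwa [htt] at this)
        ((C.smul_mem_line_mul C.t g z).2 hzg) hzg htz
      exact e ▸ (C.smul_mem_line_mul C.t g w).2 hw
    haveI : Fact (Nat.Prime 2) := ⟨Nat.prime_two⟩
    let σ : Function.End (C.line g) := fun w => ⟨C.t • (w : Ω), hinv _ w.2⟩
    have hσ : σ ^ 2 ^ 1 = 1 := by
      rw [pow_one, pow_two]
      funext w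
      exact Subtype.ext (htt w)
    have h := Equiv.Perm.card_fixedPoints_modEq (p := 2) hσ
    rw [← Nat.card_eq_fintype_card, C.card_line g] at h
    have hne : Nonempty (Function.fixedPoints σ) := by
      by_contra hno
      rw [not_nonempty_iff] at hno
      rw [Fintype.card_eq_zero] at h
      rw [Nat.odd_iff] at hk
      have h' : Nat.card C.Δ % 2 = 0 % 2 := h
      omega
    obtain ⟨⟨⟨w, hw⟩, hfix⟩⟩ := hne
    exact ⟨⟨w, congrArg Subtype.val hfix⟩, g, hzg, htz, hw⟩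
  choose p g hzg htz hp using hbase
  have huniq : ∀ (z : {z : Ω // z ∉ C.Δ}) (q : C.Δ) (h : G), (z : Ω) ∈ C.line h →
      C.t • (z : Ω) ∈ C.line h → (q : Ω) ∈ C.line h → q = p z := by
    intro z q h h1 h2 h3
    by_contra hne
    have e := C.line_eq hA (fun e => z.2 e.symm : (z : Ω) ≠ C.t • z) h1 h2 (hzg z) (htz z)
    have e1 : C.line 1 = C.line (g z) := C.line_eq hA (fun e' => hne (Subtype.ext e'))
      (by show (1 : G)⁻¹ • (q : Ω) ∈ C.Δ; rw [inv_one, one_smul]; exact q.2)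
      (by show (1 : G)⁻¹ • (p z : Ω) ∈ C.Δ; rw [inv_one, one_smul]; exact (p z).2)
      (e ▸ h3) (hp z)
    have := e1.symm ▸ hzg z
    rw [show ((z : Ω) ∈ C.line 1) = ((1 : G)⁻¹ • (z : Ω) ∈ C.Δ) from rfl, inv_one, one_smul] at this
    exact z.2 this
  have hfib : ∀ q : C.Δ, Nat.card {z // p z = q} = Nat.card {z // p z = ⟨C.a, C.a_mem_Δ⟩} := by
    intro q
    obtain ⟨d, hd, hcase⟩ := C.exists_ne (q : Ω)
    obtain ⟨y, y0, ya, -⟩ := C.witt q.2
      (show d ∈ C.Δ by rcases hcase with rfl | rfl <;> [exact C.a_mem_Δ; exact C.b_mem_Δ]) hd.symm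
    let e : {z : Ω // z ∉ C.Δ} ≃ {z : Ω // z ∉ C.Δ} :=
      (MulAction.toPerm y).subtypeEquiv fun z =>
        ⟨fun hz h => hz (by
          have := C.smul_mem_Δ (show Commute y C.t from y0).inv_left.eq h
          rwa [MulAction.toPerm_apply, inv_smul_smul] at this),
        fun hz h => hz (C.smul_mem_Δ y0 h)⟩
    refine (Nat.card_congr (e.subtypeEquiv fun z => ?_)).symm
    have hpe : ((p (e z) : C.Δ) : Ω) = y • (p z : Ω) := congrArg Subtype.val
      (huniq (e z) ⟨y • (p z : Ω), C.smul_mem_Δ y0 (p z).2⟩ (y * g z)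
        ((C.smul_mem_line_mul y _ _).2 (hzg z))
        (by
          show C.t • y • (z : Ω) ∈ _
          rw [← mul_smul, ← y0, mul_smul]
          exact (C.smul_mem_line_mul y _ _).2 (htz z))
        ((C.smul_mem_line_mul y _ _).2 (hp z))).symm
    constructor
    · intro h
      refine Subtype.ext (hpe.trans ?_)
      rw [h, ya]
    · intro h
      refine Subtype.ext (MulAction.injective y ?_)
      show y • (p z : Ω) = y • C.a
      rw [← hpe, h, ya]
  refine ⟨Nat.card {z // p z = ⟨C.a, C.a_mem_Δ⟩}, ?_⟩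
  calc Nat.card Ω - Nat.card C.Δ = Nat.card {z : Ω // z ∉ C.Δ} := by
        rw [Nat.card_eq_fintype_card, Nat.card_eq_fintype_card, Nat.card_eq_fintype_card,
          Fintype.card_subtype_compl]
    _ = Nat.card (Σ q : C.Δ, {z // p z = q}) := Nat.card_congr (Equiv.sigmaFiberEquiv p).symm
    _ = Nat.card C.Δ * Nat.card {z // p z = ⟨C.a, C.a_mem_Δ⟩} := by
        rw [Nat.card_sigma, Finset.sum_congr rfl (fun q _ => hfib q), Finset.sum_const,
          Finset.card_univ, smul_eq_mul, ← Nat.card_eq_fintype_card]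

end CaseA

/-! ### The translations of the line `Δ` -/

section Trans

variable [Finite G] [Finite Ω] (hA : C.CaseA) {u : G} (hua : u • C.a = C.b) (hu2 : u * u = 1)
  (huH : ∀ h ∈ C.H, u * h = h * u) (hk : Even (Nat.card C.Δ))
include hA hua hu2 huH hk

theorem u_commute_t : u * C.t = C.t * u := huH _ C.t_mem

theorem swapper_fpf {c : Ω} (hc : c ∈ C.Δ) : u • c ≠ c := by
  classical
  haveI := Fintype.ofFinite Ω
  intro hfix
  haveI : Fact (Nat.Prime 2) := ⟨Nat.prime_two⟩
  let σ : Function.End C.Δ := fun w => ⟨u • (w : Ω), C.smul_mem_Δ (huH _ C.t_mem) w.2⟩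
  have hσ : σ ^ 2 ^ 1 = 1 := by
    rw [pow_one, pow_two]
    funext w
    refine Subtype.ext ?_
    show u • u • (w : Ω) = w
    rw [← mul_smul, hu2, one_smul]
  have h := Equiv.Perm.card_fixedPoints_modEq (p := 2) hσ
  rw [← Nat.card_eq_fintype_card] at h
  let c' : Function.fixedPoints σ := ⟨⟨c, hc⟩, Subtype.ext hfix⟩
  have hpos : 0 < Fintype.card (Function.fixedPoints σ) := Fintype.card_pos_iff.2 ⟨c'⟩
  rw [Nat.even_iff] at hk
  have h2 : 1 < Fintype.card (Function.fixedPoints σ) := by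
    have : Nat.card C.Δ % 2 = Fintype.card (Function.fixedPoints σ) % 2 := h
    omega
  obtain ⟨⟨⟨d, hd⟩, hdfix⟩, hne⟩ := Fintype.exists_ne_of_one_lt_card h2 c'
  have huV := C.mem_V_of_two hA (huH _ C.t_mem) hc hd
    (fun e => hne (Subtype.ext (Subtype.ext e.symm))) hfix (congrArg Subtype.val hdfix)
  exact C.hab ((C.smul_eq_of_mem_V hA huV C.a_mem_Δ).symm.trans hua)

/-- Every element of `C(t)` without fixed point on `Δ` is an involution. -/
theorem sq_of_fpf {g : G} (hg : g * C.t = C.t * g) (hfpf : ∀ c ∈ C.Δ, g • c ≠ c) : g * g = 1 := by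
  classical
  haveI := Fintype.ofFinite Ω
  haveI := Fintype.ofFinite G
  let P := {c : C.Δ // (c : Ω) ≠ C.a}
  choose y y0 ya yb using fun c : P => C.witt C.a_mem_Δ c.1.2 (Ne.symm c.2)
  have hs : ∀ c : P, ∀ w ∈ C.V, Commute (y c * u * (y c)⁻¹) w := by
    intro c w hw
    have h := huH _ ((Subgroup.mem_set_normalizer_iff''.1 (C.normalizer_of_commute hA (y0 c)) w).1 hw).1
    show y c * u * (y c)⁻¹ * w = w * (y c * u * (y c)⁻¹)
    calc y c * u * (y c)⁻¹ * w = y c * (u * ((y c)⁻¹ * w * y c)) * (y c)⁻¹ := by group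
      _ = y c * (((y c)⁻¹ * w * y c) * u) * (y c)⁻¹ := by rw [h]
      _ = w * (y c * u * (y c)⁻¹) := by group
  have hsa : ∀ c : P, (y c * u * (y c)⁻¹) • C.a = c.1.1 := fun c => by
    rw [mul_smul, mul_smul, show (y c)⁻¹ • C.a = C.a by rw [inv_smul_eq_iff, ya], hua, yb]
  choose z z0 za using fun c : C.Δ => show ∃ z : G, z * C.t = C.t * z ∧ z • C.a = c from by
    obtain ⟨d, hd, hcase⟩ := C.exists_ne (c : Ω)
    obtain ⟨z, h0, h1, -⟩ := C.witt c.2
      (show d ∈ C.Δ by rcases hcase with rfl | rfl <;> [exact C.a_mem_Δ; exact C.b_mem_Δ]) hd.symm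
    exact ⟨z, h0, h1⟩
  let K := (Subgroup.centralizer ({C.t} : Set G) ⊓ stabilizer G C.a : Subgroup G)
  let f : (C.Δ × ↥((K : Set G) \ (C.V : Set G))) ⊕ (P × C.V) ⊕ C.V →
      ↥(Subgroup.centralizer ({C.t} : Set G)) := fun q => match q with
    | Sum.inl (c, h) => ⟨z c * h.1 * (z c)⁻¹, Subgroup.mul_mem _ (Subgroup.mul_mem _
        (Subgroup.mem_centralizer_singleton_iff.2 (z0 c)) h.2.1.1)
        (Subgroup.inv_mem _ (Subgroup.mem_centralizer_singleton_iff.2 (z0 c)))⟩
    | Sum.inr (Sum.inl (c, w)) => ⟨y c * u * (y c)⁻¹ * w.1, Subgroup.mul_mem _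
        (Subgroup.mul_mem _ (Subgroup.mul_mem _
          (Subgroup.mem_centralizer_singleton_iff.2 (y0 c))
          (Subgroup.mem_centralizer_singleton_iff.2 (huH _ C.t_mem)))
          (Subgroup.inv_mem _ (Subgroup.mem_centralizer_singleton_iff.2 (y0 c))))
        (Subgroup.mem_centralizer_singleton_iff.2 (C.commute_of_mem_V w.2 C.t_mem_V).eq)⟩
    | Sum.inr (Sum.inr w) => ⟨w.1, Subgroup.mem_centralizer_singleton_iff.2
        (C.commute_of_mem_V w.2 C.t_mem_V).eq⟩
  have hfix : ∀ (c : C.Δ) (h : ↥((K : Set G) \ (C.V : Set G))),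
      (z c * h.1 * (z c)⁻¹) • (c : Ω) = c ∧ z c * h.1 * (z c)⁻¹ ∉ C.V := by
    intro c h
    refine ⟨?_, fun hV => h.2.2 ?_⟩
    · rw [mul_smul, mul_smul, ← za c, inv_smul_smul, show h.1 • C.a = C.a from h.2.1.2]
    · have := (Subgroup.mem_set_normalizer_iff''.1 (C.normalizer_of_commute hA (z0 c)) _).1 hV
      rwa [show (z c)⁻¹ * (z c * h.1 * (z c)⁻¹) * z c = h.1 by group] at this
  have hnofix : ∀ (c : P) (w : C.V), ∀ d ∈ C.Δ, (y c * u * (y c)⁻¹ * w.1) • d ≠ d := by
    intro c w d hd e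
    rw [mul_smul, C.smul_eq_of_mem_V hA w.2 hd, mul_smul, mul_smul, ← eq_inv_smul_iff] at e
    exact C.swapper_fpf hA hua hu2 huH hk
      (C.smul_mem_Δ (show Commute (y c) C.t from y0 c).inv_left.eq hd) e
  have hinj : Function.Injective f := by
    rintro (⟨c, h⟩ | ⟨c, w⟩ | w) (⟨c', h'⟩ | ⟨c', w'⟩ | w') e <;>
      have e' := congrArg Subtype.val e
    · have hcc : c = c' := by
        by_contra hne
        exact (hfix c h).2 (C.mem_V_of_two hA
          (Subgroup.mem_centralizer_singleton_iff.1 (f (Sum.inl (c, h))).2) c.2 c'.2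
          (fun e => hne (Subtype.ext e)) (hfix c h).1
          (by rw [show z c * h.1 * (z c)⁻¹ = _ from e']; exact (hfix c' h').1))
      subst hcc
      rw [show h = h' from Subtype.ext (mul_left_cancel (mul_right_cancel e'))]
    · exact absurd ((congrArg (· • (c : Ω)) e').symm.trans (hfix c h).1) (hnofix c' w' c c.2)
    · exact absurd (show z c * h.1 * (z c)⁻¹ ∈ C.V from
        (show z c * h.1 * (z c)⁻¹ = w'.1 from e') ▸ w'.2) (hfix c h).2
    · exact absurd ((congrArg (· • (c' : Ω)) e').trans (hfix c' h').1) (hnofix c w c' c'.2)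
    · have ha := congrArg (· • C.a) e'
      simp only [f] at ha
      rw [mul_smul _ (w : G), mul_smul _ (w' : G), C.smul_eq_of_mem_V hA w.2 C.a_mem_Δ,
        C.smul_eq_of_mem_V hA w'.2 C.a_mem_Δ, hsa, hsa] at ha
      obtain rfl : c = c' := Subtype.ext (Subtype.ext ha)
      rw [show w = w' from Subtype.ext (mul_left_cancel e')]
    · exact absurd ((congrArg (· • C.a) e').trans (C.smul_eq_of_mem_V hA w'.2 C.a_mem_Δ))
        (hnofix c w C.a C.a_mem_Δ)
    · exact absurd (show z c' * h'.1 * (z c')⁻¹ ∈ C.V from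
        (show z c' * h'.1 * (z c')⁻¹ = w.1 from e'.symm) ▸ w.2) (hfix c' h').2
    · exact absurd ((congrArg (· • C.a) e').symm.trans (C.smul_eq_of_mem_V hA w.2 C.a_mem_Δ))
        (hnofix c' w' C.a C.a_mem_Δ)
    · rw [show w = w' from Subtype.ext e']
  have hP : Nat.card P = Nat.card C.Δ - 1 := by
    have e : Nat.card {c : C.Δ // (c : Ω) = C.a} = 1 := Nat.card_eq_one_iff_unique.2
      ⟨⟨fun p q => Subtype.ext (Subtype.ext (p.2.trans q.2.symm))⟩, ⟨⟨⟨C.a, C.a_mem_Δ⟩, rfl⟩⟩⟩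
    rw [Nat.card_eq_fintype_card] at e
    rw [Nat.card_eq_fintype_card, Fintype.card_subtype_compl, e, ← Nat.card_eq_fintype_card]
  have hK : Nat.card ↥((K : Set G) \ (C.V : Set G)) = 4 * (Nat.card C.Δ - 1) - 4 := by
    have hsub : (C.V : Set G) ⊆ K := fun w hw => ⟨Subgroup.mem_centralizer_singleton_iff.2
      (C.commute_of_mem_V hw C.t_mem_V).eq, (C.mem_H_iff.1 hw.1).1⟩
    rw [Nat.card_coe_set_eq, Set.ncard_sdiff hsub, ← Nat.card_coe_set_eq, ← Nat.card_coe_set_eq]
    exact congrArg₂ (· - ·) C.card_centralizer_a C.card_V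
  have hbij : Function.Bijective f := (Nat.bijective_iff_injective_and_card f).2 ⟨hinj, by
    rw [Nat.card_sum, Nat.card_sum, Nat.card_prod, Nat.card_prod, hK, hP, C.card_V,
      C.card_centralizer]
    have := C.two_le_k
    obtain ⟨r, hr⟩ : ∃ r, Nat.card C.Δ = r + 2 := ⟨Nat.card C.Δ - 2, by omega⟩
    rw [hr, show r + 2 - 1 = r + 1 by omega, show 4 * (r + 1) - 4 = 4 * r by omega]
    ring⟩
  obtain ⟨q, hq⟩ := hbij.2 ⟨g, Subgroup.mem_centralizer_singleton_iff.2 hg⟩
  have hq' := congrArg Subtype.val hq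
  rcases q with ⟨c, h⟩ | ⟨c, w⟩ | w
  · exact absurd ((congrArg (· • (c : Ω)) hq').symm.trans (hfix c h).1) (hfpf c c.2)
  · rw [show g = _ from hq'.symm]
    show y c * u * (y c)⁻¹ * w.1 * (y c * u * (y c)⁻¹ * w.1) = 1
    calc _ = y c * u * (y c)⁻¹ * (w.1 * (y c * u * (y c)⁻¹)) * w.1 := by group
      _ = y c * u * (y c)⁻¹ * ((y c * u * (y c)⁻¹) * w.1) * w.1 := by rw [(hs c w w.2).eq]
      _ = y c * (u * u) * (y c)⁻¹ * (w.1 * w.1) := by group
      _ = 1 := by rw [hu2, w.2.2]; group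
  · exact absurd ((congrArg (· • C.a) hq').symm.trans (C.smul_eq_of_mem_V hA w.2 C.a_mem_Δ))
      (hfpf C.a C.a_mem_Δ)

omit hua hu2 huH hk in
theorem exists_translations_subgroup (hsq : ∀ g : G, g * C.t = C.t * g →
      (∀ c ∈ C.Δ, g • c ≠ c) → g * g = 1) :
    ∃ E : Subgroup G, (∀ g, g ∈ E ↔ g * C.t = C.t * g ∧ (g ∈ C.V ∨ ∀ c ∈ C.Δ, g • c ≠ c)) ∧
      ∀ g ∈ E, g * g = 1 := by
  have hsqE : ∀ g, g * C.t = C.t * g ∧ (g ∈ C.V ∨ ∀ c ∈ C.Δ, g • c ≠ c) → g * g = 1 := by
    rintro g ⟨h0, h | h⟩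
    · exact h.2
    · exact hsq g h0 h
  refine ⟨{ carrier := {g | g * C.t = C.t * g ∧ (g ∈ C.V ∨ ∀ c ∈ C.Δ, g • c ≠ c)}
            one_mem' := ⟨by simp, Or.inl C.V.one_mem⟩
            mul_mem' := ?_
            inv_mem' := ?_ }, fun g => Iff.rfl, hsqE⟩
  · rintro g h ⟨g0, hg⟩ ⟨h0, hh⟩
    refine ⟨((show Commute g C.t from g0).mul_left (show Commute h C.t from h0)).eq, ?_⟩
    rcases hg with hg | hg <;> rcases hh with hh | hh
    · exact Or.inl (C.V.mul_mem hg hh)
    · refine Or.inr fun c hc e => hh c hc ?_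
      rw [mul_smul, C.smul_eq_of_mem_V hA hg (C.smul_mem_Δ h0 hc)] at e
      exact e
    · refine Or.inr fun c hc e => hg c hc ?_
      rwa [mul_smul, C.smul_eq_of_mem_V hA hh hc] at e
    · by_cases hno : ∀ c ∈ C.Δ, (g * h) • c ≠ c
      · exact Or.inr hno
      · push Not at hno
        obtain ⟨c, hc, e⟩ := hno
        rw [mul_smul] at e
        have hgd : g • c = h • c := by
          conv_lhs => rw [← e, ← mul_smul, hsq g g0 hg, one_smul]
        have hhd : h • h • c = c := by rw [← mul_smul, hsq h h0 hh, one_smul]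
        exact Or.inl (C.mem_V_of_two hA
          ((show Commute g C.t from g0).mul_left (show Commute h C.t from h0)).eq hc
          (C.smul_mem_Δ h0 hc) (fun e' => hh c hc e'.symm) (by rw [mul_smul, e])
          (by rw [mul_smul, hhd, hgd]))
  · intro g hg
    rw [inv_eq_of_mul_eq_one_right (hsqE g hg)]
    exact hg

/-- `3` does not divide the even number `k`. -/
theorem three_not_dvd : ¬ 3 ∣ Nat.card C.Δ := by
  intro h3
  obtain ⟨E, hE, hE2⟩ := C.exists_translations_subgroup hA fun g h0 hf =>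
    C.sq_of_fpf hA hua hu2 huH hk h0 hf
  have h := card_eq_orbit_mul E C.a C.Δ fun d => by
    constructor
    · intro hd
      by_cases hda : d = C.a
      · exact ⟨1, E.one_mem, by rw [one_smul, hda]⟩
      obtain ⟨y, y0, ya, yb⟩ := C.witt C.a_mem_Δ hd (Ne.symm hda)
      refine ⟨y * u * y⁻¹, (hE _).2 ⟨(((show Commute y C.t from y0).mul_left
        (show Commute u C.t from huH _ C.t_mem)).mul_left
          (show Commute y C.t from y0).inv_left).eq, Or.inr fun c hc e => ?_⟩, ?_⟩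
      · rw [mul_smul, mul_smul, ← eq_inv_smul_iff] at e
        exact C.swapper_fpf hA hua hu2 huH hk
          (C.smul_mem_Δ (show Commute y C.t from y0).inv_left.eq hc) e
      · rw [mul_smul, mul_smul, show y⁻¹ • C.a = C.a by rw [inv_smul_eq_iff, ya], hua, yb]
    · rintro ⟨g, hg, rfl⟩
      exact C.smul_mem_Δ ((hE g).1 hg).1 C.a_mem_Δ
  haveI : Fact (Nat.Prime 3) := ⟨Nat.prime_three⟩
  obtain ⟨g, hg⟩ := exists_prime_orderOf_dvd_card' (G := E) 3 (h ▸ h3.mul_right _)
  have h2 := orderOf_dvd_of_pow_eq_one (x := g) (n := 2)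
    (Subtype.ext (by rw [pow_two]; exact hE2 g g.2))
  rw [hg] at h2
  omega

end Trans

/-- In the direct case with `Δ = F`, `N = 3`. -/
theorem dirA_N [Finite G] [Finite Ω] [FaithfulSMul G Ω] (hD : C.IsDir) (hA : C.CaseA) :
    C.N = 3 := by
  obtain ⟨u, hua, hu2, huH⟩ := hD
  obtain ⟨r, hr⟩ := C.k_sub_dvd hA
  have h := C.three_mul_sub
  have hk2 := C.two_le_k
  have hN : C.N = 1 ∨ C.N = 3 ∨ C.N = 4 := by
    rcases C.N_dir hua hu2 huH with ⟨-, -, h⟩ | ⟨-, -, h⟩ | ⟨-, -, h⟩ <;> simp [h]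
  set k := Nat.card C.Δ with hkdef
  have hr' : Nat.card Ω - k = (k - 1) * (r - 1) := by
    rw [Nat.mul_sub, mul_one, ← hr]
    omega
  have h1 : 3 * (r - 1) = C.N * k := by
    rw [hr'] at h
    refine Nat.eq_of_mul_eq_mul_right (show 0 < k - 1 by omega) ?_
    rw [mul_assoc, mul_assoc, mul_comm (r - 1)]
    exact h
  by_contra hne
  have h3k : 3 ∣ k := by
    rcases hN with e | e | e
    · rw [e] at h1; omega
    · exact absurd e hne
    · rw [e] at h1; omega
  rcases Nat.even_or_odd k with he | ho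
  · exact C.three_not_dvd hA hua hu2 huH he h3k
  · obtain ⟨m, hm⟩ := C.k_dvd_of_odd hA ho
    rw [← hkdef] at hm
    rw [hm] at h
    have h2 : 3 * m = C.N * (k - 1) := by
      refine Nat.eq_of_mul_eq_mul_left (show 0 < k by omega) ?_
      calc k * (3 * m) = 3 * (k * m) := by ring
        _ = _ := by rw [h]; ring
    rcases hN with e | e | e
    · rw [e] at h2; omega
    · exact hne e
    · rw [e] at h2; omega

theorem dirA_card [Finite G] [Finite Ω] [FaithfulSMul G Ω] (hD : C.IsDir) (hA : C.CaseA) :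
    Nat.card Ω = Nat.card C.Δ * Nat.card C.Δ := by
  have h := C.three_mul_sub
  rw [C.dirA_N hD hA] at h
  have hk := C.two_le_k
  have hkn : Nat.card C.Δ ≤ Nat.card Ω := Finite.card_subtype_le _
  rw [Nat.mul_sub (Nat.card C.Δ), mul_one] at h
  have : Nat.card C.Δ ≤ Nat.card C.Δ * Nat.card C.Δ := Nat.le_mul_self _
  omega

/-- The regular normal subgroup in the direct case with `Δ = F` and `k` even. -/
theorem dirA_translations [Finite G] [Finite Ω] [FaithfulSMul G Ω] (hD : C.IsDir) (hA : C.CaseA)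
    (hk : Even (Nat.card C.Δ)) :
    ∃ T : Subgroup G, T.Normal ∧ (∀ x ∈ T, ∀ y ∈ T, x * y = y * x) ∧ (∀ x ∈ T, x * x = 1) ∧
      Nat.card T = Nat.card Ω ∧ (∀ c : Ω, ∃ τ ∈ T, τ • C.a = c) ∧
      ∀ τ ∈ T, τ • C.a = C.a → τ = 1 := by
  classical
  have hN := C.dirA_N hD hA
  have hn := C.dirA_card hD hA
  obtain ⟨u, hua, hu2, huH⟩ := hD
  obtain ⟨hut, hutt⟩ : ¬ IsConj C.t u ∧ IsConj C.t (u * C.t) := by
    rcases C.N_dir hua hu2 huH with ⟨-, -, h⟩ | ⟨h1, h2, -⟩ | ⟨-, -, h⟩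
    · omega
    · exact ⟨h1, h2⟩
    · omega
  have hu1 : u ≠ 1 := C.swap_ne_one ⟨hu2, hua⟩
  have hn2 : Nat.card Ω % 2 = 0 := by rw [C.parity_k]; exact Nat.even_iff.1 hk
  have hufix : ∀ c : Ω, u • c ≠ c := by
    intro c hc
    have hpar := C.parity_of_invol (MulAction.toPerm u) fun c => by
      show u • u • c = c
      rw [← mul_smul, hu2, one_smul]
    have h1 : Nat.card {d : Ω // (MulAction.toPerm u) d = d} = 1 := Nat.card_eq_one_iff_unique.2
      ⟨⟨fun p q => Subtype.ext (C.fix_le_one hu2 hu1 hut p.2 q.2)⟩, ⟨⟨c, hc⟩⟩⟩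
    rw [show Nat.card {d : Ω // (MulAction.toPerm u) d = d} = 1 from h1, hn2] at hpar
    exact absurd hpar (by decide)
  let U : Set G := {i | IsConj u i}
  have hU : ∀ i ∈ U, i * i = 1 ∧ ∀ c : Ω, i • c ≠ c := by
    intro i hi
    obtain ⟨g, rfl⟩ := isConj_iff.1 hi
    refine ⟨?_, fun c e => ?_⟩
    · rw [show g * u * g⁻¹ * (g * u * g⁻¹) = g * (u * u) * g⁻¹ by group, hu2, mul_one,
        mul_inv_cancel]
    · rw [mul_smul, mul_smul, ← eq_inv_smul_iff] at e
      exact hufix _ e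
  have hUii : ∀ i ∈ U, ∀ c : Ω, i • i • c = c := fun i hi c => by
    rw [← mul_smul, (hU i hi).1, one_smul]
  have hUconj : ∀ i ∈ U, ∀ g : G, g * i * g⁻¹ ∈ U := fun i hi g =>
    IsConj.trans hi (isConj_iff.2 ⟨g, rfl⟩)
  have huniq : ∀ i ∈ U, ∀ j ∈ U, ∀ c : Ω, i • c = j • c → i = j := by
    intro i hi j hj c e
    obtain ⟨g, ga, gb⟩ := C.trans c (i • c) ((hU i hi).2 c).symm
    have key : ∀ q ∈ U, q • c = i • c → g⁻¹ * q * g = u := by
      intro q hq hqc
      have hqS : g⁻¹ * q * g ∈ C.Swap := ⟨by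
        rw [show g⁻¹ * q * g * (g⁻¹ * q * g) = g⁻¹ * (q * q) * g by group, (hU q hq).1, mul_one,
          inv_mul_cancel], by rw [mul_smul, mul_smul, ga, hqc, inv_smul_eq_iff, gb]⟩
      obtain ⟨w, hw, he⟩ := (C.swap_iff_dir hua hu2 huH).1 hqS
      by_cases hw1 : w = 1
      · rw [he, hw1, mul_one]
      · exfalso
        refine hut ((hutt.trans (C.isConj_dir hua hu2 huH hw hw1)).trans ?_)
        rw [← he]
        exact (isConj_iff.2 ⟨g, by group⟩).trans (IsConj.symm hq)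
    exact mul_left_cancel (mul_right_cancel ((key i hi rfl).trans (key j hj e.symm).symm))
  -- a line through a point and its image is invariant
  have hinv : ∀ i ∈ U, ∀ (c : Ω) (h : G), c ∈ C.line h → i • c ∈ C.line h →
      ∀ z ∈ C.line h, i • z ∈ C.line h := by
    intro i hi c h hc hic z hz
    obtain ⟨g, hcg, hicg, ga, gb⟩ := C.exists_line hA ((hU i hi).2 c).symm
    rw [C.line_eq hA ((hU i hi).2 c).symm hc hic hcg hicg] at hz ⊢
    have e : i = g * u * g⁻¹ := huniq i hi _ (hUconj u (IsConj.refl u) g) c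
      (by rw [mul_smul, mul_smul, ← ga, inv_smul_smul, hua, gb, ga])
    show g⁻¹ • i • z ∈ C.Δ
    rw [e, mul_smul, mul_smul, inv_smul_smul]
    exact C.smul_mem_Δ (huH _ C.t_mem) hz
  -- two of them moving a point along the same line commute
  obtain ⟨E, hE, hE2⟩ := C.exists_translations_subgroup hA fun g h0 hf =>
    C.sq_of_fpf hA hua hu2 huH hk h0 hf
  have hEc : ∀ g ∈ E, ∀ h ∈ E, g * h = h * g := fun g hg h hh => by
    calc g * h = (g * h)⁻¹ := (inv_eq_of_mul_eq_one_right (hE2 _ (E.mul_mem hg hh))).symm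
      _ = h * g := by rw [mul_inv_rev, inv_eq_of_mul_eq_one_right (hE2 _ hg),
        inv_eq_of_mul_eq_one_right (hE2 _ hh)]
  have hcomm : ∀ i ∈ U, ∀ j ∈ U, ∀ (c : Ω) (h : G), c ∈ C.line h → i • c ∈ C.line h →
      j • c ∈ C.line h → i * j = j * i := by
    intro i hi j hj c h hc hic hjc
    obtain ⟨g, hcg, hicg, ga, gb⟩ := C.exists_line hA ((hU i hi).2 c).symm
    rw [C.line_eq hA ((hU i hi).2 c).symm hc hic hcg hicg] at hjc
    have hEU : ∀ q ∈ U, q • C.a ∈ C.Δ → q ∈ E := by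
      intro q hq hqa
      obtain ⟨y, y0, ya, yb⟩ := C.witt C.a_mem_Δ hqa ((hU q hq).2 C.a).symm
      have e : q = y * u * y⁻¹ := huniq q hq _ (hUconj u (IsConj.refl u) y) C.a
        (by rw [mul_smul, mul_smul, show y⁻¹ • C.a = C.a by rw [inv_smul_eq_iff, ya], hua, yb])
      refine (hE q).2 ⟨?_, Or.inr fun z _ => (hU q hq).2 z⟩
      rw [e]
      exact (((show Commute y C.t from y0).mul_left (show Commute u C.t from huH _ C.t_mem)).mul_left
        (show Commute y C.t from y0).inv_left).eq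
    have hq : ∀ q ∈ U, q • c ∈ C.line g → g⁻¹ * q * g⁻¹⁻¹ ∈ E := fun q hq hqc => by
      refine hEU _ (hUconj q hq g⁻¹) ?_
      rw [inv_inv, mul_smul, mul_smul, ga]
      exact hqc
    have h' := hEc _ (hq i hi hicg) _ (hq j hj hjc)
    rw [inv_inv] at h'
    calc i * j = g * (g⁻¹ * i * g * (g⁻¹ * j * g)) * g⁻¹ := by group
      _ = g * (g⁻¹ * j * g * (g⁻¹ * i * g)) * g⁻¹ := by rw [h']
      _ = j * i := by group
  -- at most one parallel through a point
  have hpar : ∀ (m l₁ l₂ : G) (e : Ω), e ∉ C.line m → e ∈ C.line l₁ → e ∈ C.line l₂ →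
      (∀ z ∈ C.line m, z ∉ C.line l₁) → (∀ z ∈ C.line m, z ∉ C.line l₂) →
      C.line l₁ = C.line l₂ := by
    intro m l₁ l₂ e he h1 h2 hd1 hd2
    by_contra hne
    haveI := Fintype.ofFinite Ω
    choose L hLe hLz _ _ using fun z : C.line m =>
      C.exists_line hA (show e ≠ (z : Ω) from fun eq => he (eq ▸ z.2))
    let S : C.line m ⊕ Bool → G := fun q => match q with
      | Sum.inl z => L z
      | Sum.inr true => l₁
      | Sum.inr false => l₂
    have hS : ∀ q, e ∈ C.line (S q) := by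
      rintro (z | _ | _)
      exacts [hLe z, h2, h1]
    let P := fun q => {x : Ω // x ∈ C.line (S q) ∧ x ≠ e}
    have hP : ∀ q, Nat.card (P q) = Nat.card C.Δ - 1 := fun q => by
      rw [← C.card_line (S q), Nat.card_coe_set_eq,
        ← Set.ncard_sdiff_singleton_of_mem (hS q), ← Nat.card_coe_set_eq]
      rfl
    have hdist : ∀ q q', C.line (S q) = C.line (S q') → q = q' := by
      rintro (z | _ | _) (z' | _ | _) h
      · by_contra hne'
        have := C.line_eq hA (show (z : Ω) ≠ z' from fun e' => hne' (congrArg _ (Subtype.ext e')))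
          z.2 z'.2 (hLz z) (h.symm ▸ hLz z')
        exact he (this ▸ hLe z)
      · exact absurd (h ▸ hLz z) (hd2 z z.2)
      · exact absurd (h ▸ hLz z) (hd1 z z.2)
      · exact absurd (h.symm ▸ hLz z') (hd2 z' z'.2)
      · rfl
      · exact absurd h.symm hne
      · exact absurd (h.symm ▸ hLz z') (hd1 z' z'.2)
      · exact absurd h hne
      · rfl
    let f : (Σ q, P q) → {x : Ω // x ≠ e} := fun p => ⟨p.2.1, p.2.2.2⟩
    have hf : Function.Injective f := by
      rintro ⟨q, x, hx, hxe⟩ ⟨q', x', hx', hxe'⟩ h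
      obtain rfl : x = x' := congrArg Subtype.val h
      obtain rfl := hdist q q' (C.line_eq hA hxe hx (hS q) hx' (hS q'))
      rfl
    have hle := Nat.card_le_card_of_injective f hf
    rw [Nat.card_sigma, Finset.sum_congr rfl (fun q _ => hP q), Finset.sum_const, Finset.card_univ,
      smul_eq_mul, Fintype.card_sum, Fintype.card_bool, ← Nat.card_eq_fintype_card,
      C.card_line m] at hle
    rw [show Nat.card {x : Ω // x ≠ e} = Nat.card Ω - 1 by
      rw [Nat.card_eq_fintype_card, Nat.card_eq_fintype_card, Fintype.card_subtype_compl,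
        Fintype.card_subtype_eq], hn] at hle
    have hk2 := C.two_le_k
    obtain ⟨r, hr⟩ : ∃ r, Nat.card C.Δ = r + 2 := ⟨Nat.card C.Δ - 2, by omega⟩
    rw [hr, show r + 2 - 1 = r + 1 by omega] at hle
    have h3 : (r + 2) * (r + 2) - 1 < (r + 2 + 2) * (r + 1) := by
      have e2 : (r + 2 + 2) * (r + 1) = (r + 2) * (r + 2) + r := by ring
      have e3 : 0 < (r + 2) * (r + 2) := Nat.mul_pos (by omega) (by omega)
      rw [e2]
      exact lt_of_lt_of_le (Nat.sub_lt e3 one_pos) (Nat.le_add_right _ _)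
    exact absurd (lt_of_lt_of_le h3 hle) (lt_irrefl _)
  -- a product lies along the lines of each factor
  have hstep : ∀ i ∈ U, ∀ j ∈ U, i * j ≠ j * i → ∀ m : G, C.a ∈ C.line m →
      j • C.a ∈ C.line m →
      (i * j * i) * j = j * (i * j * i) ∧ (i * j * i * j) • C.a ∈ C.line m := by
    intro i hi j hj hij m ha hja
    have hdis : ∀ z ∈ C.line m, i • z ∉ C.line m := fun z hz hiz =>
      hij (hcomm i hi j hj C.a m ha (hinv i hi z m hz hiz _ ha) hja)
    obtain ⟨M, hM1, hM2, -, -⟩ := C.exists_line hA ((hU j hj).2 (i • C.a)).symm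
    have hMd : ∀ z ∈ C.line m, z ∉ C.line M := by
      intro z hz hzM
      have h := C.line_eq hA ((hU j hj).2 z).symm hz (hinv j hj _ m ha hja z hz) hzM
        (hinv j hj _ M hM1 hM2 z hzM)
      exact hdis _ ha (h ▸ hM1)
    have himd : ∀ z ∈ C.line m, z ∉ C.line (i * m) := fun z hz hz' => by
      refine hdis (i • z) ?_ ?_
      · rw [← hUii i hi z] at hz'
        exact (C.smul_mem_line_mul i m _).1 hz'
      · rw [hUii i hi]; exact hz
    have hlines := hpar m (i * m) M (i • C.a) (hdis _ ha) ((C.smul_mem_line_mul i m _).2 ha) hM1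
      himd hMd
    have hp : ∀ z ∈ C.line m, (i * j * i) • z ∈ C.line m := by
      intro z hz
      have h1 : j • i • z ∈ C.line M := hinv j hj _ M hM1 hM2 _
        (hlines ▸ (C.smul_mem_line_mul i m z).2 hz)
      rw [← hlines, ← hUii i hi (j • i • z)] at h1
      rw [mul_smul, mul_smul]
      exact (C.smul_mem_line_mul i m _).1 h1
    have hpU : i * j * i ∈ U := by
      have := hUconj j hj i
      rwa [inv_eq_of_mul_eq_one_right (hU i hi).1] at this
    refine ⟨hcomm _ hpU j hj C.a m ha (hp _ ha) hja, ?_⟩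
    rw [mul_smul]
    exact hp _ hja
  have hmulU : ∀ i ∈ U, ∀ j ∈ U, i * j = j * i → i ≠ j → i * j ∈ U := by
    intro i hi j hj hij hne
    have hd2 : i * j * (i * j) = 1 := by
      calc i * j * (i * j) = i * (j * i) * j := by group
        _ = i * i * (j * j) := by rw [← hij]; group
        _ = 1 := by rw [(hU i hi).1, (hU j hj).1, one_mul]
    have hfpf : ∀ c : Ω, (i * j) • c ≠ c := fun c e => hne (huniq i hi j hj c (by
      rw [mul_smul] at e
      calc i • c = i • i • j • c := by rw [e]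
        _ = j • c := hUii i hi _))
    obtain ⟨g, ga, gb⟩ := C.trans C.a ((i * j) • C.a) (hfpf C.a).symm
    have hS : g⁻¹ * (i * j) * g ∈ C.Swap := ⟨by
      rw [show g⁻¹ * (i * j) * g * (g⁻¹ * (i * j) * g) = g⁻¹ * (i * j * (i * j)) * g by group,
        hd2, mul_one, inv_mul_cancel], by rw [mul_smul, mul_smul, ga, inv_smul_eq_iff, gb]⟩
    obtain ⟨w, hw, he⟩ := (C.swap_iff_dir hua hu2 huH).1 hS
    by_cases hw1 : w = 1
    · rw [hw1, mul_one] at he
      exact isConj_iff.2 ⟨g, by rw [← he]; group⟩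
    · exfalso
      obtain ⟨h, hh⟩ := isConj_iff.1 (hutt.trans (C.isConj_dir hua hu2 huH hw hw1))
      rw [← he] at hh
      refine hfpf ((g * h) • C.a) ?_
      rw [show i * j = g * (h * C.t * h⁻¹) * g⁻¹ by rw [hh]; group]
      simp only [mul_smul, inv_smul_smul, show C.t • C.a = C.a from C.a_mem_Δ]
  have hall : ∀ i ∈ U, ∀ j ∈ U, i * j = j * i := by
    intro i hi j hj
    by_contra hij
    obtain ⟨m, ha, hja, -, -⟩ := C.exists_line hA ((hU j hj).2 C.a).symm
    obtain ⟨m', ha', hia, -, -⟩ := C.exists_line hA ((hU i hi).2 C.a).symm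
    obtain ⟨h1, h2⟩ := hstep i hi j hj hij m ha hja
    obtain ⟨-, h4⟩ := hstep j hj i hi (Ne.symm hij) m' ha' hia
    rw [show j * i * j * i = j * (i * j * i) by group, ← h1] at h4
    have hpU : i * j * i ∈ U := by
      have := hUconj j hj i
      rwa [inv_eq_of_mul_eq_one_right (hU i hi).1] at this
    have hne : i * j * i ≠ j := fun e => hij (by
      calc i * j = i * j * i * i := by rw [mul_assoc (i * j), (hU i hi).1, mul_one]
        _ = j * i := by rw [e])
    have hd := hmulU _ hpU j hj h1 hne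
    have e := C.line_eq hA ((hU _ hd).2 C.a).symm ha h2 ha' h4
    exact hij (hcomm i hi j hj C.a m ha (e ▸ hia) hja)
  let T : Subgroup G :=
    { carrier := {x | x = 1 ∨ x ∈ U}
      one_mem' := Or.inl rfl
      inv_mem' := fun {x} hx => by
        rcases hx with rfl | hx
        · exact Or.inl inv_one
        · rw [inv_eq_of_mul_eq_one_right (hU x hx).1]; exact Or.inr hx
      mul_mem' := fun {x y} hx hy => by
        rcases hx with rfl | hx
        · rw [one_mul]; exact hy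
        rcases hy with rfl | hy
        · rw [mul_one]; exact Or.inr hx
        by_cases e : x = y
        · rw [e]; exact Or.inl (hU y hy).1
        · exact Or.inr (hmulU x hx y hy (hall x hx y hy) e) }
  have hT : ∀ {x : G}, x ∈ T ↔ x = 1 ∨ x ∈ U := Iff.rfl
  have hfree : ∀ τ ∈ T, τ • C.a = C.a → τ = 1 := fun τ hτ e => by
    rcases hT.1 hτ with h | h
    · exact h
    · exact absurd e ((hU τ h).2 C.a)
  have hreg : ∀ c : Ω, ∃ τ ∈ T, τ • C.a = c := fun c => by
    by_cases h : c = C.a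
    · exact ⟨1, T.one_mem, by rw [one_smul, h]⟩
    · obtain ⟨g, ga, gb⟩ := C.trans C.a c (Ne.symm h)
      exact ⟨g * u * g⁻¹, hT.2 (Or.inr (hUconj u (IsConj.refl u) g)),
        by rw [mul_smul, mul_smul, show g⁻¹ • C.a = C.a by rw [inv_smul_eq_iff, ga], hua, gb]⟩
  refine ⟨T, ⟨fun x hx g => ?_⟩, fun x hx y hy => ?_, fun x hx => ?_, ?_, hreg, hfree⟩
  · rcases hT.1 hx with rfl | h
    · exact hT.2 (Or.inl (by group))
    · exact hT.2 (Or.inr (hUconj x h g))
  · rcases hT.1 hx with rfl | hx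
    · rw [one_mul, mul_one]
    rcases hT.1 hy with rfl | hy
    · rw [one_mul, mul_one]
    exact hall x hx y hy
  · rcases hT.1 hx with rfl | hx
    exacts [one_mul 1, (hU x hx).1]
  · refine Nat.card_eq_of_bijective (fun τ : T => (τ : G) • C.a) ⟨fun x y e => ?_, fun c => ?_⟩
    · refine Subtype.ext (inv_mul_eq_one.1 (hfree _ (T.mul_mem (T.inv_mem x.2) y.2) ?_))
      rw [mul_smul, inv_smul_eq_iff]
      exact e.symm
    · obtain ⟨τ, hτ, e⟩ := hreg c
      exact ⟨⟨τ, hτ⟩, e⟩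

end CfsgLib.TwoPointAltFour.Ctx
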