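import Cfsg.Agent.Lib.TwoPointAltFour.Common
import Cfsg.Agent.Lib.TwoPointAltFour.DirBPerm

/-!
The direct case in which `t` fixes points outside those of the four-group, an odd number of points
being fixed by the four-group: some involution is isolated.
-/

set_option autoImplicit false

open MulAction

namespace CfsgLib.TwoPointAltFour.Ctx

variable {G Ω : Type*} [Group G] [MulAction G Ω] (C : Ctx G Ω)

/-- The action of the centralizer of `t` on its fixed points. -/
def actΔ : Subgroup.centralizer ({C.t} : Set G) →* Equiv.Perm C.Δ where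
  toFun g :=
    { toFun := fun c => ⟨(g : G) • c.1,
        C.smul_mem_Δ (Subgroup.mem_centralizer_singleton_iff.1 g.2) c.2⟩
      invFun := fun c => ⟨(g : G)⁻¹ • c.1,
        C.smul_mem_Δ (Subgroup.mem_centralizer_singleton_iff.1 (g⁻¹).2) c.2⟩
      left_inv := fun c => Subtype.ext (inv_smul_smul _ _)
      right_inv := fun c => Subtype.ext (smul_inv_smul _ _) }
  map_one' := Equiv.ext fun c => Subtype.ext (one_smul G c.1)
  map_mul' g h := Equiv.ext fun c => Subtype.ext (mul_smul (g : G) (h : G) c.1)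

theorem actΔ_apply (g : Subgroup.centralizer ({C.t} : Set G)) (c : C.Δ) :
    ((C.actΔ g c : C.Δ) : Ω) = (g : G) • c.1 := rfl

theorem mem_centralizer_t {g : G} (hg : g ∈ C.V) : g ∈ Subgroup.centralizer ({C.t} : Set G) :=
  Subgroup.mem_centralizer_singleton_iff.2 (C.commute_of_mem_V hg C.t_mem_V).eq

/-- Outside case A an element fixing `a`, `b` and all points fixed by `t` is a power of `t`. -/
theorem mem_kernel (hB : ¬ C.CaseA) {g : G} (hgt : g * C.t = C.t * g)
    (hg : ∀ c ∈ C.Δ, g • c = c) : g = 1 ∨ g = C.t := by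
  obtain ⟨d, hd, hdF⟩ := Set.not_subset.1 hB
  have hgV : g ∈ C.V := C.mem_V_of_commute
    (C.mem_H_iff.2 ⟨hg _ (C.ι_smul_a _), hg _ (C.ι_smul_b _)⟩) hgt
  rcases C.mem_V_cases hgV with e | e | e | e
  · exact Or.inl e
  · exact Or.inr e
  · exact absurd ⟨hd, show C.v • d = d from e ▸ hg d hd⟩ hdF
  · refine absurd ⟨hd, show C.v • d = d from ?_⟩ hdF
    have h := hg d hd
    rw [e, C.commute_t_v.eq, mul_smul, show C.t • d = d from hd] at h
    exact h

variable [Finite G] [Finite Ω] [FaithfulSMul G Ω]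

/-- In the direct case B with an odd number of points fixed by `V`, an involution is isolated. -/
theorem dir_caseB_odd (hD : C.IsDir) (hB : ¬ C.CaseA) (hf : Odd (Nat.card C.F)) : Isolated G := by
  classical
  obtain ⟨u, hua, hu2, huH⟩ := id hD
  have hut : u * C.t = C.t * u := huH _ C.t_mem
  have huv : u * C.v = C.v * u := huH _ C.v_mem
  have hub : u • C.b = C.a := C.swap_smul_b ⟨hu2, hua⟩
  have huC : u ∈ Subgroup.centralizer ({C.t} : Set G) := Subgroup.mem_centralizer_singleton_iff.2 hut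
  let π := C.actΔ
  let X : Subgroup (Equiv.Perm C.Δ) := π.range
  let cl : Subgroup.centralizer ({C.t} : Set G) → X := fun g => ⟨π g, g, rfl⟩
  have hcl : ∀ (g : Subgroup.centralizer ({C.t} : Set G)) (c : C.Δ),
      ((cl g • c : C.Δ) : Ω) = (g : G) • c.1 := fun g c => rfl
  let vc : Subgroup.centralizer ({C.t} : Set G) := ⟨C.v, C.mem_centralizer_t C.v_mem_V⟩
  let uc : Subgroup.centralizer ({C.t} : Set G) := ⟨u, huC⟩
  have hclmul : ∀ g h, cl (g * h) = cl g * cl h := fun g h => Subtype.ext (map_mul π g h)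
  have hcl1 : cl 1 = 1 := Subtype.ext (map_one π)
  have hker : ∀ g, cl g = 1 → (g : G) = 1 ∨ (g : G) = C.t := fun g e =>
    C.mem_kernel hB (Subgroup.mem_centralizer_singleton_iff.1 g.2) fun c hc => by
      rw [← hcl g ⟨c, hc⟩, e, one_smul]
  let P : PairTwo X C.Δ :=
    { a := ⟨C.a, C.ι_smul_a _⟩
      b := ⟨C.b, C.ι_smul_b _⟩
      j := cl vc
      u := cl uc
      hab := fun e => C.hab (congrArg Subtype.val e)
      trans := fun c d hcd => by
        obtain ⟨g, h0, ga, gb⟩ := C.witt c.2 d.2 fun e => hcd (Subtype.ext e)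
        exact ⟨cl ⟨g, Subgroup.mem_centralizer_singleton_iff.2 h0⟩, Subtype.ext ga, Subtype.ext gb⟩
      j_sq := by
        rw [← hclmul, ← hcl1]
        exact congrArg cl (Subtype.ext C.v_sq)
      j_ne := fun e => by
        rcases hker _ e with h | h
        exacts [C.v_ne h, C.t_ne_v h.symm]
      ja := Subtype.ext (C.mem_H_iff.1 C.v_mem).1
      jb := Subtype.ext (C.mem_H_iff.1 C.v_mem).2
      stab := fun g hga hgb => by
        obtain ⟨_, g, rfl⟩ := g
        have hgV : (g : G) ∈ C.V := C.mem_V_of_commute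
          (C.mem_H_iff.2 ⟨congrArg Subtype.val hga, congrArg Subtype.val hgb⟩)
          (Subgroup.mem_centralizer_singleton_iff.1 g.2)
        have htriv : ∀ h : Subgroup.centralizer ({C.t} : Set G), (h : G) = C.t → cl h = 1 :=
          fun h e => Subtype.ext (Equiv.ext fun c => Subtype.ext (by
            show (h : G) • c.1 = c.1
            rw [e]; exact c.2))
        rcases C.mem_V_cases hgV with e | e | e | e
        · exact Or.inl ((congrArg cl (Subtype.ext e : g = 1)).trans hcl1)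
        · exact Or.inl (htriv g e)
        · exact Or.inr (congrArg cl (Subtype.ext e : g = vc))
        · refine Or.inr ?_
          have ht' := htriv ⟨C.t, C.mem_centralizer_t C.t_mem_V⟩ rfl
          show cl g = cl vc
          rw [show g = ⟨C.t, C.mem_centralizer_t C.t_mem_V⟩ * vc from Subtype.ext e, hclmul, ht',
            one_mul]
      u_sq := by
        rw [← hclmul, ← hcl1]
        exact congrArg cl (Subtype.ext hu2)
      ua := Subtype.ext hua
      uj := by
        show cl uc * cl vc = cl vc * cl uc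
        rw [← hclmul, ← hclmul]
        exact congrArg cl (Subtype.ext huv) }
  have hPF : ∀ c : C.Δ, c ∈ P.F ↔ c.1 ∈ C.F := fun c =>
    ⟨fun h => ⟨c.2, congrArg Subtype.val h⟩, fun h => Subtype.ext h.2⟩
  have hPf : Odd (Nat.card P.F) := by
    rwa [Nat.card_congr (β := C.F)
      { toFun := fun c => ⟨c.1.1, (hPF c.1).1 c.2⟩
        invFun := fun c => ⟨⟨c.1, c.2.1⟩, (hPF ⟨c.1, c.2.1⟩).2 c.2⟩
        left_inv := fun c => rfl
        right_inv := fun c => rfl }]
  obtain ⟨hor, hnand⟩ := P.conj_dichotomy hPf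
  obtain ⟨c, hc, huc, -⟩ := P.exists_center hPf
  have hcF : c.1 ∈ C.F := (hPF c).1 hc
  have hucG : u • c.1 = c.1 := congrArg Subtype.val huc
  -- an element conjugate to `j` on `Δ` fixes two points
  have htwo : ∀ g : Subgroup.centralizer ({C.t} : Set G), IsConj P.j (cl g) →
      ∃ d e : Ω, d ∈ C.Δ ∧ e ∈ C.Δ ∧ d ≠ e ∧ (g : G) • d = d ∧ (g : G) • e = e := by
    intro g h
    obtain ⟨h', hh⟩ := isConj_iff.1 h
    refine ⟨(h' • P.a).1, (h' • P.b).1, (h' • P.a).2, (h' • P.b).2, fun e => P.hab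
      ((MulAction.injective h') (Subtype.ext e)), ?_, ?_⟩
    · rw [← hcl, ← hh, mul_smul, mul_smul, inv_smul_smul, P.ja]
    · rw [← hcl, ← hh, mul_smul, mul_smul, inv_smul_smul, P.jb]
  have hu1 : u ≠ 1 := C.swap_ne_one ⟨hu2, hua⟩
  have hn : Odd (Nat.card Ω) := by
    rw [Nat.odd_iff, C.parity_k, C.parity_f]
    exact Nat.odd_iff.1 hf
  rcases C.N_dir hua hu2 huH with ⟨-, hut', -⟩ | ⟨-, -, h3⟩ | ⟨hu_t, hut_t, -⟩
  · exfalso
    rcases hor with h | h
    · obtain ⟨d, e, hd, he, hde, hdd, hee⟩ := htwo uc h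
      refine hut' (C.isConj_of_fix ?_ ?_ hde ?_ ?_)
      · rw [mul_assoc, ← mul_assoc C.t, ← hut, mul_assoc u C.t C.t, C.t_sq, mul_one, hu2]
      · exact fun h => C.hab (Eq.symm (by
          calc C.b = (u * C.t) • C.a := by rw [mul_smul, (C.mem_H_iff.1 C.t_mem).1, hua]
            _ = C.a := by rw [h, one_smul]))
      · rw [mul_smul, show C.t • d = d from hd, hdd]
      · rw [mul_smul, show C.t • e = e from he, hee]
    · rw [← hclmul] at h
      obtain ⟨d, e, hd, he, hde, hdd, hee⟩ := htwo (uc * vc) h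
      refine hut' ((C.isConj_of_fix (i := u * C.v) ?_ ?_ hde hdd hee).trans
        (C.isConj_dir hua hu2 huH C.v_mem_V C.v_ne).symm)
      · rw [mul_assoc, ← mul_assoc C.v, ← huv, mul_assoc u C.v C.v, C.v_sq, mul_one, hu2]
      · exact fun h => C.hab (Eq.symm (by
          calc C.b = (u * C.v) • C.a := by rw [mul_smul, (C.mem_H_iff.1 C.v_mem).1, hua]
            _ = C.a := by rw [h, one_smul]))
  · exact C.isolated_of_three hD h3 hn
  exfalso
  -- the points fixed by `V` and `u`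
  have hfixc : ∀ w ∈ C.V, w • c.1 = c.1 := fun w hw => C.smul_of_mem_F hw hcF
  have huV : ∀ w ∈ C.V, Commute u w := fun w hw => huH w (C.V_le hw)
  have hxc : C.x • c.1 = c.1 := by
    have h1 : C.x • c.1 ∈ C.F := C.smul_mem_F (C.H_le_normalizer C.x_mem) hcF
    have h2 : u • C.x • c.1 = C.x • c.1 := by rw [← mul_smul, huH _ C.x_mem, mul_smul, hucG]
    exact congrArg Subtype.val ((P.exists_center hPf).choose_spec.2.2 ⟨C.x • c.1, h1.1⟩
      ((hPF ⟨C.x • c.1, h1.1⟩).2 h1) (Subtype.ext h2) |>.trans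
      ((P.exists_center hPf).choose_spec.2.2 c hc huc).symm)
  -- uniqueness around the conjugates of `t`
  have huniq : ∀ i : G, IsConj C.t i → ∀ r r' : G, r * r = 1 → r' * r' = 1 → Commute r i →
      Commute r' i → (∀ d, i • d = d ∧ r • d = d ↔ d = c.1) →
      (∀ d, i • d = d ∧ r' • d = d ↔ d = c.1) → r' = r ∨ r' = r * i := by
    intro i hi r r' hr hr' hri hri' hF hF'
    obtain ⟨g, rfl⟩ := isConj_iff.1 hi
    have hmem : ∀ s : G, Commute s (g * C.t * g⁻¹) →
        g⁻¹ * s * g ∈ Subgroup.centralizer ({C.t} : Set G) := fun s hs =>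
      Subgroup.mem_centralizer_singleton_iff.2 (by
        calc g⁻¹ * s * g * C.t = g⁻¹ * (s * (g * C.t * g⁻¹)) * g := by group
          _ = g⁻¹ * ((g * C.t * g⁻¹) * s) * g := by rw [hs.eq]
          _ = C.t * (g⁻¹ * s * g) := by group)
    have hcΔ : g⁻¹ • c.1 ∈ C.Δ := by
      show C.t • g⁻¹ • c.1 = g⁻¹ • c.1
      have h := ((hF c.1).2 rfl).1
      rw [mul_smul, mul_smul] at h
      exact eq_inv_smul_iff.2 h
    have hone : ∀ (s : G) (hs : Commute s (g * C.t * g⁻¹)),
        (∀ d, (g * C.t * g⁻¹) • d = d ∧ s • d = d ↔ d = c.1) → s * s = 1 →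
        cl ⟨_, hmem s hs⟩ * cl ⟨_, hmem s hs⟩ = 1 ∧ cl ⟨_, hmem s hs⟩ ≠ 1 ∧
        ∀ d : C.Δ, cl ⟨_, hmem s hs⟩ • d = d ↔ d = ⟨g⁻¹ • c.1, hcΔ⟩ := by
      intro s hs hFs hs2
      have hfix : ∀ d : C.Δ, cl ⟨_, hmem s hs⟩ • d = d ↔ d = ⟨g⁻¹ • c.1, hcΔ⟩ := by
        intro d
        rw [Subtype.ext_iff, Subtype.ext_iff, hcl]
        show (g⁻¹ * s * g) • d.1 = d.1 ↔ d.1 = g⁻¹ • c.1
        rw [mul_smul, mul_smul, inv_smul_eq_iff, eq_inv_smul_iff]
        have hd : (g * C.t * g⁻¹) • g • d.1 = g • d.1 := by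
          rw [mul_smul, mul_smul, inv_smul_smul, show C.t • d.1 = d.1 from d.2]
        exact ⟨fun h => (hFs _).1 ⟨hd, h⟩, fun h => ((hFs _).2 h).2⟩
      refine ⟨?_, fun e => ?_, hfix⟩
      · rw [← hclmul, ← hcl1]
        refine congrArg cl (Subtype.ext ?_)
        show g⁻¹ * s * g * (g⁻¹ * s * g) = 1
        rw [show g⁻¹ * s * g * (g⁻¹ * s * g) = g⁻¹ * (s * s) * g by group, hs2]; group
      · have ha := (hfix P.a).1 (by rw [e, one_smul])
        have hb := (hfix P.b).1 (by rw [e, one_smul])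
        exact P.hab (ha.trans hb.symm)
    obtain ⟨a1, a2, a3⟩ := hone r hri hF hr
    obtain ⟨b1, b2, b3⟩ := hone r' hri' hF' hr'
    have heq := P.single_unique hPf a1 a2 b1 b2 a3 b3
    have h4 : cl (⟨_, hmem r hri⟩ * ⟨_, hmem r' hri'⟩) = 1 := by rw [hclmul, ← heq, a1]
    rcases hker _ h4 with h | h
    · left
      have h5 : g⁻¹ * r * g * (g⁻¹ * r' * g) = 1 := h
      calc r' = r * g * (g⁻¹ * r * g * (g⁻¹ * r' * g)) * g⁻¹ := by
            rw [show r * g * (g⁻¹ * r * g * (g⁻¹ * r' * g)) * g⁻¹ = (r * r) * r' by group, hr, one_mul]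
        _ = r := by rw [h5]; group
    · right
      have h5 : g⁻¹ * r * g * (g⁻¹ * r' * g) = C.t := h
      calc r' = r * g * (g⁻¹ * r * g * (g⁻¹ * r' * g)) * g⁻¹ := by
            rw [show r * g * (g⁻¹ * r * g * (g⁻¹ * r' * g)) * g⁻¹ = (r * r) * r' by group, hr, one_mul]
        _ = r * (g * C.t * g⁻¹) := by rw [h5]; group
  -- the element of the coset with the single fixed point
  have hRt : ∀ w ∈ C.V, (¬ ∃ h : w ∈ Subgroup.centralizer ({C.t} : Set G),
      IsConj P.j (cl (uc * ⟨w, h⟩))) → (u * w) • C.a = C.b →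
      ∀ d, C.t • d = d ∧ (u * w) • d = d ↔ d = c.1 := by
    intro w hw hnc hab d
    refine ⟨fun ⟨h1, h2⟩ => ?_, fun h => ?_⟩
    · by_contra hne
      refine hnc ⟨C.mem_centralizer_t hw, P.isConj_of_fix (fun e => ?_) (c := ⟨d, h1⟩) (d := c)
        (fun e => hne (congrArg Subtype.val e)) (Subtype.ext h2) (Subtype.ext ?_)⟩
      · refine C.hab ?_
        have h3 : ((cl (uc * ⟨w, C.mem_centralizer_t hw⟩)) • P.a : C.Δ).1 = C.b := hab
        rw [e, one_smul] at h3
        exact h3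
      · show (u * w) • c.1 = c.1
        rw [mul_smul, hfixc w hw, hucG]
    · rw [h]
      exact ⟨hfixc _ C.t_mem_V, by rw [mul_smul, hfixc w hw, hucG]⟩
  -- conjugation by powers of `x`
  have hconjP : ∀ y : G, y • c.1 = c.1 → ∀ i r : G, (∀ d, i • d = d ∧ r • d = d ↔ d = c.1) →
      ∀ d, (y * i * y⁻¹) • d = d ∧ (y * r * y⁻¹) • d = d ↔ d = c.1 := by
    intro y hy i r h d
    rw [mul_smul, mul_smul, mul_smul, mul_smul, smul_eq_iff_eq_inv_smul, smul_eq_iff_eq_inv_smul y,
      h (y⁻¹ • d), inv_smul_eq_iff, hy]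
  have hsymm : ∀ i r : G, (∀ d, i • d = d ∧ r • d = d ↔ d = c.1) →
      ∀ d, r • d = d ∧ i • d = d ↔ d = c.1 := fun i r h d => by rw [and_comm]; exact h d
  have huy : ∀ y ∈ C.H, y * u * y⁻¹ = u := fun y hy => by
    rw [← huH y hy, mul_inv_cancel_right]
  have hxt : C.x * C.t * C.x⁻¹ ≠ C.t := fun e => by
    have hxV : C.x ∈ C.V := C.mem_V_of_commute C.x_mem (mul_inv_eq_iff_eq_mul.1 e)
    have h := C.x_cube
    rw [hxV.2, one_mul] at h
    exact facts.2.2.2.2.2.2.2.2.2.1 (C.ι_injective (h.trans (map_one _).symm))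
  have huVmem : u ∉ C.V := fun h => C.hab (by rw [← hua, (C.mem_H_iff.1 h.1).1])
  rcases hor with h | h
  · -- `u v` has the single fixed point
    have hnc : ¬ IsConj P.j (P.u * P.j) := fun h' => hnand ⟨h, h'⟩
    have hP1 := hRt C.v C.v_mem_V (fun ⟨hh, h'⟩ => hnc (by
        rw [show P.u * P.j = cl (uc * ⟨C.v, hh⟩) from (hclmul uc vc).symm]; exact h'))
      (by rw [mul_smul, (C.mem_H_iff.1 C.v_mem).1, hua])
    have hP2 : ∀ d, C.t • d = d ∧ (u * (C.t * C.v)) • d = d ↔ d = c.1 := fun d => by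
      rw [← hP1 d]
      refine and_congr_right fun hd => ?_
      rw [C.commute_t_v.eq, mul_smul, mul_smul, show C.t • d = d from hd, ← mul_smul]
    obtain ⟨y, hy, hyt⟩ := C.isConj_t_of_mem (C.H.mul_mem C.t_mem C.v_mem)
      (C.V.mul_mem C.t_mem_V C.v_mem_V).2
      (fun e => C.t_ne_v ((eq_inv_of_mul_eq_one_left e).trans (inv_eq_of_mul_eq_one_right C.v_sq)))
    have hyV : y⁻¹ * C.v * y ∈ C.V := by simpa using C.conj_mem_V (C.H.inv_mem hy) C.v_mem_V
    have hyc : y • c.1 = c.1 := by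
      have h1 : y • c.1 ∈ C.F := C.smul_mem_F (C.H_le_normalizer hy) hcF
      have h2 : u • y • c.1 = y • c.1 := by rw [← mul_smul, huH _ hy, mul_smul, hucG]
      exact congrArg Subtype.val ((P.exists_center hPf).choose_spec.2.2 ⟨y • c.1, h1.1⟩
        ((hPF ⟨y • c.1, h1.1⟩).2 h1) (Subtype.ext h2) |>.trans
        ((P.exists_center hPf).choose_spec.2.2 c hc huc).symm)
    have hP3 : ∀ d, (C.t * C.v) • d = d ∧ (u * C.v) • d = d ↔ d = c.1 := by
      have key : ∀ w, (∀ d, C.t • d = d ∧ (u * w) • d = d ↔ d = c.1) → y * w * y⁻¹ = C.v →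
          ∀ d, (C.t * C.v) • d = d ∧ (u * C.v) • d = d ↔ d = c.1 := by
        intro w hw e
        have h1 := hconjP y hyc _ _ hw
        rwa [hyt, show y * (u * w) * y⁻¹ = (y * u * y⁻¹) * (y * w * y⁻¹) by group, huy y hy, e] at h1
      rcases C.mem_V_cases hyV with e | e | e | e
      · exact absurd (by rw [show C.v = y * (y⁻¹ * C.v * y) * y⁻¹ by group, e]; group) C.v_ne
      · refine absurd ?_ C.t_ne
        have h1 : C.v = C.t * C.v := by
          calc C.v = y * (y⁻¹ * C.v * y) * y⁻¹ := by group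
            _ = C.t * C.v := by rw [e, hyt]
        exact (mul_eq_right.1 h1.symm)
      · exact key C.v hP1 (by
          calc y * C.v * y⁻¹ = y * (y⁻¹ * C.v * y) * y⁻¹ := by rw [e]
            _ = C.v := by group)
      · exact key (C.t * C.v) hP2 (by
          calc y * (C.t * C.v) * y⁻¹ = y * (y⁻¹ * C.v * y) * y⁻¹ := by rw [e]
            _ = C.v := by group)
    have htv2 : (C.t * C.v) * (C.t * C.v) = 1 := (C.V.mul_mem C.t_mem_V C.v_mem_V).2
    have huvt : IsConj C.t (u * C.v) := hut_t.trans (C.isConj_dir hua hu2 huH C.v_mem_V C.v_ne)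
    rcases huniq (u * C.v) huvt C.t (C.t * C.v) C.t_sq htv2
        ((show Commute C.t u from hut.symm).mul_right C.commute_t_v)
        ((huV _ (C.V.mul_mem C.t_mem_V C.v_mem_V)).symm.mul_right
          (C.commute_of_mem_V (C.V.mul_mem C.t_mem_V C.v_mem_V) C.v_mem_V))
        (hsymm _ _ hP1) (hsymm _ _ hP3) with e | e
    · exact C.v_ne (mul_eq_left.1 e)
    · have e' := mul_left_cancel e
      exact hu1 (mul_eq_right.1 e'.symm)
  · -- `u` has the single fixed point
    have hnc : ¬ IsConj P.j P.u := fun h' => hnand ⟨h', h⟩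
    have hP1 := hRt 1 C.V.one_mem (fun ⟨hh, h'⟩ => hnc (by
        rw [show P.u = cl (uc * ⟨1, hh⟩) from congrArg cl (Subtype.ext (mul_one u).symm)]; exact h'))
      (by rw [mul_one, hua])
    rw [mul_one] at hP1
    have hP2 := hconjP C.x hxc _ _ hP1
    rw [huy _ C.x_mem] at hP2
    have hw : C.x * C.t * C.x⁻¹ ∈ C.V := C.conj_mem_V C.x_mem C.t_mem_V
    rcases huniq u hu_t C.t (C.x * C.t * C.x⁻¹) C.t_sq hw.2 hut.symm
        (huV _ hw).symm (hsymm _ _ hP1) (hsymm _ _ hP2) with e | e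
    · exact hxt e
    · refine huVmem ?_
      have : u = C.t * (C.x * C.t * C.x⁻¹) := by rw [e, ← mul_assoc, C.t_sq, one_mul]
      rw [this]
      exact C.V.mul_mem C.t_mem_V hw

end CfsgLib.TwoPointAltFour.Ctx
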