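import Mathlib.GroupTheory.GroupAction.MultipleTransitivity
import Mathlib.Algebra.Group.Pointwise.Set.Basic
import Mathlib.Data.Set.Card
import Mathlib.Data.Fintype.Card

/-!
An affine plane of even order with a two-point transitive group in which every line is the set of
fixed points of an involution: the translations form a regular elementary abelian normal subgroup.

The point: two shears with parallel axes carrying some other line to parallel lines differ by a
translation, and there are more axes in a parallel class than classes available.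
-/

set_option autoImplicit false
set_option linter.unusedSectionVars false
set_option linter.style.haveILetI false

namespace CfsgLib.TwoPointAltFour

open scoped Pointwise

/-- An affine plane of even order `k` on which `G` acts, each line being the fixed point set of an
involution of `G`. -/
structure IsShearPlane (G : Type*) {Ω : Type*} [Group G] [MulAction G Ω] (𝓛 : Set (Set Ω)) (k : ℕ) : Prop where
  card_line : ∀ L ∈ 𝓛, L.ncard = k
  exists_unique : ∀ x y : Ω, x ≠ y → ∃! L, L ∈ 𝓛 ∧ x ∈ L ∧ y ∈ L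
  smul_mem : ∀ g : G, ∀ L ∈ 𝓛, g • L ∈ 𝓛
  shear : ∀ L ∈ 𝓛, ∃ t : G, t * t = 1 ∧ ∀ x : Ω, t • x = x ↔ x ∈ L
  card : Nat.card Ω = k * k
  even : Even k
  two_le : 2 ≤ k

/-- Parallel lines. -/
def Par {Ω : Type*} (L M : Set Ω) : Prop := L = M ∨ Disjoint L M

theorem Par.symm {Ω : Type*} {L M : Set Ω} (hp : Par L M) : Par M L :=
  hp.imp Eq.symm fun hd => Disjoint.symm hd

theorem Par.eq_of_mem {Ω : Type*} {L M : Set Ω} (hp : Par L M) {x : Ω}
    (hL : x ∈ L) (hM : x ∈ M) : L = M :=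
  hp.resolve_right fun hd => Set.disjoint_left.1 hd hL hM

theorem Par.smul {G Ω : Type*} [Group G] [MulAction G Ω] (g : G) {L M : Set Ω}
    (hp : Par L M) : Par (g • L) (g • M) := by
  rcases hp with rfl | hd
  · exact Or.inl rfl
  · refine Or.inr (Set.disjoint_left.2 fun x hx hx' => ?_)
    rw [Set.mem_smul_set_iff_inv_smul_mem] at hx hx'
    exact Set.disjoint_left.1 hd hx hx'

/-- A translation: a fixed-point-free involution carrying each line to a parallel one. -/
structure IsTranslation {G Ω : Type*} [Group G] [MulAction G Ω] (𝓛 : Set (Set Ω)) (g : G) : Prop where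
  sq : g * g = 1
  fpf : ∀ x : Ω, g • x ≠ x
  par : ∀ P ∈ 𝓛, Par P (g • P)

namespace IsShearPlane

variable {G Ω : Type*} [Group G] [MulAction G Ω] [Finite Ω] {𝓛 : Set (Set Ω)} {k : ℕ}
  (h : IsShearPlane G 𝓛 k)
include h

theorem eq_of_mem {L M : Set Ω} (hL : L ∈ 𝓛) (hM : M ∈ 𝓛) {x y : Ω} (hxy : x ≠ y)
    (hxL : x ∈ L) (hyL : y ∈ L) (hxM : x ∈ M) (hyM : y ∈ M) : L = M :=
  (h.exists_unique x y hxy).unique ⟨hL, hxL, hyL⟩ ⟨hM, hxM, hyM⟩

theorem exists_line {x y : Ω} (hxy : x ≠ y) : ∃ L ∈ 𝓛, x ∈ L ∧ y ∈ L := by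
  obtain ⟨L, hL, -⟩ := h.exists_unique x y hxy
  exact ⟨L, hL.1, hL.2⟩

theorem line_nonempty {L : Set Ω} (hL : L ∈ 𝓛) : L.Nonempty :=
  Set.nonempty_of_ncard_ne_zero (by rw [h.card_line L hL]; have := h.two_le; omega)

theorem exists_other {L : Set Ω} (hL : L ∈ 𝓛) (x : Ω) : ∃ y ∈ L, y ≠ x :=
  Set.exists_ne_of_one_lt_ncard (by rw [h.card_line L hL]; exact h.two_le) x

theorem eq_of_subsingleton {L M : Set Ω} (hL : L ∈ 𝓛) (hM : M ∈ 𝓛) (hne : L ≠ M) {x y : Ω}
    (hxL : x ∈ L) (hxM : x ∈ M) (hyL : y ∈ L) (hyM : y ∈ M) : x = y := by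
  by_contra hxy
  exact hne (h.eq_of_mem hL hM hxy hxL hyL hxM hyM)

/-- There are `k + 1` lines on a point. -/
theorem ncard_lines_through (x : Ω) : {L ∈ 𝓛 | x ∈ L}.ncard = k + 1 := by
  classical
  haveI := Fintype.ofFinite Ω
  haveI := Fintype.ofFinite (Set Ω)
  set S : Finset (Set Ω) := {L ∈ 𝓛 | x ∈ L}.toFinset
  have hS : ∀ L, L ∈ S ↔ L ∈ 𝓛 ∧ x ∈ L := fun L => by simp [S]
  rw [Set.ncard_eq_toFinset_card']
  have hcard : Fintype.card Ω = k * k := by rw [← Nat.card_eq_fintype_card, h.card]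
  let f : Ω → Set Ω := fun y => if hy : y = x then ∅ else (h.exists_line (Ne.symm hy)).choose
  have hf : ∀ y, y ≠ x → f y ∈ 𝓛 ∧ x ∈ f y ∧ y ∈ f y := fun y hy => by
    simp only [f, dif_neg hy]
    exact (h.exists_line (Ne.symm hy)).choose_spec
  have key := Finset.card_eq_sum_card_fiberwise (s := (Finset.univ : Finset Ω).erase x) (t := S)
    (f := f) fun y hy => by
      simp only [Finset.coe_erase, Set.mem_sdiff, Set.mem_singleton_iff] at hy
      obtain ⟨h1, h2, -⟩ := hf y hy.2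
      exact (hS _).2 ⟨h1, h2⟩
  have hfib : ∀ L ∈ S, (((Finset.univ : Finset Ω).erase x).filter fun y => f y = L).card = k - 1 := by
    intro L hL
    obtain ⟨hL, hxL⟩ := (hS L).1 hL
    have e : (((Finset.univ : Finset Ω).erase x).filter fun y => f y = L) = L.toFinset.erase x := by
      ext y
      simp only [Finset.mem_filter, Finset.mem_erase, Finset.mem_univ, and_true, Set.mem_toFinset]
      constructor
      · rintro ⟨hy, rfl⟩
        exact ⟨hy, (hf y hy).2.2⟩
      · rintro ⟨hy, hyL⟩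
        exact ⟨hy, h.eq_of_mem (hf y hy).1 hL (Ne.symm hy) (hf y hy).2.1 (hf y hy).2.2 hxL hyL⟩
    rw [e, Finset.card_erase_of_mem (Set.mem_toFinset.2 hxL), ← Set.ncard_eq_toFinset_card',
      h.card_line L hL]
  rw [Finset.sum_congr rfl hfib, Finset.sum_const, smul_eq_mul,
    Finset.card_erase_of_mem (Finset.mem_univ x), Finset.card_univ, hcard] at key
  have h2 := h.two_le
  obtain ⟨j, rfl⟩ : ∃ j, k = j + 2 := ⟨k - 2, by omega⟩
  have hk : (j + 2) * (j + 2) - 1 = (j + 2 + 1) * (j + 1) := by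
    have : (j + 2) * (j + 2) = (j + 2 + 1) * (j + 1) + 1 := by ring
    omega
  rw [hk, show j + 2 - 1 = j + 1 by omega] at key
  exact Nat.eq_of_mul_eq_mul_right (Nat.succ_pos j) key.symm

/-- Playfair's axiom, by counting. -/
theorem existsUnique_par {L : Set Ω} (hL : L ∈ 𝓛) (x : Ω) : ∃! M, M ∈ 𝓛 ∧ x ∈ M ∧ Par L M := by
  classical
  by_cases hx : x ∈ L
  · refine ⟨L, ⟨hL, hx, Or.inl rfl⟩, ?_⟩
    rintro M ⟨-, hxM, h1 | h1⟩
    · exact h1.symm
    · exact absurd hxM (Set.disjoint_left.1 h1 hx)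
  set A := {M ∈ 𝓛 | x ∈ M} with hA
  let f : L → Set Ω := fun y => (h.exists_line (x := x) (y := y) fun e => hx (e ▸ y.2)).choose
  have hf : ∀ y : L, f y ∈ 𝓛 ∧ x ∈ f y ∧ (y : Ω) ∈ f y := fun y =>
    (h.exists_line (x := x) (y := y) fun e => hx (e ▸ y.2)).choose_spec
  have hfi : Function.Injective f := fun y z e => Subtype.ext
    (h.eq_of_subsingleton (hf y).1 hL (fun e' => hx (e' ▸ (hf y).2.1)) (hf y).2.2 y.2
      (e ▸ (hf z).2.2) z.2)
  have hsub : Set.range f ⊆ A := by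
    rintro _ ⟨y, rfl⟩
    exact ⟨(hf y).1, (hf y).2.1⟩
  have hr : (Set.range f).ncard = k := by
    rw [Set.ncard_range_of_injective hfi, Nat.card_coe_set_eq, h.card_line L hL]
  have h1 : (A \ Set.range f).ncard = 1 := by
    rw [Set.ncard_sdiff hsub, h.ncard_lines_through x, hr]
    omega
  obtain ⟨M, hM⟩ := Set.ncard_eq_one.1 h1
  have hiff : ∀ N, N ∈ A \ Set.range f ↔ N = M := fun N => by rw [hM]; exact Iff.rfl
  have hchar : ∀ N, N ∈ A → (Par L N ↔ N ∉ Set.range f) := by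
    rintro N ⟨hN, hxN⟩
    constructor
    · rintro hd ⟨y, hy⟩
      subst hy
      rcases hd with e | hd
      · exact hx (e.symm ▸ hxN)
      · exact Set.disjoint_left.1 hd y.2 (hf y).2.2
    · intro hnr
      refine Or.inr (Set.disjoint_left.2 fun y hyL hyN => hnr ⟨⟨y, hyL⟩, ?_⟩)
      exact h.eq_of_mem (x := x) (y := y) (hf ⟨y, hyL⟩).1 hN (fun e => hx (e ▸ hyL)) (hf ⟨y, hyL⟩).2.1 (hf ⟨y, hyL⟩).2.2 hxN hyN
  obtain ⟨hMA, hMf⟩ := (hiff M).2 rfl
  exact ⟨M, ⟨hMA.1, hMA.2, (hchar M hMA).2 hMf⟩,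
    fun N hN => (hiff N).1 ⟨⟨hN.1, hN.2.1⟩, (hchar N ⟨hN.1, hN.2.1⟩).1 hN.2.2⟩⟩

theorem exists_par {L : Set Ω} (hL : L ∈ 𝓛) (x : Ω) : ∃ M ∈ 𝓛, x ∈ M ∧ Par L M :=
  (h.existsUnique_par hL x).exists.imp fun _ hM => hM

theorem par_trans {L M N : Set Ω} (hL : L ∈ 𝓛) (hM : M ∈ 𝓛) (hN : N ∈ 𝓛) (h1 : Par L M)
    (h2 : Par M N) : Par L N := by
  rcases (L ∩ N).eq_empty_or_nonempty with h0 | ⟨x, hxL, hxN⟩
  · exact Or.inr (Set.disjoint_iff_inter_eq_empty.2 h0)
  · exact Or.inl ((h.existsUnique_par hM x).unique ⟨hL, hxL, h1.symm⟩ ⟨hN, hxN, h2⟩)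

/-- Two lines that are not parallel meet. -/
theorem exists_meet {L M : Set Ω} (hp : ¬ Par L M) : ∃ x, x ∈ L ∧ x ∈ M :=
  Set.not_disjoint_iff.1 fun hd => hp (Or.inr hd)

/-- The lines parallel to the axis of a shear are invariant. -/
theorem smul_par_axis {L M : Set Ω} (hL : L ∈ 𝓛) (hM : M ∈ 𝓛) (hp : Par L M) {t : G} (ht : t * t = 1)
    (hfix : ∀ x : Ω, t • x = x ↔ x ∈ L) : t • M = M := by
  have key : ∀ x, x ∉ L → ∀ N ∈ 𝓛, x ∈ N → t • x ∈ N → Par L N := by
    intro x hx N hN hxN htxN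
    refine Or.inr (Set.disjoint_left.2 fun q hqL hqN => ?_)
    have hne : t • x ≠ x := fun e => hx ((hfix x).1 e)
    have htt : t • t • x = x := by rw [← mul_smul, ht, one_smul]
    have htN : t • N = N := h.eq_of_mem (h.smul_mem t N hN) hN hne
      (Set.smul_mem_smul_set hxN) (htt ▸ Set.smul_mem_smul_set htxN : x ∈ t • N) htxN hxN
    classical
    haveI := Fintype.ofFinite Ω
    -- `t` pairs off the points of `N` other than `q`
    have hq1 : ∀ y ∈ N, y ∈ L → y = q := fun y hy hyL =>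
      h.eq_of_subsingleton hN hL (fun e => hx (e ▸ hxN)) hy hyL hqN hqL
    have heven : Even ((N.toFinset.erase q).card) := by
      rw [even_iff_two_dvd]
      have := Finset.sum_involution (s := N.toFinset.erase q) (f := fun _ => (1 : ZMod 2))
        (fun y _ => t • y) (fun _ _ => rfl) (fun y hy _ e => ?_) (fun y hy => ?_)
        (fun y _ => by rw [← mul_smul, ht, one_smul])
      · rw [Finset.sum_const, nsmul_one] at this
        exact (ZMod.natCast_eq_zero_iff _ 2).1 this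
      · simp only [Finset.mem_erase, Set.mem_toFinset] at hy
        exact hy.1 (hq1 y hy.2 ((hfix y).1 e))
      · simp only [Finset.mem_erase, Set.mem_toFinset] at hy ⊢
        refine ⟨fun e => hy.1 ?_, htN ▸ Set.smul_mem_smul_set hy.2⟩
        rw [← (hfix q).2 hqL] at e
        exact smul_left_cancel _ e
    rw [Finset.card_erase_of_mem (Set.mem_toFinset.2 hqN), ← Set.ncard_eq_toFinset_card',
      h.card_line N hN] at heven
    obtain ⟨a, ha⟩ := h.even
    obtain ⟨b, hb⟩ := heven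
    have := h.two_le
    omega
  rcases hp with rfl | hd
  · ext x
    rw [Set.mem_smul_set_iff_inv_smul_mem, inv_eq_of_mul_eq_one_right ht]
    constructor
    · intro hx
      have := (hfix _).2 hx
      rw [← mul_smul, ht, one_smul] at this
      rwa [← this] at hx
    · intro hx
      rwa [(hfix x).2 hx]
  · obtain ⟨x, hxM⟩ := h.line_nonempty hM
    have hx : x ∉ L := fun hxL => Set.disjoint_left.1 hd hxL hxM
    have hne : t • x ≠ x := fun e => hx ((hfix x).1 e)
    obtain ⟨N, hN, hxN, htxN⟩ := h.exists_line hne.symm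
    obtain rfl : M = N := (h.existsUnique_par hL x).unique ⟨hM, hxM, Or.inr hd⟩
      ⟨hN, hxN, key x hx N hN hxN htxN⟩
    have htt : t • t • x = x := by rw [← mul_smul, ht, one_smul]
    exact h.eq_of_mem (h.smul_mem t M hM) hM hne (Set.smul_mem_smul_set hxM)
      (htt ▸ Set.smul_mem_smul_set htxN : x ∈ t • M) htxN hxM

/-- A line not parallel to the axis of a shear is not carried to a parallel line. -/
theorem not_par_smul {L N : Set Ω} (hL : L ∈ 𝓛) (hN : N ∈ 𝓛) (hp : ¬ Par L N) {t : G} (ht : t * t = 1)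
    (hfix : ∀ x : Ω, t • x = x ↔ x ∈ L) : ¬ Par N (t • N) := by
  intro hNt
  obtain ⟨q, hqL, hqN⟩ := h.exists_meet hp
  have hq : q ∈ t • N := (hfix q).2 hqL ▸ Set.smul_mem_smul_set hqN
  have htN : t • N = N := (hNt.eq_of_mem hqN hq).symm
  refine hp (Or.inl (h.eq_of_mem hL hN ?_ hqL (?_ : _ ∈ L) hqN (h.exists_other hN q).choose_spec.1))
  · exact (h.exists_other hN q).choose_spec.2.symm
  · obtain ⟨hyN, -⟩ := (h.exists_other hN q).choose_spec
    set y := (h.exists_other hN q).choose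
    obtain ⟨M, hM, hyM, hLM⟩ := h.exists_par hL y
    rw [← hfix y]
    refine h.eq_of_subsingleton hM hN (fun e => hp (e ▸ hLM)) ?_ ?_ hyM hyN
    · exact h.smul_par_axis hL hM hLM ht hfix ▸ Set.smul_mem_smul_set hyM
    · exact htN ▸ Set.smul_mem_smul_set hyN

theorem exists_two_classes (o : Ω) : ∃ L N, L ∈ 𝓛 ∧ N ∈ 𝓛 ∧ ¬ Par L N ∧ o ∈ L ∧ o ∈ N := by
  have h2 : 1 < {L ∈ 𝓛 | o ∈ L}.ncard := by
    have := h.two_le
    rw [h.ncard_lines_through o]
    omega
  obtain ⟨L, N, hL, hN, hne⟩ := (Set.one_lt_ncard_iff (Set.toFinite _)).1 h2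
  exact ⟨L, N, hL.1, hN.1, fun hp => hne (hp.eq_of_mem hL.2 hN.2), hL.2, hN.2⟩

variable [FaithfulSMul G Ω]

theorem exists_translation [Nonempty Ω] : ∃ g : G, IsTranslation 𝓛 g := by
  classical
  obtain ⟨o⟩ := ‹Nonempty Ω›
  obtain ⟨L₀, N₀, hL₀, hN₀, hp, hoL, hoN⟩ := h.exists_two_classes o
  choose ax hax hqax hpax using fun q : N₀ => h.exists_par hL₀ (q : Ω)
  choose t ht hfix using fun q : N₀ => h.shear _ (hax q)
  have hnpN : ∀ q, ¬ Par (ax q) N₀ := fun q hp' => hp (h.par_trans hL₀ (hax q) hN₀ (hpax q) hp')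
  -- the line on `o` parallel to the image of `N₀`
  choose im him hoim hpim using fun q : N₀ => h.exists_par (h.smul_mem (t q) _ hN₀) o
  let A : Set (Set Ω) := {L ∈ 𝓛 | o ∈ L} \ {L₀, N₀}
  have hA : A.ncard = k - 1 := by
    rw [Set.ncard_sdiff, h.ncard_lines_through o, Set.ncard_pair fun e => hp (Or.inl e)]
    · omega
    · rintro _ (rfl | rfl)
      · exact ⟨hL₀, hoL⟩
      · exact ⟨hN₀, hoN⟩
  have hmaps : ∀ q, im q ∈ A := fun q => by
    refine ⟨⟨him q, hoim q⟩, ?_⟩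
    rintro (e | e)
    · have h1 := h.par_trans (hax q) hL₀ (h.smul_mem _ _ hN₀) (hpax q).symm (e ▸ (hpim q).symm)
      have h2 := h1.smul (t q)
      rw [h.smul_par_axis (hax q) (hax q) (Or.inl rfl) (ht q) (hfix q), ← mul_smul, ht q, one_smul] at h2
      exact hnpN q h2
    · exact h.not_par_smul (hax q) hN₀ (hnpN q) (ht q) (hfix q) (e ▸ hpim q).symm
  obtain ⟨q₁, q₂, hne, heq⟩ : ∃ q₁ q₂, q₁ ≠ q₂ ∧ im q₁ = im q₂ := by
    by_contra hcon
    push Not at hcon
    have hinj : Function.Injective im := fun a b e => by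
      by_contra hab
      exact hcon a b hab e
    have h1 := Set.ncard_le_ncard (s := Set.range im) (t := A) (by rintro _ ⟨q, rfl⟩; exact hmaps q)
    rw [Set.ncard_range_of_injective hinj, Nat.card_coe_set_eq, h.card_line N₀ hN₀, hA] at h1
    have := h.two_le
    omega
  set g := t q₁ * t q₂ with hg
  have hax12 : Par (ax q₁) (ax q₂) := h.par_trans (hax _) hL₀ (hax _) (hpax q₁).symm (hpax q₂)
  have hdis : Disjoint (ax q₁) (ax q₂) := hax12.resolve_left fun e => hne (Subtype.ext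
    (h.eq_of_subsingleton (hax q₁) hN₀ (fun e' => hnpN q₁ (Or.inl e')) (hqax q₁) q₁.2
      (e ▸ hqax q₂) q₂.2))
  -- `g` fixes the lines of the class of the axes and the class of `N₀`
  have hinv : ∀ M ∈ 𝓛, Par L₀ M → g • M = M := fun M hM hM' => by
    rw [hg, mul_smul, h.smul_par_axis (hax q₂) hM (h.par_trans (hax _) hL₀ hM (hpax q₂).symm hM') (ht q₂) (hfix q₂),
      h.smul_par_axis (hax q₁) hM (h.par_trans (hax _) hL₀ hM (hpax q₁).symm hM') (ht q₁) (hfix q₁)]
  have hN₀g : Par N₀ (g • N₀) := by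
    have h1 : Par (t q₁ • N₀) (t q₂ • N₀) :=
      h.par_trans (h.smul_mem _ _ hN₀) (him q₁) (h.smul_mem _ _ hN₀) (hpim q₁) (heq ▸ (hpim q₂).symm)
    have := h1.smul (t q₁)
    rwa [← mul_smul, ht q₁, one_smul, ← mul_smul] at this
  have hparN : ∀ N ∈ 𝓛, Par N₀ N → Par N (g • N) := fun N hN hN' =>
    h.par_trans hN hN₀ (h.smul_mem g N hN) hN'.symm
      (h.par_trans hN₀ (h.smul_mem g _ hN₀) (h.smul_mem g N hN) hN₀g (hN'.smul g))
  have hnp : ∀ M N, M ∈ 𝓛 → N ∈ 𝓛 → Par L₀ M → Par N₀ N → ¬ Par M N := fun M N hM hN h1 h2 h3 =>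
    hp (h.par_trans hL₀ hN hN₀ (h.par_trans hL₀ hM hN h1 h3) h2.symm)
  -- a point is the meet of its two lines
  have hfpf : ∀ y : Ω, g • y ≠ y := by
    intro y hy
    obtain ⟨N, hN, hyN, hN'⟩ := h.exists_par hN₀ y
    have hgN : g • N = N := ((hparN N hN hN').eq_of_mem hyN (hy ▸ Set.smul_mem_smul_set hyN)).symm
    obtain ⟨z, hz1, hzN⟩ := h.exists_meet (hnp _ _ (hax q₁) hN (hpax q₁) hN')
    have hgz : g • z = z := h.eq_of_subsingleton (hax q₁) hN (fun e => hnp _ _ (hax q₁) hN (hpax q₁) hN' (Or.inl e))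
      (hinv _ (hax q₁) (hpax q₁) ▸ Set.smul_mem_smul_set hz1) (hgN ▸ Set.smul_mem_smul_set hzN) hz1 hzN
    have h2 : t q₂ • z = z := by
      have e := congrArg (t q₁ • ·) hgz
      simp only [hg, mul_smul] at e
      rwa [← mul_smul, ht q₁, one_smul, (hfix q₁ z).2 hz1] at e
    exact Set.disjoint_left.1 hdis hz1 ((hfix q₂ z).1 h2)
  have hsq : g * g = 1 := by
    refine eq_of_smul_eq_smul fun y : Ω => ?_
    rw [one_smul]
    obtain ⟨N, hN, hyN, hN'⟩ := h.exists_par hN₀ y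
    obtain ⟨M, hM, hyM, hM'⟩ := h.exists_par hL₀ y
    obtain ⟨z, hz1, hzN⟩ := h.exists_meet (hnp _ _ (hax q₁) hN (hpax q₁) hN')
    have hgz : (g * g) • z = z := by
      have h3 : t q₂ • z ∈ ax q₁ :=
        h.smul_par_axis (hax q₂) (hax q₁) hax12.symm (ht q₂) (hfix q₂) ▸ Set.smul_mem_smul_set hz1
      rw [hg, mul_smul, mul_smul, mul_smul, (hfix q₁ _).2 h3, ← mul_smul (t q₂), ht q₂, one_smul,
        (hfix q₁ z).2 hz1]
    have hgN : (g * g) • N = N := by
      have h4 : Par N ((g * g) • N) := by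
        rw [mul_smul]
        exact h.par_trans hN (h.smul_mem g N hN) (h.smul_mem g _ (h.smul_mem g N hN)) (hparN N hN hN')
          ((hparN N hN hN').smul g)
      exact (h4.eq_of_mem hzN (hgz ▸ Set.smul_mem_smul_set hzN)).symm
    refine h.eq_of_subsingleton hM hN (fun e => hnp _ _ hM hN hM' hN' (Or.inl e)) ?_
      (hgN ▸ Set.smul_mem_smul_set hyN) hyM hyN
    have : (g * g) • M = M := by rw [mul_smul, hinv M hM hM', hinv M hM hM']
    exact this ▸ Set.smul_mem_smul_set hyM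
  refine ⟨g, hsq, hfpf, fun P hP => ?_⟩
  by_contra hP'
  obtain ⟨y, hyP, hygP⟩ := h.exists_meet hP'
  have h5 : g • y ∈ P := by
    rwa [Set.mem_smul_set_iff_inv_smul_mem, inv_eq_of_mul_eq_one_right hsq] at hygP
  exact hfpf y (h.eq_of_subsingleton hP (h.smul_mem g P hP) (fun e => hP' (Or.inl e)) h5
    (Set.smul_mem_smul_set hyP) hyP hygP)

theorem translation_conj {g : G} (hg : IsTranslation 𝓛 g) (c : G) : IsTranslation 𝓛 (c * g * c⁻¹) where
  sq := by rw [show c * g * c⁻¹ * (c * g * c⁻¹) = c * (g * g) * c⁻¹ by group, hg.sq, mul_one, mul_inv_cancel]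
  fpf x e := hg.fpf (c⁻¹ • x) (by
    rw [mul_smul, mul_smul] at e
    exact eq_inv_smul_iff.2 e)
  par P hP := by
    have := (hg.par _ (h.smul_mem c⁻¹ P hP)).smul c
    rwa [smul_inv_smul, ← mul_smul, ← mul_smul] at this

/-- The line on `x` and `g • x` is invariant under a translation `g`. -/
theorem translation_smul_line {g : G} (hg : IsTranslation 𝓛 g) {P : Set Ω} (hP : P ∈ 𝓛) {x : Ω}
    (hx : x ∈ P) (hgx : g • x ∈ P) : g • P = P :=
  ((hg.par P hP).eq_of_mem hgx (Set.smul_mem_smul_set hx)).symm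

/-- The invariant lines of a translation form one class. -/
theorem translation_smul_iff {g : G} (hg : IsTranslation 𝓛 g) {P Q : Set Ω} (hP : P ∈ 𝓛) (hQ : Q ∈ 𝓛)
    (hgP : g • P = P) : g • Q = Q ↔ Par P Q := by
  have meet : ∀ {P Q : Set Ω}, P ∈ 𝓛 → Q ∈ 𝓛 → g • P = P → g • Q = Q → Par P Q := by
    intro P Q hP hQ hgP hgQ
    by_contra hPQ
    obtain ⟨y, hyP, hyQ⟩ := h.exists_meet hPQ
    exact hg.fpf y (h.eq_of_subsingleton hP hQ (fun e => hPQ (Or.inl e))
      (hgP ▸ Set.smul_mem_smul_set hyP) (hgQ ▸ Set.smul_mem_smul_set hyQ) hyP hyQ)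
  refine ⟨meet hP hQ hgP, fun hPQ => ?_⟩
  obtain ⟨x, hxQ⟩ := h.line_nonempty hQ
  obtain ⟨R, hR, hxR, hgxR⟩ := h.exists_line (hg.fpf x).symm
  have hgR := h.translation_smul_line hg hR hxR hgxR
  rwa [(h.existsUnique_par hP x).unique ⟨hQ, hxQ, hPQ⟩ ⟨hR, hxR, meet hP hR hgP hgR⟩]

/-- Translations with different directions commute. -/
theorem translation_commute_of_not_par {a b : G} (ha : IsTranslation 𝓛 a) (hb : IsTranslation 𝓛 b)
    {P Q : Set Ω} (hP : P ∈ 𝓛) (hQ : Q ∈ 𝓛) (haP : a • P = P) (hbQ : b • Q = Q) (hPQ : ¬ Par P Q) :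
    a * b = b * a := by
  refine eq_of_smul_eq_smul fun x : Ω => ?_
  rw [mul_smul, mul_smul]
  obtain ⟨R, hR, hxR, hPR⟩ := h.exists_par hP (b • x)
  obtain ⟨S, hS, hxS, hQS⟩ := h.exists_par hQ (a • x)
  have hRS : R ≠ S := fun e => hPQ (h.par_trans hP hR hQ hPR (e ▸ hQS.symm))
  obtain ⟨P', hP', hxP', hPP'⟩ := h.exists_par hP x
  obtain ⟨Q', hQ', hxQ', hQQ'⟩ := h.exists_par hQ x
  have haP' := (h.translation_smul_iff ha hP hP' haP).2 hPP'
  have hbQ' := (h.translation_smul_iff hb hQ hQ' hbQ).2 hQQ'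
  have haR := (h.translation_smul_iff ha hP hR haP).2 hPR
  have hbS := (h.translation_smul_iff hb hQ hS hbQ).2 hQS
  have h1 : b • P' = R := (h.existsUnique_par hP (b • x)).unique
    ⟨h.smul_mem b P' hP', Set.smul_mem_smul_set hxP',
      h.par_trans hP hP' (h.smul_mem b P' hP') hPP' (hb.par P' hP')⟩ ⟨hR, hxR, hPR⟩
  have h2 : a • Q' = S := (h.existsUnique_par hQ (a • x)).unique
    ⟨h.smul_mem a Q' hQ', Set.smul_mem_smul_set hxQ',
      h.par_trans hQ hQ' (h.smul_mem a Q' hQ') hQQ' (ha.par Q' hQ')⟩ ⟨hS, hxS, hQS⟩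
  exact h.eq_of_subsingleton hR hS hRS
    (haR ▸ Set.smul_mem_smul_set hxR) (h2 ▸ Set.smul_mem_smul_set (hbQ' ▸ Set.smul_mem_smul_set hxQ'))
    (h1 ▸ Set.smul_mem_smul_set (haP' ▸ Set.smul_mem_smul_set hxP')) (hbS ▸ Set.smul_mem_smul_set hxS)

variable (h2 : MulAction.IsMultiplyPretransitive G Ω 2)
include h2

theorem translation_commute {a b : G} (ha : IsTranslation 𝓛 a) (hb : IsTranslation 𝓛 b) :
    a * b = b * a := by
  rcases isEmpty_or_nonempty Ω with hΩ | ⟨⟨x⟩⟩
  · exact eq_of_smul_eq_smul fun y : Ω => (hΩ.false y).elim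
  obtain ⟨P, hP, hxP, haxP⟩ := h.exists_line (ha.fpf x).symm
  obtain ⟨Q, hQ, hxQ, hbxQ⟩ := h.exists_line (hb.fpf x).symm
  have haP := h.translation_smul_line ha hP hxP haxP
  have hbQ := h.translation_smul_line hb hQ hxQ hbxQ
  by_cases hPQ : Par P Q
  swap
  · exact h.translation_commute_of_not_par ha hb hP hQ haP hbQ hPQ
  -- a translation in another direction
  obtain ⟨R, hR, hxR, hRP⟩ : ∃ R ∈ 𝓛, x ∈ R ∧ ¬ Par P R := by
    obtain ⟨L, N, hL, hN, hLN, hxL, hxN⟩ := h.exists_two_classes x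
    by_cases hPL : Par P L
    · exact ⟨N, hN, hxN, fun hPN => hLN (h.par_trans hL hP hN hPL.symm hPN)⟩
    · exact ⟨L, hL, hxL, hPL⟩
  obtain ⟨y, hyR, hyx⟩ := h.exists_other hR x
  obtain ⟨c, hc1, hc2⟩ := MulAction.is_two_pretransitive_iff.1 h2 (ha.fpf x).symm hyx.symm
  set d := c * a * c⁻¹
  have hd : IsTranslation 𝓛 d := h.translation_conj ha c
  have hcx : c⁻¹ • x = x := by rw [inv_smul_eq_iff, hc1]
  have hdx : d • x = y := by rw [mul_smul, mul_smul, hcx, hc2]
  have hdR : d • R = R := h.translation_smul_line hd hR hxR (hdx ▸ hyR)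
  have hRQ : ¬ Par R Q := fun e => hRP (h.par_trans hP hQ hR hPQ e.symm)
  have hbd : b * d = d * b := (h.translation_commute_of_not_par hd hb hR hQ hdR hbQ hRQ).symm
  have had : a * d = d * a := h.translation_commute_of_not_par ha hd hP hR haP hdR hRP
  have hda : IsTranslation 𝓛 (a * d) := by
    refine ⟨by rw [mul_assoc, ← mul_assoc d, ← had, mul_assoc a d d, hd.sq, mul_one, ha.sq],
      fun z hz => ?_, fun S hS => ?_⟩
    · have h1 : d • z = a • z := by
        rw [mul_smul] at hz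
        have := congrArg (a • ·) hz
        simpa only [← mul_smul, ← mul_assoc, ha.sq, one_mul, one_smul] using this
      obtain ⟨P', hP', hzP', hPP'⟩ := h.exists_par hP z
      obtain ⟨R', hR', hzR', hRR'⟩ := h.exists_par hR z
      have e1 := (h.translation_smul_iff ha hP hP' haP).2 hPP'
      have e2 := (h.translation_smul_iff hd hR hR' hdR).2 hRR'
      exact ha.fpf z (h.eq_of_subsingleton hP' hR'
        (fun e => hRP (h.par_trans hP hP' hR hPP' (e ▸ hRR'.symm)))
        (e1 ▸ Set.smul_mem_smul_set hzP') (h1 ▸ e2 ▸ Set.smul_mem_smul_set hzR') hzP' hzR')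
    · rw [mul_smul]
      exact h.par_trans hS (h.smul_mem d S hS) (h.smul_mem a _ (h.smul_mem d S hS)) (hd.par S hS)
        (ha.par _ (h.smul_mem d S hS))
  obtain ⟨S, hS, hxS, hdaS⟩ := h.exists_line (hda.fpf x).symm
  have hdaS' := h.translation_smul_line hda hS hxS hdaS
  have hSQ : ¬ Par S Q := by
    intro e
    have hSP : (a * d) • P = P := (h.translation_smul_iff hda hS hP hdaS').2
      (h.par_trans hS hQ hP e hPQ.symm)
    rw [had, mul_smul, haP] at hSP
    exact hRP ((h.translation_smul_iff hd hP hR hSP).1 hdR)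
  have key : a * d * b = b * (a * d) := h.translation_commute_of_not_par hda hb hS hQ hdaS' hbQ hSQ
  rw [mul_assoc a d b, ← hbd, ← mul_assoc a b d, ← mul_assoc b a d] at key
  exact mul_right_cancel key

variable [Nonempty Ω]

theorem exists_translation_smul {x y : Ω} (hxy : x ≠ y) : ∃ g : G, IsTranslation 𝓛 g ∧ g • x = y := by
  obtain ⟨a, ha⟩ := h.exists_translation
  obtain ⟨c, hc1, hc2⟩ := MulAction.is_two_pretransitive_iff.1 h2 (ha.fpf x).symm hxy
  refine ⟨c * a * c⁻¹, h.translation_conj ha c, ?_⟩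
  have hcx : c⁻¹ • x = x := by rw [inv_smul_eq_iff, hc1]
  rw [mul_smul, mul_smul, hcx, hc2]

theorem translation_ext {a b : G} (ha : IsTranslation 𝓛 a) (hb : IsTranslation 𝓛 b) {x : Ω}
    (hx : a • x = b • x) : a = b := by
  refine eq_of_smul_eq_smul fun y : Ω => ?_
  rcases eq_or_ne x y with rfl | hxy
  · exact hx
  obtain ⟨c, hc, rfl⟩ := h.exists_translation_smul h2 hxy
  rw [← mul_smul, h.translation_commute h2 ha hc, mul_smul, hx, ← mul_smul,
    ← h.translation_commute h2 hb hc, mul_smul]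

/-- The translation group. -/
theorem exists_translationGroup :
    ∃ T : Subgroup G, T.Normal ∧ (∀ a ∈ T, a * a = 1) ∧ (∀ a ∈ T, ∀ b ∈ T, a * b = b * a) ∧
      (∀ a ∈ T, a ≠ 1 → ∀ x : Ω, a • x ≠ x) ∧ (∀ x y : Ω, ∃ a ∈ T, a • x = y) := by
  let T : Subgroup G :=
    { carrier := {g | g = 1 ∨ IsTranslation 𝓛 g}
      one_mem' := Or.inl rfl
      mul_mem' := by
        rintro a b (rfl | ha) (rfl | hb)
        · exact Or.inl (one_mul 1)
        · rw [one_mul]; exact Or.inr hb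
        · rw [mul_one]; exact Or.inr ha
        · by_cases hab : a = b
          · exact Or.inl (by rw [hab, hb.sq])
          · refine Or.inr ⟨?_, fun x hx => hab ?_, fun P hP => ?_⟩
            · rw [mul_assoc, ← mul_assoc b, ← h.translation_commute h2 ha hb, mul_assoc a b b, hb.sq,
                mul_one, ha.sq]
            · refine (h.translation_ext h2 hb ha (x := x) ?_).symm
              rw [mul_smul] at hx
              have := congrArg (a • ·) hx
              simpa only [← mul_smul, ← mul_assoc, ha.sq, one_mul, one_smul] using this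
            · rw [mul_smul]
              exact h.par_trans hP (h.smul_mem b P hP) (h.smul_mem a _ (h.smul_mem b P hP)) (hb.par P hP)
                (ha.par _ (h.smul_mem b P hP))
      inv_mem' := by
        rintro a (rfl | ha)
        · exact Or.inl inv_one
        · rw [inv_eq_of_mul_eq_one_right ha.sq]; exact Or.inr ha }
  refine ⟨T, ⟨?_⟩, ?_, ?_, ?_, fun x y => ?_⟩
  · rintro a (rfl | ha) c
    · exact Or.inl (by group)
    · exact Or.inr (h.translation_conj ha c)
  · rintro a (rfl | ha)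
    · exact one_mul 1
    · exact ha.sq
  · rintro a (rfl | ha) b (rfl | hb) <;> first
      | simp
      | exact h.translation_commute h2 ha hb
  · rintro a (rfl | ha) ha1
    · exact absurd rfl ha1
    · exact ha.fpf
  · rcases eq_or_ne x y with rfl | hxy
    · exact ⟨1, Or.inl rfl, one_smul _ _⟩
    · obtain ⟨a, ha, hax⟩ := h.exists_translation_smul h2 hxy
      exact ⟨a, Or.inr ha, hax⟩

end IsShearPlane

end CfsgLib.TwoPointAltFour
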