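import Cfsg.Agent.Lib.TwoPointAltFour.Swappers
import Cfsg.Agent.Lib.TwoPointAltFour.DihedralCounts

/-!
# Doubly transitive groups with two-point stabiliser `A₄`, symmetric case, `Fix t = Fix V`

The degree is 6 or 15, the group `A₆` or `A₇`.
-/

set_option autoImplicit false
set_option linter.style.haveILetI false
open Cfsg MulAction

namespace CfsgLib.TwoPointAltFour

/-- A dihedral group of order eight inside a group, from a generator and an inverting involution. -/
theorem exists_dihedral_hom {G : Type*} [Group G] {σ τ : G} (hσ : orderOf σ = 4) (hτ : τ * τ = 1)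
    (hinv : τ * σ * τ = σ⁻¹) (hτσ : τ ∉ Subgroup.zpowers σ) :
    ∃ f : DihedralGroup 4 →* G, Function.Injective f ∧ f.range ≤ Subgroup.closure {σ, τ} := by
  have hτi : τ⁻¹ = τ := inv_eq_of_mul_eq_one_right hτ
  have hz : ∀ (m : ℤ), τ * σ ^ m = σ ^ (-m) * τ := fun m => by
    have h := (conj_zpow (i := m) (a := τ) (b := σ))
    rw [hτi, hinv, inv_zpow'] at h
    rw [h, mul_assoc (τ * σ ^ m), hτ, mul_one]
  have hcong : ∀ (m : ℤ) (i : ZMod 4), (m : ZMod 4) = i → σ ^ (i.val : ℤ) = σ ^ m := fun m i h => by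
    rw [← zpow_mod_orderOf σ m, hσ, ← h]
    congr 1
    exact ZMod.val_intCast m
  let e : ZMod 4 → G := fun i => σ ^ (i.val : ℤ)
  have hv : ∀ i : ZMod 4, (((i.val : ℤ)) : ZMod 4) = i := fun i => by simp
  have hadd : ∀ i j, e (i + j) = e i * e j := fun i j => by
    show σ ^ _ = σ ^ _ * σ ^ _
    rw [← zpow_add]
    exact hcong ((i.val : ℤ) + j.val) (i + j) (by rw [Int.cast_add, hv, hv])
  have hneg : ∀ i, e (-i) = (e i)⁻¹ := fun i => by
    show σ ^ _ = (σ ^ _)⁻¹
    rw [← zpow_neg]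
    exact hcong (-(i.val : ℤ)) (-i) (by rw [Int.cast_neg, hv])
  have hτe : ∀ i, τ * e i = e (-i) * τ := fun i => by
    rw [hneg]
    show τ * σ ^ _ = (σ ^ _)⁻¹ * τ
    rw [hz, zpow_neg]
  have he0 : e 0 = 1 := by simp [e]
  let F : DihedralGroup 4 → G := fun d => match d with
    | .r i => e i
    | .sr i => τ * e i
  refine ⟨MonoidHom.mk' F ?_, ?_, ?_⟩
  · rintro (i | i) (j | j)
    · simp only [DihedralGroup.r_mul_r, F, hadd]
    · simp only [DihedralGroup.r_mul_sr, F]
      rw [← mul_assoc, ← neg_neg i, ← hτe, mul_assoc, ← hadd, neg_neg, sub_eq_neg_add]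
    · simp only [DihedralGroup.sr_mul_r, F, hadd, mul_assoc]
    · simp only [DihedralGroup.sr_mul_sr, F]
      rw [sub_eq_neg_add, hadd, hτe i, mul_assoc (e (-i)), ← mul_assoc τ τ, hτ, one_mul]
  · have hinj : ∀ i j, e i = e j → i = j := fun i j h => by
      have h' : σ ^ (i.val : ℤ) = σ ^ (j.val : ℤ) := h
      rw [zpow_natCast, zpow_natCast, pow_eq_pow_iff_modEq, hσ] at h'
      exact ZMod.val_injective 4 (Nat.ModEq.eq_of_lt_of_lt h' i.val_lt j.val_lt)
    have hne : ∀ i j, τ * e i ≠ e j := fun i j h => hτσ ⟨(j.val : ℤ) - i.val, by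
      show σ ^ _ = τ
      rw [zpow_sub, mul_inv_eq_iff_eq_mul]
      exact h.symm⟩
    rintro (i | i) (j | j) h
    · exact congrArg DihedralGroup.r (hinj i j h)
    · exact absurd h.symm (hne j i)
    · exact absurd h (hne i j)
    · exact congrArg DihedralGroup.sr (hinj i j (mul_left_cancel h))
  · rintro _ ⟨i | i, rfl⟩
    · exact zpow_mem (Subgroup.subset_closure (by simp)) _
    · exact mul_mem (Subgroup.subset_closure (by simp)) (zpow_mem (Subgroup.subset_closure (by simp)) _)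

namespace Ctx

variable {G Ω : Type*} [Group G] [MulAction G Ω] (C : Ctx G Ω)

include C in
/-- Non-trivial normal subgroups are transitive. -/
theorem normal_transitive [FaithfulSMul G Ω] {M : Subgroup G} [M.Normal] (hM : M ≠ ⊥) (c d : Ω) :
    ∃ m ∈ M, m • c = d := by
  have tr : ∀ c d : Ω, ∃ g : G, g • c = d := fun c d => by
    by_cases h : c = d
    · exact ⟨1, by rw [one_smul, h]⟩
    obtain ⟨g₁, h₁, -⟩ := C.trans c d h
    obtain ⟨g₂, h₂, -⟩ := C.trans d c (Ne.symm h)
    exact ⟨g₂ * g₁⁻¹, by rw [mul_smul, ← h₁, inv_smul_smul, h₂]⟩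
  by_cases hcd : c = d
  · exact ⟨1, M.one_mem, by rw [one_smul, hcd]⟩
  obtain ⟨m, hm, hmc⟩ : ∃ m ∈ M, m • c ≠ c := by
    by_contra h
    push Not at h
    refine hM ((Subgroup.eq_bot_iff_forall M).2 fun m hm => eq_of_smul_eq_smul (α := Ω) fun p => ?_)
    obtain ⟨g, rfl⟩ := tr c p
    have := h (g⁻¹ * m * g) (by
      simpa using (inferInstance : M.Normal).conj_mem m hm g⁻¹)
    rw [mul_smul, mul_smul, inv_smul_eq_iff] at this
    rw [one_smul, this]
  obtain ⟨g₁, h₁, h₁'⟩ := C.trans c (m • c) (Ne.symm hmc)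
  obtain ⟨g₂, h₂, h₂'⟩ := C.trans c d hcd
  refine ⟨g₂ * g₁⁻¹ * m * (g₂ * g₁⁻¹)⁻¹, (inferInstance : M.Normal).conj_mem m hm _, ?_⟩
  have e1 : (g₂ * g₁⁻¹)⁻¹ • c = c := by
    rw [mul_inv_rev, inv_inv, mul_smul]
    conv_lhs => rw [← h₂]
    rw [inv_smul_smul, h₁]
  have e2 : g₁⁻¹ • m • c = C.b := by rw [inv_smul_eq_iff, h₁']
  rw [mul_smul, e1, mul_smul, mul_smul, e2, h₂']

include C in
/-- A regular abelian normal subgroup makes the degree a prime power. -/
theorem prime_dvd_eq [Finite G] [Finite Ω] [FaithfulSMul G Ω] {M : Subgroup G} [M.Normal]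
    (hM : M ≠ ⊥) (hab : ∀ x ∈ M, ∀ y ∈ M, x * y = y * x) {p r : ℕ} (hp : p.Prime) (hr : r.Prime)
    (hpn : p ∣ Nat.card Ω) (hrn : r ∣ Nat.card Ω) : p = r := by
  have hcard : ∀ K : Subgroup G, K.Normal → K ≠ ⊥ → (∀ x ∈ K, ∀ y ∈ K, x * y = y * x) →
      Nat.card K = Nat.card Ω := fun K hK hne hK' => by
    haveI := hK
    refine Nat.card_eq_of_bijective (fun k : K => (k : G) • C.a) ⟨fun k l h => ?_, fun c => ?_⟩
    · refine Subtype.ext (eq_of_smul_eq_smul (α := Ω) fun c => ?_)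
      obtain ⟨m, hm, rfl⟩ := C.normal_transitive hne C.a c
      rw [← mul_smul, ← mul_smul, hK' _ k.2 _ hm, hK' _ l.2 _ hm, mul_smul, mul_smul]
      exact congrArg (m • ·) h
    · obtain ⟨m, hm, hmc⟩ := C.normal_transitive hne C.a c
      exact ⟨⟨m, hm⟩, hmc⟩
  haveI : Fact p.Prime := ⟨hp⟩
  let K : Subgroup G :=
    { carrier := {x | x ∈ M ∧ x ^ p = 1}
      one_mem' := ⟨M.one_mem, one_pow p⟩
      mul_mem' := fun {x y} hx hy =>
        ⟨M.mul_mem hx.1 hy.1, by rw [(show Commute x y from hab x hx.1 y hy.1).mul_pow, hx.2, hy.2,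
          one_mul]⟩
      inv_mem' := fun {x} hx => ⟨M.inv_mem hx.1, by rw [inv_pow, hx.2, inv_one]⟩ }
  have hKn : K.Normal := ⟨fun x hx g => ⟨(inferInstance : M.Normal).conj_mem x hx.1 g, by
    rw [conj_pow, hx.2, mul_one, mul_inv_cancel]⟩⟩
  have hKne : K ≠ ⊥ := by
    obtain ⟨x, hx⟩ := exists_prime_orderOf_dvd_card' (G := M) p
      (by rw [hcard M inferInstance hM hab]; exact hpn)
    refine fun h => hp.one_lt.ne' ?_
    have hxK : (x : G) ∈ K := ⟨x.2, by rw [← hx, ← Subgroup.orderOf_coe, pow_orderOf_eq_one]⟩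
    rw [h, Subgroup.mem_bot] at hxK
    rw [← hx, ← Subgroup.orderOf_coe, hxK, orderOf_one]
  have hKp : IsPGroup p K := fun x => ⟨1, Subtype.ext (by rw [pow_one]; exact x.2.2)⟩
  obtain ⟨j, hj⟩ := IsPGroup.iff_card.1 hKp
  rw [hcard K hKn hKne fun x hx y hy => hab x hx.1 y hy.1] at hj
  rw [hj] at hrn
  exact ((Nat.prime_dvd_prime_iff_eq hr hp).1 (hr.dvd_of_dvd_pow hrn)).symm

include C in
/-- The odd core is trivial when the degree is not a prime power. -/
theorem oddCore_eq_bot [Finite G] [Finite Ω] [FaithfulSMul G Ω] {p r : ℕ} (hp : p.Prime)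
    (hr : r.Prime) (hpr : p ≠ r) (hpn : p ∣ Nat.card Ω) (hrn : r ∣ Nat.card Ω) :
    Cfsg.oddCore G = ⊥ := by
  by_contra hne
  set O := Cfsg.oddCore G with hO
  haveI : O.Normal := by
    haveI := CfsgLib.Cores.pPrimeCore_characteristic 2 G
    rw [hO, Cfsg.oddCore]; infer_instance
  haveI : Group.IsSolvable O := Cfsg.Agent.S0205.result (CfsgLib.Cores.odd_card_oddCore (G := G))
  classical
  obtain ⟨n, hn⟩ := (Group.isSolvable_def O).1 inferInstance
  set D : ℕ → Subgroup G := fun i => (derivedSeries O i).map O.subtype with hD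
  have hDn : D n = ⊥ := by rw [hD]; simp only; rw [hn, Subgroup.map_bot]
  have hD0 : D 0 ≠ ⊥ := by
    rw [hD]; simp only
    rw [derivedSeries_zero, ← MonoidHom.range_eq_map, Subgroup.range_subtype]
    exact hne
  have hex : ∃ i, D i = ⊥ := ⟨n, hDn⟩
  obtain ⟨m, hm⟩ : ∃ m, Nat.find hex = m + 1 := ⟨Nat.find hex - 1, by
    have : Nat.find hex ≠ 0 := fun h => hD0 (h ▸ Nat.find_spec hex)
    omega⟩
  have hmne : D m ≠ ⊥ := Nat.find_min hex (by omega)
  have hm1 : derivedSeries O (m + 1) = ⊥ := by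
    have h : D (m + 1) = ⊥ := hm ▸ Nat.find_spec hex
    rw [hD] at h; simp only at h
    exact (Subgroup.map_eq_bot_iff_of_injective _ O.subtype_injective).1 h
  haveI : (D m).Normal := by
    rw [hD]; simp only
    infer_instance
  refine hpr (C.prime_dvd_eq hmne ?_ hp hr hpn hrn)
  rintro _ ⟨x, hx, rfl⟩ _ ⟨y, hy, rfl⟩
  have h := Subgroup.commutator_mem_commutator (g₁ := x) (g₂ := y) hx hy
  rw [derivedSeries_succ] at hm1
  rw [hm1, Subgroup.mem_bot, commutatorElement_eq_one_iff_mul_comm] at h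
  rw [← map_mul, ← map_mul, h]

/-- The degree in the symmetric case. -/
theorem sym_degree [Finite G] [Finite Ω] [FaithfulSMul G Ω] (hS : C.IsSym) :
    Nat.card Ω = Nat.card C.Δ * (2 * Nat.card C.Δ - 1) := by
  have h := C.three_mul_sub
  rw [(C.sym_swap hS).2] at h
  have hle : Nat.card C.Δ ≤ Nat.card Ω := Nat.card_le_card_of_injective _ Subtype.val_injective
  obtain ⟨k, hk⟩ : ∃ k, Nat.card C.Δ = k + 2 := ⟨_, (Nat.sub_add_cancel C.two_le_k).symm⟩
  rw [hk] at h hle ⊢
  rw [show k + 2 - 1 = k + 1 from rfl] at h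
  rw [show 2 * (k + 2) - 1 = 2 * k + 3 by omega]
  zify [hle] at h ⊢
  linarith

/-- The symmetric case with `Fix t = Fix V`: the conclusion, given the congruence for `f` and the
order of the centraliser of `V`. -/
theorem sym_caseA_aux [Finite G] [Finite Ω] [FaithfulSMul G Ω] (hS : C.IsSym) (hA : C.Δ ⊆ C.F)
    (hf : Nat.card C.F = 2 ∨ Nat.card C.F % 4 = 3)
    (hCV : Nat.card (Subgroup.centralizer ({C.t, C.v} : Set G)) =
      2 * Nat.card C.F * (Nat.card C.F - 1)) :
    (Nat.card Ω = 6 ∧ Nonempty (G ≃* ↥(alternatingGroup (Fin 6)))) ∨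
      (Nat.card Ω = 15 ∧ Nonempty (G ≃* ↥(alternatingGroup (Fin 7)))) := by
  classical
  have hΔF : C.Δ = C.F := Set.Subset.antisymm hA C.F_subset
  rw [← hΔF] at hf hCV
  have hn := C.sym_degree hS
  have hct := C.card_centralizer
  set k := Nat.card C.Δ with hk
  have hG := C.card_G
  by_cases hk2 : k = 2
  · left
    rw [hk2] at hn
    refine ⟨hn, ?_⟩
    rw [hn] at hG
    obtain ⟨φ⟩ : Nonempty (Ω ≃ Fin 6) := ⟨(Finite.equivFinOfCardEq hn)⟩
    let f : G →* Equiv.Perm (Fin 6) := (φ.permCongrHom.toMonoidHom).comp (MulAction.toPermHom G Ω)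
    have hf' : Function.Injective f := φ.permCongrHom.injective.comp MulAction.toPerm_injective
    have hidx : f.range.index = 2 := by
      have h := f.range.card_mul_index
      rw [← Nat.card_congr (MonoidHom.ofInjective hf').toEquiv, hG, Nat.card_perm, Nat.card_fin] at h
      norm_num [Nat.factorial] at h
      omega
    exact ⟨(MonoidHom.ofInjective hf').trans
      (MulEquiv.subgroupCongr (Equiv.Perm.eq_alternatingGroup_of_index_eq_two hidx))⟩
  right
  have hk4 : k % 4 = 3 := hf.resolve_left hk2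
  obtain ⟨m, hm⟩ : ∃ m, k = 4 * m + 3 := ⟨k / 4, by omega⟩
  rw [hm] at hn hct hCV
  rw [show 2 * (4 * m + 3) - 1 = 8 * m + 5 by omega] at hn
  rw [show 4 * m + 3 - 1 = 2 * (2 * m + 1) by omega] at hct hCV
  have hn1 : Nat.card Ω - 1 = (8 * m + 7) * (2 * (2 * m + 1)) := by
    rw [hn]
    have : (4 * m + 3) * (8 * m + 5) = (8 * m + 7) * (2 * (2 * m + 1)) + 1 := by ring
    omega
  rw [hn1, hn] at hG
  have hG8 : Nat.card G = 8 * (3 * ((4 * m + 3) * (8 * m + 5) * ((8 * m + 7) * (2 * m + 1)))) := by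
    rw [hG]; ring
  haveI : Fact (Nat.Prime 2) := ⟨Nat.prime_two⟩
  -- the Sylow 2-subgroup
  have hd : GW.HasDihedralSylow G := by
    obtain ⟨s, hs, hst, -⟩ := C.exists_swap_commute hS
    have hv := C.swap_conj_v hS hs hst
    set σ := s * C.v with hσ
    have hσ2 : σ * σ = C.t := by
      rw [hσ, show s * C.v * (s * C.v) = s * C.v * s * C.v by group, hv, mul_assoc, C.v_sq, mul_one]
    have hσ4 : orderOf σ = 4 := by
      refine orderOf_eq_prime_pow (p := 2) (n := 1) ?_ ?_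
      · rw [pow_one, pow_two, hσ2]; exact C.t_ne
      · rw [show 2 ^ (1 + 1) = 2 * 2 from rfl, pow_mul, pow_two σ, hσ2, pow_two, C.t_sq]
    have hinv : s * σ * s = σ⁻¹ := by
      rw [hσ, mul_inv_rev, inv_eq_of_mul_eq_one_right C.v_sq, inv_eq_of_mul_eq_one_right hs.1,
        ← mul_assoc, hs.1, one_mul]
    have hsσ : s ∉ Subgroup.zpowers σ := by
      intro h
      obtain ⟨i, hi⟩ := Subgroup.mem_zpowers_iff.1 h
      have hc : Commute σ s := hi ▸ (Commute.refl σ).zpow_right i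
      have hsv : s * C.v * s = C.v := by
        have e : s * (s * C.v * s) * s = s * (s * (s * C.v)) * s := by
          rw [show s * C.v * s = s * (s * C.v) from hc.eq]
        rw [← mul_assoc s s (s * C.v), hs.1, one_mul] at e
        rw [show s * (s * C.v * s) * s = (s * s) * C.v * (s * s) by group, hs.1, one_mul,
          mul_one] at e
        exact e.symm
      rw [hv] at hsv
      exact C.t_ne (mul_eq_right.1 hsv)
    obtain ⟨f, hf, -⟩ := exists_dihedral_hom hσ4 hs.1 hinv hsσ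
    have hc : Nat.card f.range = 8 := by
      rw [← Nat.card_congr (MonoidHom.ofInjective hf).toEquiv, DihedralGroup.nat_card]
    have hidx : ¬ 2 ∣ f.range.index := fun h => by
      have e := f.range.card_mul_index
      rw [hc, hG8] at e
      have : f.range.index = 3 * ((4 * m + 3) * (8 * m + 5) * ((8 * m + 7) * (2 * m + 1))) := by
        omega
      rw [this] at h
      simp [Nat.prime_two.dvd_mul] at h
      omega
    have hp : IsPGroup 2 f.range := IsPGroup.of_card (n := 3) (by rw [hc]; rfl)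
    exact ⟨hp.toSylow hidx, 4, by norm_num, ⟨(MonoidHom.ofInjective hf).symm⟩⟩
  have hO : Cfsg.oddCore G = ⊥ := by
    obtain ⟨p, hp, hpk⟩ := Nat.exists_prime_and_dvd (show 4 * m + 3 ≠ 1 by omega)
    obtain ⟨r, hr, hrk⟩ := Nat.exists_prime_and_dvd (show 8 * m + 5 ≠ 1 by omega)
    refine C.oddCore_eq_bot hp hr (fun h => ?_) (hn ▸ hpk.mul_right _) (hn ▸ hrk.mul_left _)
    subst h
    have h1 : p ∣ 2 * (4 * m + 3) := hpk.mul_left 2
    have h2 := Nat.dvd_sub h1 hrk
    rw [show 2 * (4 * m + 3) - (8 * m + 5) = 1 by omega] at h2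
    exact hp.ne_one (Nat.dvd_one.1 h2)
  have hone : ∀ i j : G, orderOf i = 2 → orderOf j = 2 → IsConj i j := by
    have h : ∀ i : G, orderOf i = 2 → IsConj C.t i := fun i hi => C.sym_isConj hS
      (by rw [← pow_two, ← hi, pow_orderOf_eq_one]) (fun e => by rw [e, orderOf_one] at hi; omega)
    exact fun i j hi hj => (h i hi).symm.trans (h j hj)
  rcases dihedral_counts hd (hG8 ▸ Dvd.intro _ rfl) hO C.t C.v C.orderOf_t C.orderOf_v C.commute_t_v
      C.t_ne_v hone with ⟨⟨e⟩⟩ | ⟨q, φ, ε, hq, -, hε, -, h1, h2, h3⟩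
  · have h := Nat.card_congr e.toEquiv
    rw [hG8, card_seven] at h
    have hm0 : m = 0 := by
      by_contra hne
      have : (7 * 13) * (15 * 3) ≤ (4 * m + 3) * (8 * m + 5) * ((8 * m + 7) * (2 * m + 1)) :=
        Nat.mul_le_mul (Nat.mul_le_mul (by omega) (by omega)) (Nat.mul_le_mul (by omega) (by omega))
      omega
    subst hm0
    exact ⟨hn, ⟨e⟩⟩
  · exfalso
    rw [hCV] at h3
    rw [hct] at h2
    rw [hG8] at h1
    have h3' : (4 * (φ : ℤ)) = 4 * ((4 * (m : ℤ) + 3) * (2 * m + 1)) := by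
      have := congrArg (fun x : ℕ => (x : ℤ)) h3
      push_cast at this
      linarith
    have hφ : (φ : ℤ) = (4 * (m : ℤ) + 3) * (2 * m + 1) := by linarith
    push_cast at h1 h2
    rw [hφ] at h1 h2
    have hpos : (0 : ℤ) < (4 * (m : ℤ) + 3) * (2 * m + 1) := by positivity
    have hq8 : (q : ℤ) - ε = 8 := by
      apply mul_right_cancel₀ hpos.ne'
      linarith
    have hq' : (q : ℤ) * ((q : ℤ) ^ 2 - 1) = 48 * ((8 * (m : ℤ) + 5) * (8 * m + 7)) := by
      apply mul_right_cancel₀ hpos.ne'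
      linarith
    have hm0 : (0 : ℤ) ≤ m := Int.natCast_nonneg m
    rcases hε with rfl | rfl
    · have hqv : (q : ℤ) = 9 := by linarith
      rw [hqv] at hq'
      norm_num at hq'
      rcases Nat.eq_zero_or_pos m with rfl | hmp
      · norm_num at hq'
      · have : (1 : ℤ) ≤ m := by exact_mod_cast hmp
        nlinarith
    · have hqv : (q : ℤ) = 7 := by linarith
      rw [hqv] at hq'
      norm_num at hq'
      nlinarith

end Ctx

end CfsgLib.TwoPointAltFour
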